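import Mathlib

/-!
Generated words for the simplicity proof of J1: for each element, conjugators (word, word of the inverse)
and two index lists writing the two generators as products of these conjugates.
-/

set_option autoImplicit false

namespace Cfsg.Agent.Lib.SporMatrix.J1Words

/-- (word, conjugators, expression of X, expression of Y). -/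
abbrev Cert : Type := List ℕ × List (List ℕ × List ℕ) × List ℕ × List ℕ

def cert0 : Cert :=
  ([0, 0, 1, 1, 0, 0, 0, 0, 0, 1, 0, 0, 0, 1, 0, 1, 0, 1], [([], []), ([0, 1, 0, 1, 1, 0, 0, 0, 0, 1, 0, 0, 1, 1, 0, 0], [1, 1, 0, 1, 0, 1, 1, 0, 0, 0, 1, 0, 1, 0])], [0, 0, 1, 0, 1, 0, 0, 1, 1, 0, 0, 1, 0, 0, 1, 1, 0, 1, 0, 0, 1], [0, 0, 1, 0, 1, 1, 0, 0, 1, 0, 1, 0, 1, 0, 0, 1, 0, 1, 0, 1, 1, 0, 0, 1, 0, 1, 0, 0])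

def cert1 : Cert :=
  ([1, 1, 0, 1, 0, 0, 0, 1, 0, 1, 1, 0, 0, 1, 0, 1], [([0, 1, 1, 0, 1, 0, 0, 1, 1, 0, 0, 0, 1, 1], [0, 0, 0, 0, 1, 0, 0, 0, 1, 0, 1]), ([], [])], [0, 0, 1, 1, 1, 0, 0, 0, 0, 1, 1, 1, 0, 1, 1, 1, 0], [1, 1, 0, 1, 1, 0, 0, 1, 1, 1, 0, 1, 1, 1, 0, 0, 1])

def cert2 : Cert :=
  ([1, 0, 1, 0, 1, 0, 1, 0, 1, 0, 1, 1, 0, 0], [([0, 0, 1, 1, 0, 1, 1, 1, 0, 1, 0, 1, 1, 1, 1], [0, 1, 0, 0, 0, 0, 1, 1, 0, 1, 1, 1, 1, 0]), ([], [])], [0, 0, 0, 1, 0, 0, 1, 0, 1, 1, 0, 0, 1, 1, 1, 1, 1, 1], [0, 1, 0, 1, 0, 0, 1, 0, 0, 0, 0, 0, 1, 1, 0, 1, 0])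

def cert3 : Cert :=
  ([0, 0, 0, 0, 0, 1, 0, 1, 0, 0, 1, 1, 0, 1, 1, 0, 0, 0], [([1, 1, 0, 0, 0, 1, 1, 1, 0, 1, 0, 0, 1, 0, 0, 1, 0, 1, 1], [0, 0, 1, 0, 0, 1, 0, 0, 0, 1, 0, 0, 1, 0, 1, 0, 0, 1, 0]), ([], [])], [0, 1, 0, 1, 1, 1, 0, 0, 0, 1, 1], [0, 0, 1, 0, 0, 1, 1, 0, 0, 1, 1, 0, 1, 0, 0, 1])

def cert4 : Cert :=
  ([1, 0, 1, 0, 1, 1, 0, 0, 1, 1, 1, 0, 0, 1, 0, 0, 1, 1, 1], [([], []), ([0, 0, 0, 1, 0, 0, 1, 1, 0, 1, 1, 0, 0, 0, 0, 1, 0, 1, 1], [1, 1, 0, 1, 1, 0, 1, 1, 1, 0, 1, 0, 0, 1, 0, 1, 1, 1, 0])], [0, 0, 1, 0, 1, 1, 0, 0, 0, 1, 1, 1, 0, 1, 1], [0, 1, 0, 0, 0, 0, 0, 0, 0, 1])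

def cert5 : Cert :=
  ([1, 1, 0, 1, 0, 1, 0, 0, 0, 0, 1, 0, 1, 0, 0, 0], [([1, 1, 1, 0, 1, 1, 1, 0, 0, 1, 1, 1, 1, 0, 0, 1, 1, 0], [0, 0, 0, 0, 1, 1, 0, 1, 1, 1, 0, 1, 1, 0]), ([], []), ([1, 0, 0, 1, 0, 0, 0, 1, 0, 1, 0, 0, 0, 1, 1], [1, 1, 1, 0, 0, 1, 1, 1, 0, 1, 1, 0, 0, 0, 1, 1])], [0, 1, 2, 0, 1, 2, 0, 2, 1, 0, 2, 0, 2, 1, 0, 2], [1, 0, 2, 1, 0, 1, 0, 2, 0, 1, 0, 1, 2, 1, 0, 2, 1, 0])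

def cert6 : Cert :=
  ([1, 1, 0, 0, 0, 1, 0, 0, 1], [([1, 0, 0, 1, 0, 0, 1, 1, 0, 0, 1, 1, 0, 1, 1], [1, 1, 0, 0, 1, 1, 0, 0, 1, 0, 0, 0, 1, 0]), ([], []), ([0, 1, 1, 1, 0, 1, 1, 1], [1, 1, 0, 1, 0, 0, 0, 1, 1, 1, 0, 0, 1, 0, 0])], [0, 1, 0, 2, 0, 2, 1, 2, 1, 0, 1, 0, 2, 0, 1, 0], [0, 1, 0, 2, 1, 2, 0, 1, 2, 0, 1, 2, 1, 2, 1, 2, 1])

def cert7 : Cert :=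
  ([1, 1, 1, 1, 0, 1, 1, 0, 1, 0, 0, 1, 1, 1, 0, 1, 0], [([0, 1, 1, 1, 1, 0, 0, 0, 0, 1], [0, 0, 1, 1, 1, 1, 0, 1, 0, 0]), ([0, 1, 1, 0, 0, 0, 1, 1, 1, 0, 0, 0, 1, 1, 0, 1], [1, 0, 0, 0, 1, 1, 1, 0, 0, 0, 1, 1, 0, 1, 0, 1, 1, 0, 1]), ([], [])], [0, 1, 0, 2, 0, 1, 0, 1, 2, 0, 1, 0, 2, 0, 1, 0, 1], [1, 0, 1, 0, 2, 0, 2, 0, 2, 1, 0, 1, 0, 1, 2, 0, 2, 1, 2])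

def cert8 : Cert :=
  ([0, 1, 1, 0, 0, 0, 0, 1, 1, 0, 1, 1, 0, 1, 1], [([0, 1, 0, 1, 0, 1, 1, 0, 1, 0, 0, 0, 0, 0, 1, 0], [1, 0, 1, 1, 0, 1, 0, 1, 1, 0, 1, 0, 1, 1, 0, 0]), ([1, 1, 1, 0, 0, 0, 0, 1, 1, 0, 1, 0, 0, 0, 1, 1], [1, 1, 0, 0, 0, 0, 1, 0, 0, 1, 1, 0, 0, 0, 1, 1]), ([], [])], [0, 1, 0, 2, 1, 2, 0, 2, 1, 0, 1, 0, 1, 0, 1, 2, 1, 2, 1], [2, 0, 1, 0, 1, 0, 1, 2, 0, 1, 0, 1, 2, 1, 0, 1, 0, 1, 0])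

def cert9 : Cert :=
  ([1, 0, 0, 0, 1, 0, 1, 1, 0, 0, 0, 1, 1, 1, 0, 0], [([], []), ([1, 0, 0, 1, 1, 1, 0, 1, 0, 1, 0, 0, 1, 1, 0, 1, 0], [1, 0, 0, 0, 0, 1, 0, 1, 0, 1, 0, 0, 0, 0, 1, 0, 0]), ([1, 1, 0, 0, 0, 1, 1, 1, 0, 1, 0, 0, 0, 0, 1, 0], [1, 0, 1, 1, 0, 0, 1, 0, 1, 1, 0, 1, 1, 0, 0, 1, 0, 0, 1])], [0, 1, 2, 0, 1, 0, 1, 2, 1, 0, 2, 0, 2], [1, 0, 1, 0, 1, 0, 1, 2, 1, 0, 1, 0, 2, 0, 2, 1, 2, 1])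

def cert10 : Cert :=
  ([0, 1, 0, 1, 1, 0, 0, 0, 1, 1, 1, 0, 0, 1, 0, 0], [([], []), ([1, 0, 0, 0, 1, 0, 0, 0, 0, 0, 1, 0, 1, 0, 0, 0, 1], [0, 0, 0, 0, 1, 1, 0, 0, 0, 1, 0, 1, 1, 0, 1, 1, 0, 1, 0]), ([0, 0, 0, 1, 1, 1, 0, 0, 0, 1, 1, 0, 1, 0, 0, 1], [1, 1, 0, 1, 0, 0, 0, 0, 1, 1, 0, 0, 1, 1, 0, 1])], [0, 1, 2, 1, 0, 2, 0, 1, 2, 0, 2, 1, 2, 1, 0], [2, 1, 0, 1, 2, 1, 2, 1, 2, 0, 1, 2])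

def cert11 : Cert :=
  ([1, 1, 0, 1, 1, 0, 1, 0, 0, 0, 0, 1, 0, 1, 1, 1, 0], [([0, 1, 0, 0, 1, 0, 0, 1, 0, 1, 1, 0, 0, 1, 1, 1, 0, 0, 0], [0, 1, 1, 1, 0, 1, 1, 1, 0, 0, 1, 1, 0, 1, 0, 0, 0]), ([1, 1, 0, 1, 0, 1, 0, 0, 1, 0, 1, 1, 0, 1, 1, 0, 1, 1, 1], [0, 1, 1, 0, 1, 1, 0, 1, 0, 1, 1, 0, 0, 1, 0, 0]), ([], [])], [0, 1, 0, 1, 2, 1, 2, 1, 2, 1, 2, 1, 2, 0, 1, 0, 2, 1, 0, 2, 1], [0, 1, 2, 0, 1, 0, 1, 0, 1, 0, 1, 0, 1, 0, 2, 1, 0, 2, 1, 0, 1])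

def sylowTwo : List (List ℕ) := [[], [1, 1, 0, 1, 0, 1, 0, 0, 0, 0, 1, 0, 1, 0, 0, 0], [1, 1, 0, 0, 0, 1, 0, 0, 1], [1, 1, 1, 1, 0, 1, 1, 0, 1, 0, 0, 1, 1, 1, 0, 1, 0], [0, 1, 1, 0, 0, 0, 0, 1, 1, 0, 1, 1, 0, 1, 1], [1, 0, 0, 0, 1, 0, 1, 1, 0, 0, 0, 1, 1, 1, 0, 0], [0, 1, 0, 1, 1, 0, 0, 0, 1, 1, 1, 0, 0, 1, 0, 0], [1, 1, 0, 1, 1, 0, 1, 0, 0, 0, 0, 1, 0, 1, 1, 1, 0]]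

end Cfsg.Agent.Lib.SporMatrix.J1Words
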