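import Cfsg.Prelude.Def_Spor_J1
import Cfsg.Agent.Lib.SporMatrix.J1Data
import Cfsg.Agent.Lib.SporMatrix.J1Words

/-!
The Janko group J1 as defined in `Def_Spor_J1`: its order is 175560 and it is simple.

`evJ w` is the element given by a word in the two generators (0 for X, 1 for Y); equalities and inequalities
between such elements are decided by the kernel through `evJ_eq` and `evJ_ne`.
-/

set_option autoImplicit false

namespace Cfsg.Agent.Lib.SporMatrix.J1

open Chain Code7

/-- The code of the generator X. -/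
def codeX : M7 :=
  ⟨pack 0 1 0 0 0 0 0, pack 0 0 1 0 0 0 0, pack 0 0 0 1 0 0 0, pack 0 0 0 0 1 0 0,
    pack 0 0 0 0 0 1 0, pack 0 0 0 0 0 0 1, pack 1 0 0 0 0 0 0⟩

/-- The code of the generator Y. -/
def codeY : M7 :=
  ⟨pack 8 2 10 10 8 10 8, pack 9 1 1 3 1 3 3, pack 10 10 8 10 8 8 2, pack 10 8 10 8 8 2 10,
    pack 8 10 8 8 2 10 10, pack 1 3 3 9 1 1 3, pack 3 3 9 1 1 3 1⟩

theorem val_codeX : val codeX = Cfsg.jankoMatrixX := by decide +kernel

theorem val_codeY : val codeY = Cfsg.jankoMatrixY := by decide +kernel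

theorem gensA : J1Data.lvA.gens = [codeX, codeY] := by rfl

theorem check_chain : Chain.check coding [J1Data.lvA, J1Data.lvB] = true := by decide +kernel

theorem order_chain : Chain.orderOfChain [J1Data.lvA, J1Data.lvB] = 175560 := by decide +kernel

theorem coe_injective : Function.Injective (Units.coeHom Mat) := Units.val_injective

theorem image_gens : Units.coeHom Mat '' ({Cfsg.Spor.jankoX, Cfsg.Spor.jankoY} : Set (GL (Fin 7) (ZMod 11))) =
    {m | ∃ c ∈ nextGens [J1Data.lvA, J1Data.lvB], m = coding.val c} := by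
  ext m
  simp only [nextGens, gensA, Set.image_insert_eq, Set.image_singleton, Set.mem_insert_iff,
    Set.mem_singleton_iff, Set.mem_setOf_eq, List.mem_cons, List.not_mem_nil, or_false, exists_eq_or_imp,
    exists_eq_left]
  exact Iff.of_eq (congrArg₂ (fun a b => m = a ∨ m = b) val_codeX.symm val_codeY.symm)

/-- The order of J1. -/
theorem card_J1 : Nat.card ↥Cfsg.Spor.J1 = 175560 := by
  rw [Cfsg.Spor.J1, Chain.card_closure coding (Units.coeHom Mat) coe_injective _ _ image_gens check_chain,
    order_chain]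

/-- The generator of index `i` (0: X, otherwise 1: Y). -/
def genJ : ℕ → ↥Cfsg.Spor.J1
  | 0 => ⟨Cfsg.Spor.jankoX, Subgroup.subset_closure (Set.mem_insert _ _)⟩
  | 1 => ⟨Cfsg.Spor.jankoY, Subgroup.subset_closure (Set.mem_insert_of_mem _ rfl)⟩
  | _ + 2 => 1

/-- The element given by a word. -/
def evJ : List ℕ → ↥Cfsg.Spor.J1
  | [] => 1
  | i :: is => genJ i * evJ is

theorem evJ_append : ∀ v w : List ℕ, evJ (v ++ w) = evJ v * evJ w
  | [], w => by simp [evJ]
  | i :: v, w => by simp [evJ, evJ_append v w, mul_assoc]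

/-- The code of a word. -/
def codeW (w : List ℕ) : M7 := word coding [codeX, codeY] w

theorem ok_gens : ([codeX, codeY].all coding.ok) = true := by decide +kernel

theorem ok_codeW (w : List ℕ) : coding.ok (codeW w) = true := (word_spec coding ok_gens w).1

theorem val_codeW : ∀ w : List ℕ, val (codeW w) = ((evJ w : GL (Fin 7) (ZMod 11)) : Mat)
  | [] => coding.val_one
  | i :: is => by
    have hg : val (([codeX, codeY] : List M7).getD i coding.one) = ((genJ i : GL (Fin 7) (ZMod 11)) : Mat) := by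
      match i with
      | 0 => exact val_codeX
      | 1 => exact val_codeY
      | n + 2 => exact coding.val_one
    show val (coding.mul _ _) = _
    rw [show val (coding.mul (([codeX, codeY] : List M7).getD i coding.one) (word coding [codeX, codeY] is)) =
      _ from coding.val_mul _ _ (ok_getD coding ok_gens i) (word_spec coding ok_gens is).1]
    show val _ * val (codeW is) = _
    rw [hg, val_codeW is]
    rfl

theorem evJ_eq {v w : List ℕ} (h : beq (codeW v) (codeW w) = true) : evJ v = evJ w := by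
  apply Subtype.ext
  apply Units.ext
  rw [← val_codeW, ← val_codeW, beq_eq h]

theorem evJ_ne {v w : List ℕ} (b : ℕ) (h : Nat.beq (key b (codeW v)) (key b (codeW w)) = false) :
    evJ v ≠ evJ w := by
  intro he
  have := congrArg (fun g : ↥Cfsg.Spor.J1 => ((g : GL (Fin 7) (ZMod 11)) : Mat)) he
  simp only [← val_codeW] at this
  rw [key_eq, key_eq, this] at h
  simp at h

/-- `evJ` reaches every element. -/
theorem exists_evJ (g : ↥Cfsg.Spor.J1) : g ∈ Subgroup.closure {evJ [0], evJ [1]} := by
  have h : (g : GL (Fin 7) (ZMod 11)) ∈ (Subgroup.closure {evJ [0], evJ [1]}).map (Subgroup.subtype _) := by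
    rw [MonoidHom.map_closure, Set.image_insert_eq, Set.image_singleton]
    simp only [evJ, genJ, mul_one, Subgroup.coe_subtype]
    exact g.2
  obtain ⟨x, hx, hxg⟩ := h
  rwa [← Subtype.ext hxg]

theorem closure_gens : Subgroup.closure ({evJ [0], evJ [1]} : Set ↥Cfsg.Spor.J1) = ⊤ :=
  eq_top_iff.2 fun g _ => exists_evJ g

/-- Checking that the normal closure of an element contains both generators. -/
def checkCert (c : J1Words.Cert) : Bool :=
  let cs := c.2.1.map fun u => codeW (u.1 ++ c.1 ++ u.2)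
  c.2.1.all (fun u => beq (codeW (u.1 ++ u.2)) coding.one) &&
  beq (word coding cs c.2.2.1) codeX && beq (word coding cs c.2.2.2) codeY

theorem word_map_mem (N : Subgroup ↥Cfsg.Spor.J1) [N.Normal] {a : List ℕ} (ha : evJ a ∈ N)
    (us : List (List ℕ × List ℕ)) (hus : ∀ u ∈ us, evJ (u.1 ++ u.2) = 1) : ∀ is : List ℕ,
    ∃ g ∈ N, val (word coding (us.map fun u => codeW (u.1 ++ a ++ u.2)) is) = ((g : GL (Fin 7) (ZMod 11)) : Mat) ∧
      coding.ok (word coding (us.map fun u => codeW (u.1 ++ a ++ u.2)) is) = true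
  | [] => ⟨1, one_mem _, coding.val_one, coding.ok_one⟩
  | i :: is => by
    obtain ⟨g, hg, hv, hok⟩ := word_map_mem N ha us hus is
    have hi : ∃ c ∈ N, val ((us.map fun u => codeW (u.1 ++ a ++ u.2)).getD i coding.one) =
          ((c : GL (Fin 7) (ZMod 11)) : Mat) ∧
        coding.ok ((us.map fun u => codeW (u.1 ++ a ++ u.2)).getD i coding.one) = true := by
      rw [List.getD_eq_getElem?_getD, List.getElem?_map]
      rcases hu : us[i]? with _ | u
      · exact ⟨1, one_mem _, coding.val_one, coding.ok_one⟩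
      · refine ⟨evJ (u.1 ++ a ++ u.2), ?_, val_codeW _, ok_codeW _⟩
        have h1 := hus u (List.mem_of_getElem? hu)
        rw [evJ_append] at h1
        rw [evJ_append, evJ_append, eq_inv_of_mul_eq_one_right h1]
        exact Subgroup.Normal.conj_mem ‹_› _ ha _
    obtain ⟨c, hc, hcv, hcok⟩ := hi
    refine ⟨c * g, mul_mem hc hg, ?_, coding.ok_mul _ _ hcok hok⟩
    rw [show val (word coding (us.map fun u => codeW (u.1 ++ a ++ u.2)) (i :: is)) = _ from
      coding.val_mul _ _ hcok hok]
    show val _ * val _ = _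
    rw [hcv, hv]
    rfl

theorem eq_top_of_cert (N : Subgroup ↥Cfsg.Spor.J1) [N.Normal] {c : J1Words.Cert} (hc : checkCert c = true)
    (ha : evJ c.1 ∈ N) : N = ⊤ := by
  simp only [checkCert, Bool.and_eq_true, List.all_eq_true] at hc
  obtain ⟨⟨hus, hX⟩, hY⟩ := hc
  have hus' : ∀ u ∈ c.2.1, evJ (u.1 ++ u.2) = 1 := fun u hu => by
    have h := hus u hu
    apply Subtype.ext; apply Units.ext
    rw [← val_codeW, beq_eq h]
    exact coding.val_one
  rw [eq_top_iff, ← closure_gens, Subgroup.closure_le]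
  rintro x (hx | hx) <;> rw [hx]
  · obtain ⟨g, hg, hv, -⟩ := word_map_mem N ha c.2.1 hus' c.2.2.1
    rw [beq_eq hX, val_codeX] at hv
    have : g = evJ [0] := by
      apply Subtype.ext; apply Units.ext; rw [← hv]; simp [evJ, genJ, Cfsg.Spor.jankoX]
    exact this ▸ hg
  · obtain ⟨g, hg, hv, -⟩ := word_map_mem N ha c.2.1 hus' c.2.2.2
    rw [beq_eq hY, val_codeY] at hv
    have : g = evJ [1] := by
      apply Subtype.ext; apply Units.ext; rw [← hv]; simp [evJ, genJ, Cfsg.Spor.jankoY]
    exact this ▸ hg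

theorem evJ_replicate (a : List ℕ) : ∀ n : ℕ, evJ (List.replicate n a).flatten = evJ a ^ n
  | 0 => by simp [evJ]
  | n + 1 => by rw [List.replicate_succ, List.flatten_cons, evJ_append, evJ_replicate a n, pow_succ']

theorem orderOf_evJ {q : ℕ} [Fact q.Prime] {a : List ℕ} (b : ℕ)
    (h1 : beq (codeW (List.replicate q a).flatten) (codeW []) = true)
    (h2 : Nat.beq (key b (codeW a)) (key b (codeW [])) = false) : orderOf (evJ a) = q :=
  orderOf_eq_prime (by rw [← evJ_replicate, evJ_eq h1]; rfl) (evJ_ne b h2)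

/-- If `q` divides 175560 exactly once, an element of order `q` lies in every normal subgroup of order
divisible by `q`. -/
theorem mem_of_dvd {q : ℕ} [hq : Fact q.Prime] (hfac : ¬ q ^ 2 ∣ 175560) (N : Subgroup ↥Cfsg.Spor.J1)
    [N.Normal] (hd : q ∣ Nat.card N) {g : ↥Cfsg.Spor.J1} (hg : orderOf g = q) : g ∈ N := by
  obtain ⟨n, hn⟩ := exists_prime_orderOf_dvd_card' q hd
  rw [← Subgroup.orderOf_coe] at hn
  have hcard : ∀ x : ↥Cfsg.Spor.J1, orderOf x = q →
      Nat.card (Subgroup.zpowers x) = q ^ (Nat.card ↥Cfsg.Spor.J1).factorization q := by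
    intro x hx
    have h1 : q ∣ 175560 := card_J1 ▸ hx ▸ orderOf_dvd_natCard x
    have h0 : (175560 : ℕ).factorization q = 1 := by
      refine le_antisymm ?_ (hq.out.factorization_pos_of_dvd (by norm_num) h1)
      by_contra hh
      exact hfac ((Nat.Prime.pow_dvd_iff_le_factorization hq.out (by norm_num)).2 (by omega))
    rw [card_J1, h0, pow_one, Nat.card_zpowers, hx]
  obtain ⟨u, hu⟩ := MulAction.exists_smul_eq ↥Cfsg.Spor.J1
    (Sylow.ofCard _ (hcard g hg)) (Sylow.ofCard _ (hcard _ hn))
  have hu' := congrArg (fun P : Sylow q ↥Cfsg.Spor.J1 => (P : Subgroup ↥Cfsg.Spor.J1)) hu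
  simp only [Sylow.smul_def, Sylow.pointwise_smul_def, Sylow.coe_ofCard] at hu'
  have h : u * g * u⁻¹ ∈ N := by
    have h3 : u * g * u⁻¹ ∈ Subgroup.zpowers (n : ↥Cfsg.Spor.J1) := by
      rw [← hu']
      exact ⟨g, Subgroup.mem_zpowers g, rfl⟩
    exact Subgroup.zpowers_le.2 n.2 h3
  simpa [mul_assoc] using Subgroup.Normal.conj_mem ‹_› _ h u⁻¹

/-- The fixed elementary abelian subgroup of order 8, listed. -/
def two (i : Fin 8) : ↥Cfsg.Spor.J1 := evJ (J1Words.sylowTwo.getD i.1 [])

def checkTwoMul : Bool :=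
  (List.finRange 8).all fun i => (List.finRange 8).all fun j =>
    beq (codeW (J1Words.sylowTwo.getD i.1 [] ++ J1Words.sylowTwo.getD j.1 []))
      (codeW (J1Words.sylowTwo.getD (Nat.xor i.1 j.1) []))

theorem checkTwoMul_ok : checkTwoMul = true := by decide +kernel

theorem two_mul_two (i j : Fin 8) : two i * two j = two ⟨Nat.xor i.1 j.1, Nat.xor_lt_two_pow (n := 3) i.2 j.2⟩ := by
  have := checkTwoMul_ok
  simp only [checkTwoMul, List.all_eq_true] at this
  have := evJ_eq (this i (List.mem_finRange i) j (List.mem_finRange j))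
  rwa [evJ_append] at this

theorem two_injective : Function.Injective two := by
  have h : ∀ i j : Fin 8, i = j ∨ Nat.beq (key J1Data.lvA.base (codeW (J1Words.sylowTwo.getD i.1 [])))
      (key J1Data.lvA.base (codeW (J1Words.sylowTwo.getD j.1 []))) = false := by decide +kernel
  intro i j hij
  exact (h i j).resolve_right fun hh => evJ_ne _ hh hij

theorem two_zero : two 0 = 1 := evJ_eq (v := J1Words.sylowTwo.getD 0 []) (w := []) (by decide +kernel)

/-- A Sylow 2-subgroup of J1. -/
def sylowTwoSubgroup : Subgroup ↥Cfsg.Spor.J1 where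
  carrier := Set.range two
  one_mem' := ⟨0, two_zero⟩
  mul_mem' := by
    rintro _ _ ⟨i, rfl⟩ ⟨j, rfl⟩
    exact ⟨_, (two_mul_two i j).symm⟩
  inv_mem' := by
    rintro _ ⟨i, rfl⟩
    refine ⟨i, (inv_eq_of_mul_eq_one_right ?_).symm⟩
    rw [two_mul_two, ← two_zero]
    congr 1
    apply Fin.ext
    exact Nat.xor_self _

theorem card_sylowTwoSubgroup : Nat.card sylowTwoSubgroup = 8 := by
  show Nat.card (Set.range two) = 8
  rw [Nat.card_range_of_injective two_injective, Nat.card_fin]

theorem certs_ok : checkCert J1Words.cert0 = true ∧ checkCert J1Words.cert1 = true ∧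
    checkCert J1Words.cert2 = true ∧ checkCert J1Words.cert3 = true ∧ checkCert J1Words.cert4 = true ∧
    checkCert J1Words.cert5 = true ∧ checkCert J1Words.cert6 = true ∧ checkCert J1Words.cert7 = true ∧
    checkCert J1Words.cert8 = true ∧ checkCert J1Words.cert9 = true ∧ checkCert J1Words.cert10 = true ∧
    checkCert J1Words.cert11 = true := by decide +kernel

theorem normal_eq_bot_or_top (N : Subgroup ↥Cfsg.Spor.J1) [N.Normal] : N = ⊥ ∨ N = ⊤ := by
  refine or_iff_not_imp_left.2 fun hN => ?_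
  obtain ⟨h0, h1, h2, h3, h4, h5, h6, h7, h8, h9, h10, h11⟩ := certs_ok
  obtain ⟨q, hq, hd⟩ := Nat.exists_prime_and_dvd (mt Subgroup.card_eq_one.1 hN)
  haveI := Fact.mk hq
  have hG : q ∣ 175560 := card_J1 ▸ hd.trans (Subgroup.card_subgroup_dvd_card N)
  have hmem : q ∈ ({2, 3, 5, 7, 11, 19} : Finset ℕ) := by
    have hfl : (175560 : ℕ).primeFactorsList.toFinset = {2, 3, 5, 7, 11, 19} := by
      have hperm : (175560 : ℕ).primeFactorsList.Perm [2, 2, 2, 3, 5, 7, 11, 19] :=
        (Nat.primeFactorsList_unique (by norm_num) (by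
          intro p hp; fin_cases hp <;> norm_num)).symm
      ext p
      rw [List.mem_toFinset, hperm.mem_iff]
      simp
    rw [← hfl, List.mem_toFinset, Nat.mem_primeFactorsList (by norm_num)]
    exact ⟨hq, hG⟩
  simp only [Finset.mem_insert, Finset.mem_singleton] at hmem
  rcases hmem with rfl | rfl | rfl | rfl | rfl | rfl
  · obtain ⟨n, hn⟩ := exists_prime_orderOf_dvd_card' 2 hd
    rw [← Subgroup.orderOf_coe] at hn
    have hz : IsPGroup 2 (Subgroup.zpowers (n : ↥Cfsg.Spor.J1)) :=
      IsPGroup.of_card (n := 1) (by rw [Nat.card_zpowers, hn, pow_one])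
    obtain ⟨P, hP⟩ := hz.exists_le_sylow
    have h8' : Nat.card sylowTwoSubgroup = 2 ^ (Nat.card ↥Cfsg.Spor.J1).factorization 2 := by
      rw [card_sylowTwoSubgroup, card_J1]
      have : (175560 : ℕ).factorization 2 = 3 := by
        rw [show (175560 : ℕ) = 2 ^ 3 * 21945 by norm_num, Nat.factorization_mul (by norm_num) (by norm_num),
          Nat.Prime.factorization_pow Nat.prime_two]
        simp [Nat.factorization_eq_zero_of_not_dvd (show ¬ 2 ∣ 21945 by norm_num)]
      rw [this]; norm_num
    obtain ⟨u, hu⟩ := MulAction.exists_smul_eq ↥Cfsg.Spor.J1 P (Sylow.ofCard _ h8')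
    have hu' := congrArg (fun P : Sylow 2 ↥Cfsg.Spor.J1 => (P : Subgroup ↥Cfsg.Spor.J1)) hu
    simp only [Sylow.smul_def, Sylow.pointwise_smul_def, Sylow.coe_ofCard] at hu'
    have hm : u * n * u⁻¹ ∈ sylowTwoSubgroup := by
      rw [← hu']
      exact ⟨n, hP (Subgroup.mem_zpowers _), rfl⟩
    obtain ⟨i, hi⟩ := hm
    have hiN : two i ∈ N := hi ▸ Subgroup.Normal.conj_mem ‹_› _ n.2 u
    have hi0 : i ≠ 0 := by
      rintro rfl
      rw [two_zero] at hi
      have : (n : ↥Cfsg.Spor.J1) = 1 := by
        have := congrArg (fun x => u⁻¹ * x * u) hi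
        simpa [mul_assoc] using this.symm
      rw [this, orderOf_one] at hn
      norm_num at hn
    fin_cases i
    · exact absurd rfl hi0
    · exact eq_top_of_cert N h5 hiN
    · exact eq_top_of_cert N h6 hiN
    · exact eq_top_of_cert N h7 hiN
    · exact eq_top_of_cert N h8 hiN
    · exact eq_top_of_cert N h9 hiN
    · exact eq_top_of_cert N h10 hiN
    · exact eq_top_of_cert N h11 hiN
  · haveI : Fact (Nat.Prime 3) := ⟨by norm_num⟩
    exact eq_top_of_cert N h0 (mem_of_dvd (by norm_num) N hd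
      (orderOf_evJ (a := J1Words.cert0.1) J1Data.lvB.base (by decide +kernel) (by decide +kernel)))
  · haveI : Fact (Nat.Prime 5) := ⟨by norm_num⟩
    exact eq_top_of_cert N h1 (mem_of_dvd (by norm_num) N hd
      (orderOf_evJ (a := J1Words.cert1.1) J1Data.lvB.base (by decide +kernel) (by decide +kernel)))
  · haveI : Fact (Nat.Prime 7) := ⟨by norm_num⟩
    exact eq_top_of_cert N h2 (mem_of_dvd (by norm_num) N hd
      (orderOf_evJ (a := J1Words.cert2.1) J1Data.lvB.base (by decide +kernel) (by decide +kernel)))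
  · haveI : Fact (Nat.Prime 11) := ⟨by norm_num⟩
    exact eq_top_of_cert N h3 (mem_of_dvd (by norm_num) N hd
      (orderOf_evJ (a := J1Words.cert3.1) J1Data.lvB.base (by decide +kernel) (by decide +kernel)))
  · haveI : Fact (Nat.Prime 19) := ⟨by norm_num⟩
    exact eq_top_of_cert N h4 (mem_of_dvd (by norm_num) N hd
      (orderOf_evJ (a := J1Words.cert4.1) J1Data.lvB.base (by decide +kernel) (by decide +kernel)))

/-- J1 is simple. -/
theorem isSimpleGroup_J1 : IsSimpleGroup ↥Cfsg.Spor.J1 where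
  exists_pair_ne := ⟨two 0, two 1, two_injective.ne (by decide)⟩
  eq_bot_or_eq_top_of_normal N _ := normal_eq_bot_or_top N

/-- J1 is not abelian. -/
theorem not_comm_J1 : ∃ a b : ↥Cfsg.Spor.J1, a * b ≠ b * a :=
  ⟨evJ [0], evJ [1], by
    rw [← evJ_append, ← evJ_append]
    exact evJ_ne J1Data.lvA.base (by decide +kernel)⟩

end Cfsg.Agent.Lib.SporMatrix.J1
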