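import Cfsg.Agent.Lib.SporMatrix.CoverAltEightBase

/-!
The double cover of A₈ inside A₈ × GL₈(3): centre of order 2, non-split, two involutions.
-/

set_option autoImplicit false

namespace Cfsg.Agent.Lib.SporMatrix.CoverAltEight

attribute [local irreducible] liftMat gam octL

/-- A matrix commuting with all the e_j e_k is a scalar. -/
theorem scalar_of_comm {M : Mat} (h : ∀ j k, M * gam j k = gam j k * M) : M = M 0 0 • (1 : Mat) := by
  have hL : ∀ a, M * octL a = octL a * M := fun a => by rw [← gam_zero]; exact h 0 a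
  have hoff : ∀ w z, w ≠ z → M w z = 0 := by
    intro w z hwz
    obtain ⟨a, b, c, hd, hne⟩ := (exists_diag w z).resolve_left hwz
    have hc : M * (octL a * (octL b * octL c)) = octL a * (octL b * octL c) * M := by
      simp only [← mul_assoc, hL a]
      simp only [mul_assoc]
      rw [← mul_assoc M, hL b, mul_assoc, hL c]
    have h1 := congrFun (congrFun hc w) z
    rw [Matrix.mul_apply, Matrix.mul_apply,
      Finset.sum_eq_single z (fun i _ hi => by rw [hd i z hi, mul_zero]) (by simp),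
      Finset.sum_eq_single w (fun i _ hi => by rw [hd w i (Ne.symm hi), zero_mul]) (by simp)] at h1
    by_contra hm
    exact hne (mul_left_cancel₀ hm (by linear_combination h1)).symm
  ext w z
  rw [Matrix.smul_apply, Matrix.one_apply, smul_eq_mul]
  split
  · next hwz =>
    subst hwz
    have h1 := congrFun (congrFun (hL w) w) 0
    rw [Matrix.mul_apply, Matrix.mul_apply,
      Finset.sum_eq_single w (fun i _ hi => by rw [(octL_col w i).2.1 hi, mul_zero]) (by simp),
      Finset.sum_eq_single 0 (fun i _ hi => by rw [(octL_col w i).2.2 hi, zero_mul]) (by simp)] at h1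
    rw [mul_one]
    exact mul_right_cancel₀ (octL_col w 0).1 (by linear_combination h1)
  · next hwz => rw [hoff _ _ hwz, mul_zero]

/-- The generator over adj 0 * adj q. -/
def gen (q : Fin 7) : alternatingGroup (Fin 8) × GL (Fin 8) (ZMod 3) :=
  (⟨adj 0 * adj q, by
      rw [Equiv.Perm.mem_alternatingGroup, map_mul, adj, adj, Equiv.Perm.sign_swap (Fin.castSucc_lt_succ).ne,
        Equiv.Perm.sign_swap (Fin.castSucc_lt_succ).ne]
      decide⟩,
    ⟨liftMat 0 q, liftMat q 0, (lift_mul_inv q).1, (lift_mul_inv q).2⟩)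

/-- The cover. -/
def cover : Subgroup (alternatingGroup (Fin 8) × GL (Fin 8) (ZMod 3)) := Subgroup.closure (Set.range gen)

/-- The projection. -/
def proj : ↥cover →* alternatingGroup (Fin 8) := (MonoidHom.fst _ _).comp cover.subtype

theorem conj_gam {x : alternatingGroup (Fin 8) × GL (Fin 8) (ZMod 3)} (hx : x ∈ cover) (j k : Fin 8) :
    (x.2 : Mat) * gam j k = gam ((x.1 : Equiv.Perm (Fin 8)) j) ((x.1 : Equiv.Perm (Fin 8)) k) * (x.2 : Mat) := by
  revert j k
  unfold cover at hx
  induction hx using Subgroup.closure_induction with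
  | mem y hy => obtain ⟨q, rfl⟩ := hy; exact lift_conj q
  | one => intro j k; simp
  | mul a b _ _ ha hb =>
    intro j k
    show ((a.2 : Mat) * (b.2 : Mat)) * gam j k = _
    rw [mul_assoc, hb, ← mul_assoc, ha, mul_assoc]
    rfl
  | inv a _ ha =>
    intro j k
    have h := ha (((a.1 : Equiv.Perm (Fin 8))⁻¹) j) (((a.1 : Equiv.Perm (Fin 8))⁻¹) k)
    simp only [show ∀ i, (a.1 : Equiv.Perm (Fin 8)) (((a.1 : Equiv.Perm (Fin 8))⁻¹) i) = i from
      fun i => Equiv.apply_symm_apply _ i] at h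
    calc ((a.2⁻¹ : GL (Fin 8) (ZMod 3)) : Mat) * gam j k
        = ((a.2⁻¹ : GL (Fin 8) (ZMod 3)) : Mat) * (gam j k * (a.2 : Mat)) * ((a.2⁻¹ : GL (Fin 8) (ZMod 3)) : Mat) := by
          simp only [mul_assoc, Units.mul_inv, mul_one]
      _ = gam (((a.1 : Equiv.Perm (Fin 8))⁻¹) j) (((a.1 : Equiv.Perm (Fin 8))⁻¹) k) *
            ((a.2⁻¹ : GL (Fin 8) (ZMod 3)) : Mat) := by
          rw [← h, ← mul_assoc, Units.inv_mul, one_mul]

/-- An element over 1 is ±1. -/
theorem ker_eq {x : ↥cover} (hx : proj x = 1) : (x.1.2 : Mat) = 1 ∨ (x.1.2 : Mat) = -1 := by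
  have h1 : (x.1.1 : Equiv.Perm (Fin 8)) = 1 := congrArg Subtype.val hx
  have hs := scalar_of_comm fun j k => by simpa [h1] using conj_gam x.2 j k
  have hdet : (x.1.2 : Mat) ≠ 0 := fun h => by
    have := Units.mul_inv x.1.2
    rw [h, zero_mul] at this
    exact zero_ne_one this
  generalize (x.1.2 : Mat) = M at hs hdet ⊢
  have key : ∀ c : ZMod 3, c = 0 ∨ c = 1 ∨ c = -1 := by decide
  rcases key (M 0 0) with h | h | h <;> rw [h] at hs
  · rw [zero_smul] at hs; exact absurd hs hdet
  · left; rw [hs, one_smul]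
  · right; rw [hs, neg_smul, one_smul]

theorem adj_mul_self (p : Fin 7) : adj p * adj p = 1 := Equiv.swap_mul_self _ _

theorem proj_surjective : Function.Surjective proj := by
  intro a
  have hgen : ∀ q, adj 0 * adj q ∈ (proj.range.map (alternatingGroup (Fin 8)).subtype) :=
    fun q => ⟨(gen q).1, ⟨⟨gen q, Subgroup.subset_closure ⟨q, rfl⟩⟩, rfl⟩, rfl⟩
  set A := proj.range.map (alternatingGroup (Fin 8)).subtype
  suffices ∀ g : Equiv.Perm (Fin 8), (Equiv.Perm.sign g = 1 → g ∈ A) ∧ (Equiv.Perm.sign g = -1 → adj 0 * g ∈ A) by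
    obtain ⟨b, ⟨x, rfl⟩, hb⟩ := (this a.1).1 (Equiv.Perm.mem_alternatingGroup.1 a.2)
    exact ⟨x, Subtype.ext hb⟩
  intro g
  have hg : g ∈ Submonoid.closure (Set.range fun i : Fin 7 => Equiv.swap i.castSucc i.succ) := by
    rw [Equiv.Perm.mclosure_swap_castSucc_succ]; exact Submonoid.mem_top _
  induction hg using Submonoid.closure_induction_left with
  | one => exact ⟨fun _ => one_mem _, fun h => by simp at h⟩
  | mul_left s hs y _ ih =>
    obtain ⟨p, rfl⟩ := hs
    show (Equiv.Perm.sign (adj p * y) = 1 → _) ∧ (Equiv.Perm.sign (adj p * y) = -1 → _)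
    have hsg : Equiv.Perm.sign (adj p) = -1 := Equiv.Perm.sign_swap (Fin.castSucc_lt_succ).ne
    refine ⟨fun h => ?_, fun h => ?_⟩
    · rw [map_mul, hsg, neg_one_mul, neg_eq_iff_eq_neg] at h
      have he : adj p * y = (adj 0 * adj p)⁻¹ * (adj 0 * y) := by
        rw [mul_inv_rev, mul_assoc, inv_mul_cancel_left, inv_eq_of_mul_eq_one_right (adj_mul_self p)]
      show adj p * y ∈ A
      rw [he]
      exact mul_mem (inv_mem (hgen p)) (ih.2 h)
    · rw [map_mul, hsg, neg_one_mul, neg_inj] at h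
      show adj 0 * (adj p * y) ∈ A
      rw [← mul_assoc]
      exact mul_mem (hgen p) (ih.1 h)

theorem ext_cover {x y : ↥cover} (h1 : proj x = proj y) (h2 : (x.1.2 : Mat) = (y.1.2 : Mat)) : x = y :=
  Subtype.ext (Prod.ext h1 (Units.ext h2))

/-- The generator as an element of the cover. -/
def lift (q : Fin 7) : ↥cover := ⟨gen q, Subgroup.subset_closure ⟨q, rfl⟩⟩

/-- The central involution. -/
def zed : ↥cover := lift 2 * lift 2

theorem proj_zed : proj zed = 1 := Subtype.ext (square_gen 2 (by decide)).2.1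

theorem zed_mat : (zed.1.2 : Mat) = -1 := (square_gen 2 (by decide)).1

theorem eq_zed {x : ↥cover} (hx : proj x = 1) : x = 1 ∨ x = zed := by
  rcases ker_eq hx with h | h
  · exact Or.inl (ext_cover (by rw [hx, map_one]) h)
  · exact Or.inr (ext_cover (by rw [hx, proj_zed]) (by rw [h, zed_mat]))

theorem zed_ne_one : zed ≠ 1 := fun h => negOne_ne (by rw [← zed_mat, h]; rfl)

theorem orderOf_zed : orderOf zed = 2 := by
  haveI : Fact (Nat.Prime 2) := ⟨Nat.prime_two⟩
  refine orderOf_eq_prime ?_ zed_ne_one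
  rw [sq]
  refine ext_cover (by rw [map_mul, proj_zed, one_mul, map_one]) ?_
  show (zed.1.2 : Mat) * (zed.1.2 : Mat) = 1
  rw [zed_mat, neg_mul_neg, one_mul]

theorem zed_central : zed ∈ Subgroup.center ↥cover :=
  Subgroup.mem_center_iff.2 fun y => ext_cover (by rw [map_mul, map_mul, proj_zed, mul_one, one_mul]) (by
    show ((y.1.2 * zed.1.2 : GL (Fin 8) (ZMod 3)) : Mat) = ((zed.1.2 * y.1.2 : GL (Fin 8) (ZMod 3)) : Mat)
    rw [Units.val_mul, Units.val_mul, zed_mat, mul_neg, mul_one, neg_mul, one_mul])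

theorem center_alt {a : alternatingGroup (Fin 8)} (ha : a ∈ Subgroup.center (alternatingGroup (Fin 8))) : a = 1 := by
  have h := alternatingGroup.center_eq_bot (α := Fin 8) (by simp)
  rw [h, Subgroup.mem_bot] at ha
  exact ha

theorem ker_proj : proj.ker = Subgroup.center ↥cover := by
  ext x
  refine ⟨fun hx => ?_, fun hx => ?_⟩
  · rcases eq_zed (MonoidHom.mem_ker.1 hx) with rfl | rfl
    exacts [one_mem _, zed_central]
  · refine MonoidHom.mem_ker.2 (center_alt (Subgroup.mem_center_iff.2 fun a => ?_))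
    obtain ⟨y, rfl⟩ := proj_surjective a
    rw [← map_mul, ← map_mul, Subgroup.mem_center_iff.1 hx y]

theorem card_center : Nat.card (Subgroup.center ↥cover) = 2 := by
  rw [← ker_proj]
  have h : proj.ker = Subgroup.zpowers zed := by
    refine le_antisymm (fun x hx => ?_) (Subgroup.zpowers_le.2 (MonoidHom.mem_ker.2 proj_zed))
    rcases eq_zed (MonoidHom.mem_ker.1 hx) with rfl | rfl
    exacts [one_mem _, Subgroup.mem_zpowers _]
  rw [h, Nat.card_zpowers, orderOf_zed]

theorem nonsplit (L : Subgroup ↥cover) : ¬ (Subgroup.center ↥cover).IsComplement' L := by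
  intro h
  obtain ⟨c, hc⟩ : ∃ c : ↥(Subgroup.center ↥cover) × ↥L, (c.1 : ↥cover) * c.2 = lift 2 :=
    ⟨_, (h.existsUnique (lift 2)).choose_spec.1⟩
  have hsq : (c.2 : ↥cover) * c.2 = zed := by
    have e : (c.2 : ↥cover) = (c.1 : ↥cover)⁻¹ * lift 2 := by rw [← hc]; group
    have hz := Subgroup.mem_center_iff.1 (inv_mem c.1.2) (lift 2)
    have h1 : (c.1 : ↥cover)⁻¹ * (c.1 : ↥cover)⁻¹ = 1 := by
      rcases eq_zed (MonoidHom.mem_ker.1 (show (c.1 : ↥cover)⁻¹ ∈ proj.ker by
          rw [ker_proj]; exact inv_mem c.1.2)) with h | h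
      · rw [h, one_mul]
      · rw [h, ← sq, ← orderOf_zed, pow_orderOf_eq_one]
    calc (c.2 : ↥cover) * c.2 = (c.1 : ↥cover)⁻¹ * (lift 2 * (c.1 : ↥cover)⁻¹) * lift 2 := by
          rw [e]; simp only [mul_assoc]
      _ = (c.1 : ↥cover)⁻¹ * (c.1 : ↥cover)⁻¹ * zed := by rw [hz, zed]; simp only [mul_assoc]
      _ = zed := by rw [h1, one_mul]
  have hzL : zed ∈ L := hsq ▸ mul_mem c.2.2 c.2.2
  exact zed_ne_one (Subgroup.mem_bot.1 (h.disjoint.le_bot ⟨zed_central, hzL⟩))

/-- A second involution, over (01)(23)(45)(67). -/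
def four : ↥cover := lift 2 * ((lift 4)⁻¹ * lift 6)

theorem orderOf_four : orderOf four = 2 ∧ zed ≠ four := by
  have hm : (four.1.2 : Mat) = liftMat 0 2 * (liftMat 4 0 * liftMat 0 6) := rfl
  have hp : proj (four * four) = proj 1 := by rw [map_one]; exact Subtype.ext (by decide +kernel)
  haveI : Fact (Nat.Prime 2) := ⟨Nat.prime_two⟩
  refine ⟨orderOf_eq_prime ?_ ?_, ?_⟩
  · rw [sq]
    refine ext_cover hp ?_
    show (four.1.2 : Mat) * (four.1.2 : Mat) = 1
    rw [hm]; exact four_square.1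
  · intro h
    apply four_square.2.1
    rw [← hm, h]; rfl
  · intro h
    apply four_square.2.2
    rw [← hm, ← h, zed_mat]

end Cfsg.Agent.Lib.SporMatrix.CoverAltEight
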