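import Cfsg.Agent.Lib.SporMatrix.J3
import Cfsg.Agent.Lib.SporMatrix.J3SubData

/-!
A subgroup of 3·J₃ of order 24480 containing the centre, and the action of 3·J₃ on its 6156 cosets.
-/

set_option autoImplicit false

namespace Cfsg.Agent.Lib.SporMatrix.J3

open Cfsg.Spor Code9 J3Data J3Check J3SubData

variable {F : Type*} [Field F] {ω : F}

open Classical in
/-- The code of a vector, or a value out of range. -/
noncomputable def keyOf (t : F9 → F) : ℕ :=
  if h : ∃ v, v < 2 ^ 18 ∧ decV ω v = t then h.choose else 2 ^ 18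

/-- The code of the image of a coded vector under a matrix. -/
noncomputable def vecKey (b : ℕ) (m : Matrix F9 F9 F) : ℕ := keyOf (ω := ω) (Matrix.mulVec m (decV ω b))

section

variable (hg : Good F ω)

include hg

theorem vecKey_eq (b : ℕ) {a : ℕ} (ha : ok a = true) : vecKey (ω := ω) b (dec ω a) = apply a b := by
  have hex : ∃ v, v < 2 ^ 18 ∧ decV ω v = Matrix.mulVec (dec ω a) (decV ω b) :=
    ⟨_, apply_lt a b, decV_apply ω hg.two hg.eqn ha b⟩
  rw [vecKey, keyOf, dif_pos hex]
  exact decV_injective ω hg.two hg.eqn hex.choose_spec.1 (apply_lt a b)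
    (hex.choose_spec.2.trans (decV_apply ω hg.two hg.eqn ha b).symm)

/-- The coding of matrices by packed numbers, with vectors as keys. -/
noncomputable def coding : Chain.Coding (Matrix F9 F9 F) ℕ where
  val := dec ω
  one := Code9.one
  mul := Code9.mul
  beq := Nat.beq
  ok := ok
  key b a := apply a b
  phi := vecKey (ω := ω)
  val_one := dec_one ω
  ok_one := Code9.ok_one
  val_mul _ b ha _ := dmul hg ha b
  ok_mul _ _ ha hb := okMul hg ha hb
  beq_val _ _ h := congrArg (dec ω) (Nat.eq_of_beq_eq_true h)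
  key_val b _ ha := (vecKey_eq hg b ha).symm
  phi_congr b x y h := by
    have hex : ∃ v, v < 2 ^ 18 ∧ decV ω v = Matrix.mulVec (1 : Matrix F9 F9 F) (decV ω b) :=
      ⟨_, apply_lt Code9.one b, by rw [decV_apply ω hg.two hg.eqn Code9.ok_one, dec_one]⟩
    have hy : ∃ v, v < 2 ^ 18 ∧ decV ω v = Matrix.mulVec y (decV ω b) := by
      by_contra hno
      rw [vecKey, keyOf, dif_neg hno, vecKey, keyOf, dif_pos hex] at h
      exact absurd h (Nat.ne_of_gt hex.choose_spec.1)
    have h' : Matrix.mulVec y (decV ω b) = Matrix.mulVec (1 : Matrix F9 F9 F) (decV ω b) := by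
      rw [vecKey, keyOf, dif_pos hy, vecKey, keyOf, dif_pos hex] at h
      rw [← hy.choose_spec.2, h, hex.choose_spec.2]
    have e : Matrix.mulVec (x * y) (decV ω b) = Matrix.mulVec x (decV ω b) := by
      rw [← Matrix.mulVec_mulVec, h', Matrix.one_mulVec]
    simp only [vecKey, e]

end

/-- The kernel part: the tables form a chain, evaluated without mentioning the field. -/
def checkSubLevel (L : Chain.Level ℕ) (rest : List (Chain.Level ℕ)) : Bool :=
  L.gens.all ok &&
  L.tree.all (fun en => ok en.elem) &&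
  L.tree.all (fun en => bif Nat.beq en.depth 0 then Nat.beq en.elem Code9.one
    else Nat.blt (L.tree.get en.par).depth en.depth &&
      Nat.beq en.elem (Code9.mul (L.gens.getD en.sg Code9.one) (L.tree.get en.par).elem)) &&
  L.tree.all (fun en => closeB L rest en.elem L.gens en.close) &&
  Nat.beq (L.tree.get 0).depth 0 &&
  Nat.beq L.sorted.length L.tree.size &&
  Chain.increasing (L.sorted.map fun i => apply (L.tree.get i).elem L.base) &&
  downB L (Chain.nextGens rest) L.down
where
  wordB (gs : List ℕ) : List ℕ → ℕ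
    | [] => Code9.one
    | i :: is => Code9.mul (gs.getD i Code9.one) (wordB gs is)
  prodB : List (Chain.Level ℕ) → List ℕ → ℕ
    | [], _ => Code9.one
    | _ :: _, [] => Code9.one
    | L :: rest, i :: is => Code9.mul (L.tree.get i).elem (prodB rest is)
  closeB (L : Chain.Level ℕ) (rest : List (Chain.Level ℕ)) (e : ℕ) : List ℕ → List (ℕ × List ℕ) → Bool
    | [], [] => true
    | g :: gs, t :: ts =>
      Nat.beq (Code9.mul g e) (Code9.mul (L.tree.get t.1).elem (prodB rest t.2)) && closeB L rest e gs ts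
    | _, _ => false
  downB (L : Chain.Level ℕ) : List ℕ → List (List ℕ) → Bool
    | [], [] => true
    | g :: gs, w :: ws =>
      Nat.beq g (wordB L.gens w) && Nat.beq (apply g L.base) (apply Code9.one L.base) && downB L gs ws
    | _, _ => false

theorem subB : checkSubLevel lvA [lvB] = true ∧ checkSubLevel lvB [] = true := by
  constructor <;> decide +kernel

theorem sub_order : Chain.orderOfChain [lvA, lvB] = 24480 := by decide +kernel

theorem sub_gens : lvA.gens = [elC elem17, elC elemK, scC 1] := by decide +kernel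

section

variable (hg : Good F ω)

include hg

theorem wordB_eq (gs : List ℕ) : ∀ w, checkSubLevel.wordB gs w = Chain.word (coding hg) gs w
  | [] => rfl
  | _ :: is => by rw [checkSubLevel.wordB, wordB_eq gs is]; rfl

theorem prodB_eq : ∀ (Ls : List (Chain.Level ℕ)) (w : List ℕ),
    checkSubLevel.prodB Ls w = Chain.prodOf (coding hg) Ls w
  | [], _ => rfl
  | _ :: _, [] => rfl
  | _ :: rest, _ :: is => by rw [checkSubLevel.prodB, prodB_eq rest is]; rfl

theorem closeB_eq (L : Chain.Level ℕ) (rest : List (Chain.Level ℕ)) (e : ℕ) :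
    ∀ gs ts, checkSubLevel.closeB L rest e gs ts = Chain.checkClose (coding hg) L rest e gs ts
  | [], [] => rfl
  | [], _ :: _ => rfl
  | _ :: _, [] => rfl
  | g :: gs, t :: ts => by
    rw [checkSubLevel.closeB, closeB_eq L rest e gs ts, prodB_eq hg]; rfl

theorem downB_eq (L : Chain.Level ℕ) :
    ∀ gs ws, checkSubLevel.downB L gs ws = Chain.checkDown (coding hg) L gs ws
  | [], [] => rfl
  | [], _ :: _ => rfl
  | _ :: _, [] => rfl
  | g :: gs, w :: ws => by
    rw [checkSubLevel.downB, downB_eq L gs ws, wordB_eq hg]; rfl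

theorem checkSubLevel_eq (L : Chain.Level ℕ) (rest : List (Chain.Level ℕ)) :
    checkSubLevel L rest = Chain.checkLevel (coding hg) L rest := by
  simp only [checkSubLevel, closeB_eq hg, downB_eq hg]
  rfl

theorem sub_check : Chain.check (coding hg) [lvA, lvB] = true := by
  simp only [Chain.check, ← checkSubLevel_eq hg, subB.1, subB.2, Bool.and_self]

/-- A subgroup of order 24480 containing the centre. -/
theorem exists_sub [Finite F] : ∃ K : Subgroup ↥(threeJ3 F ω),
    Nat.card K = 24480 ∧ Subgroup.center ↥(threeJ3 F ω) ≤ K := by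
  obtain ⟨a, ha⟩ := exists_el hg elem17
  obtain ⟨b, hb⟩ := exists_el hg elemK
  obtain ⟨c, hc⟩ := exists_el hg (scalars.getD 1 ⟨0, 0, 0, 0, 0⟩)
  refine ⟨Subgroup.closure {a, b, c}, ?_, ?_⟩
  · rw [← sub_order]
    refine Chain.card_closure (coding hg) toMat toMat_injective _ _ ?_ (sub_check hg)
    ext m
    simp only [Chain.nextGens, sub_gens, Set.image_insert_eq, Set.image_singleton, ha.2, hb.2, hc.2,
      Set.mem_insert_iff, Set.mem_singleton_iff, Set.mem_setOf_eq, List.mem_cons, List.not_mem_nil, or_false]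
    constructor
    · rintro (rfl | rfl | rfl)
      exacts [⟨_, Or.inl rfl, rfl⟩, ⟨_, Or.inr (Or.inl rfl), rfl⟩, ⟨_, Or.inr (Or.inr rfl), rfl⟩]
    · rintro ⟨d, (rfl | rfl | rfl), rfl⟩
      exacts [Or.inl rfl, Or.inr (Or.inl rfl), Or.inr (Or.inr rfl)]
  · intro x hx
    obtain ⟨k, hk, hxk⟩ := scalar_of_comm hg hx
    have hcm : c ∈ Subgroup.closure {a, b, c} := Subgroup.subset_closure (by simp)
    have hpow : ∀ k < 3, powC (scC 1) k = scC k := by decide +kernel
    have : x = c ^ k := HasCode.ext hxk (hpow k hk ▸ HasCode.pow' hg hc k)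
    rw [this]
    exact pow_mem hcm k

/-- J₃ as a transitive group of degree 6156. -/
theorem exists_perm [Finite F] : ∃ H : Subgroup (Equiv.Perm (Fin 6156)),
    Nonempty (Cfsg.Spor.J3 F ω ≃* H) ∧ MulAction.IsPretransitive H (Fin 6156) ∧
      Nat.card (MulAction.stabilizer H (0 : Fin 6156)) = 8160 := by
  obtain ⟨K, hK, hle⟩ := exists_sub hg
  have hidx : Nat.card (↥(threeJ3 F ω) ⧸ K) = 6156 := by
    have h := Subgroup.card_eq_card_quotient_mul_card_subgroup K
    rw [card_threeJ3 hg, hK] at h
    omega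
  haveI : Finite (↥(threeJ3 F ω) ⧸ K) := Nat.finite_of_card_ne_zero (by rw [hidx]; norm_num)
  obtain ⟨e⟩ : Nonempty ((↥(threeJ3 F ω) ⧸ K) ≃ Fin 6156) := ⟨(Finite.equivFinOfCardEq hidx)⟩
  let φ : ↥(threeJ3 F ω) →* Equiv.Perm (Fin 6156) :=
    e.permCongrHom.toMonoidHom.comp (MulAction.toPermHom ↥(threeJ3 F ω) (↥(threeJ3 F ω) ⧸ K))
  have hker : φ.ker = Subgroup.center ↥(threeJ3 F ω) := by
    have hsub : φ.ker ≤ K := by
      intro x hx
      have h1 : MulAction.toPermHom ↥(threeJ3 F ω) (↥(threeJ3 F ω) ⧸ K) x = 1 :=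
        e.permCongrHom.injective ((MonoidHom.mem_ker.1 hx).trans (map_one _).symm)
      have h2 := congrArg (fun p : Equiv.Perm (↥(threeJ3 F ω) ⧸ K) => p ((1 : ↥(threeJ3 F ω)) : _ ⧸ K)) h1
      simpa [MulAction.Quotient.smul_coe, QuotientGroup.eq] using h2
    have hcen : Subgroup.center ↥(threeJ3 F ω) ≤ φ.ker := by
      intro z hz
      rw [MonoidHom.mem_ker]
      have : MulAction.toPermHom ↥(threeJ3 F ω) (↥(threeJ3 F ω) ⧸ K) z = 1 := by
        ext q
        induction q using QuotientGroup.induction_on with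
        | H g =>
          show z • (g : ↥(threeJ3 F ω) ⧸ K) = g
          rw [MulAction.Quotient.smul_coe, QuotientGroup.eq, smul_eq_mul,
            ← Subgroup.mem_center_iff.1 hz g, mul_inv_rev, mul_assoc, inv_mul_cancel, mul_one]
          exact inv_mem (hle hz)
      show e.permCongrHom.toMonoidHom (MulAction.toPermHom _ _ z) = 1
      rw [this, map_one]
    refine le_antisymm (by_contra fun hne => ?_) hcen
    have htop := top_le_iff.1 (normal_eq_top hg φ.ker hcen hne ▸ hsub)
    rw [htop, Subgroup.card_top, card_threeJ3 hg] at hK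
    norm_num at hK
  have iso : Cfsg.Spor.J3 F ω ≃* φ.range :=
    (QuotientGroup.quotientMulEquivOfEq hker.symm).trans (QuotientGroup.quotientKerEquivRange φ)
  haveI htr : MulAction.IsPretransitive φ.range (Fin 6156) := by
    refine ⟨fun x y => ?_⟩
    obtain ⟨g, hgxy⟩ := MulAction.exists_smul_eq ↥(threeJ3 F ω) (e.symm x) (e.symm y)
    refine ⟨⟨φ g, g, rfl⟩, ?_⟩
    show e (g • e.symm x) = y
    rw [hgxy, Equiv.apply_symm_apply]
  refine ⟨φ.range, ⟨iso⟩, htr, ?_⟩
  have hH : Nat.card φ.range = 50232960 := by rw [← Nat.card_congr iso.toEquiv]; exact card_J3 hg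
  have hi := MulAction.index_stabilizer_of_transitive φ.range (0 : Fin 6156)
  rw [Nat.card_fin] at hi
  have := Subgroup.card_mul_index (MulAction.stabilizer φ.range (0 : Fin 6156))
  rw [hi, hH] at this
  omega

end

end Cfsg.Agent.Lib.SporMatrix.J3
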