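import Cfsg.Agent.Lib.SporMatrix.J3Group
import Cfsg.Agent.Lib.PGroups.Omega

/-!
3·J₃ as defined in `Def_Spor_J3` has order 150698880 and centre the three scalars; the quotient J₃ is
simple and not abelian, of order 50232960.
-/

set_option autoImplicit false

namespace Cfsg.Agent.Lib.SporMatrix.J3

open Cfsg.Spor Code9 J3Data J3Check

variable {F : Type*} [Field F] {ω : F}

/-- The matrix of an element. -/
def toMat : ↥(threeJ3 F ω) →* Matrix F9 F9 F := (Units.coeHom _).comp (threeJ3 F ω).subtype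

theorem toMat_injective : Function.Injective (toMat (F := F) (ω := ω)) := fun _ _ h =>
  Subtype.ext (Units.ext h)

/-- `x` has the code `c`. -/
def HasCode (x : ↥(threeJ3 F ω)) (c : ℕ) : Prop := ok c = true ∧ toMat x = dec ω c

theorem elC_zero : elC ⟨0, 0, 0, 0, 0⟩ = Code9.one := by decide +kernel

theorem increasingB_lt : ∀ {l : List ℕ} {a : ℕ}, increasingB (a :: l) = true → ∀ b ∈ l, a < b
  | [], _, _, _, hb => absurd hb List.not_mem_nil
  | c :: l, a, h, b, hb => by
    simp only [increasingB, Bool.and_eq_true, Nat.blt_eq] at h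
    rcases List.mem_cons.1 hb with rfl | hb
    · exact h.1
    · exact h.1.trans (increasingB_lt h.2 b hb)

theorem increasingB_nodup : ∀ {l : List ℕ}, increasingB l = true → l.Nodup
  | [], _ => List.nodup_nil
  | a :: l, h => by
    refine List.nodup_cons.2 ⟨fun ha => lt_irrefl a (increasingB_lt h a ha), increasingB_nodup ?_⟩
    cases l with
    | nil => rfl
    | cons c l => simp only [increasingB, Bool.and_eq_true] at h; exact h.2

section

variable [Finite F] (hg : Good F ω)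

include hg

theorem toMat_mem (x : ↥(threeJ3 F ω)) : toMat x ∈ mgrp F ω := by
  have h : (x : GL F9 F) ∈ Submonoid.closure {g : GL F9 F | (g : Matrix F9 F9 F) ∈ j3Gens F ω} := by
    rw [← Subgroup.closure_toSubmonoid_of_finite]; exact x.2
  show ((x : GL F9 F) : Matrix F9 F9 F) ∈ mgrp F ω
  suffices ∀ y ∈ Submonoid.closure {g : GL F9 F | (g : Matrix F9 F9 F) ∈ j3Gens F ω},
      (y : Matrix F9 F9 F) ∈ mgrp F ω from this _ h
  intro y hy
  induction hy using Submonoid.closure_induction with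
  | mem y hy => exact Submonoid.subset_closure hy
  | one => exact one_mem _
  | mul a b _ _ ha hb => exact mul_mem ha hb

theorem exists_toMat {m : Matrix F9 F9 F} (hm : m ∈ mgrp F ω) : ∃ x : ↥(threeJ3 F ω), toMat x = m := by
  induction hm using Submonoid.closure_induction with
  | mem y hy =>
    exact ⟨⟨(isUnit_mgrp hg (Submonoid.subset_closure hy)).unit, Subgroup.subset_closure hy⟩, rfl⟩
  | one => exact ⟨1, map_one _⟩
  | mul a b _ _ ha hb =>
    obtain ⟨x, rfl⟩ := ha; obtain ⟨y, rfl⟩ := hb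
    exact ⟨x * y, map_mul _ _ _⟩

theorem HasCode.mul' {x y : ↥(threeJ3 F ω)} {a b : ℕ} (hx : HasCode x a) (hy : HasCode y b) :
    HasCode (x * y) (mul a b) :=
  ⟨okMul hg hx.1 hy.1, by rw [map_mul, hx.2, hy.2, dmul hg hx.1]⟩

theorem hasCode_one : HasCode (1 : ↥(threeJ3 F ω)) Code9.one := ⟨ok_one, by rw [map_one, dec_one]⟩

theorem HasCode.pow' {x : ↥(threeJ3 F ω)} {a : ℕ} (hx : HasCode x a) (n : ℕ) :
    HasCode (x ^ n) (powC a n) :=
  ⟨ok_powC hg hx.1 n, by rw [map_pow, hx.2, dec_powC hg hx.1]⟩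

omit [Finite F] hg in
theorem HasCode.ext {x y : ↥(threeJ3 F ω)} {a : ℕ} (hx : HasCode x a) (hy : HasCode y a) : x = y :=
  toMat_injective (hx.2.trans hy.2.symm)

theorem HasCode.code_eq {x : ↥(threeJ3 F ω)} {a b : ℕ} (hx : HasCode x a) (hy : HasCode x b) : a = b :=
  dec_injective ω hg.two hg.eqn hx.1 hy.1 (hx.2.symm.trans hy.2)

theorem exists_el (e : El) : ∃ x : ↥(threeJ3 F ω), HasCode x (elC e) := by
  obtain ⟨x, hx⟩ := exists_toMat hg (elC_mem hg e)
  exact ⟨x, ok_elC hg e, hx⟩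

theorem exists_code (x : ↥(threeJ3 F ω)) : ∃ c, HasCode x c := by
  have h : toMat x ∈ Submonoid.closure (insert (dec ω codeT) {m | ∃ j < 4, m = dec ω (gC j)}) :=
    mgrp_eq hg ▸ toMat_mem hg x
  suffices ∀ m ∈ Submonoid.closure (insert (dec ω codeT) {m | ∃ j < 4, m = dec ω (gC j)}),
      ∃ c, ok c = true ∧ m = dec ω c from this _ h
  intro m hm
  induction hm using Submonoid.closure_induction with
  | mem y hy =>
    rcases hy with rfl | ⟨j, _, rfl⟩
    · exact ⟨_, ok_tables.1, rfl⟩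
    · exact ⟨_, ok_tables.2.1 j, rfl⟩
  | one => exact ⟨_, ok_one, (dec_one ω).symm⟩
  | mul a b _ _ ha hb =>
    obtain ⟨c, hc, rfl⟩ := ha; obtain ⟨d, hd, rfl⟩ := hb
    exact ⟨_, okMul hg hc hd, (dmul hg hc d).symm⟩

/-! ### The order -/

theorem card_eq_mgrp : Nat.card ↥(threeJ3 F ω) = Nat.card ↥(mgrp F ω) :=
  Nat.card_congr (Equiv.ofBijective (fun x => ⟨toMat x, toMat_mem hg x⟩)
    ⟨fun _ _ h => toMat_injective (congrArg Subtype.val h), fun m =>
      let ⟨x, hx⟩ := exists_toMat hg m.2; ⟨x, Subtype.ext hx⟩⟩)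

/-- The subgroup listed by a table. -/
theorem sylow_spec {gens elems : List El} {tree : List (ℕ × ℕ)} {close : List (List ℕ)}
    {sorted : List ℕ} {n : ℕ} (hn : 0 < n) (h : checkSylow gens elems tree close sorted n = true) :
    ∃ P : Subgroup ↥(threeJ3 F ω), Nat.card P = n ∧ (∀ x ∈ P, ∃ i < n, HasCode x (elAt elems i)) ∧
      ∀ j, ∃ g ∈ P, HasCode g (elAt gens j) := by
  simp only [checkSylow, Bool.and_eq_true] at h
  obtain ⟨⟨⟨⟨⟨⟨h0, -⟩, hslen⟩, htree⟩, hclose⟩, hinc⟩, hsorted⟩ := h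
  have hg' : ∀ j, ∃ g : ↥(threeJ3 F ω), HasCode g (elAt gens j) := fun j => exists_el hg _
  choose g hgc using hg'
  have he' : ∀ j, ∃ g : ↥(threeJ3 F ω), HasCode g (elAt elems j) := fun j => exists_el hg _
  choose e hec using he'
  have hgmem : ∀ j, g j ∈ Subgroup.closure {x | ∃ j < gens.length, x = g j} := by
    intro j
    by_cases hj : j < gens.length
    · exact Subgroup.subset_closure ⟨j, hj, rfl⟩
    · have : g j = 1 := by
        refine HasCode.ext (hgc j) ?_
        rw [elAt, List.getD_eq_default _ _ (by omega), elC_zero]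
        exact hasCode_one hg
      rw [this]; exact one_mem _
  have hmem : ∀ a < n, e a ∈ Subgroup.closure {x | ∃ j < gens.length, x = g j} := by
    intro a
    induction a using Nat.strong_induction_on with
    | _ a ih =>
      intro ha
      by_cases ha0 : a = 0
      · have : e a = 1 := HasCode.ext (hec a) (by rw [ha0, Nat.eq_of_beq_eq_true h0]; exact hasCode_one hg)
        rw [this]; exact one_mem _
      obtain ⟨j, p, hp, hjp⟩ := checkTree_spec htree ha ha0
      have : e a = g j * e p := HasCode.ext (hec a) (hjp ▸ HasCode.mul' hg (hgc j) (hec p))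
      rw [this]
      exact mul_mem (hgmem j) (ih p hp (by omega))
  have hall : ∀ x ∈ Subgroup.closure {x | ∃ j < gens.length, x = g j}, ∃ i < n, x = e i := by
    intro x hx
    rw [← Subgroup.mem_toSubmonoid, Subgroup.closure_toSubmonoid_of_finite] at hx
    induction hx using Submonoid.closure_induction_left with
    | one => exact ⟨0, hn, HasCode.ext (hasCode_one hg) (Nat.eq_of_beq_eq_true h0 ▸ hec 0)⟩
    | mul_left s hs y _ ih =>
      obtain ⟨j, hj, rfl⟩ := hs
      obtain ⟨i, hi, rfl⟩ := ih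
      have h := List.all_eq_true.1 (List.all_eq_true.1 hclose i (List.mem_range.2 hi)) j (List.mem_range.2 hj)
      simp only [Bool.and_eq_true, Nat.blt_eq] at h
      exact ⟨_, h.1, HasCode.ext (HasCode.mul' hg (hgc j) (hec i)) (Nat.eq_of_beq_eq_true h.2 ▸ hec _)⟩
  have hinj : Set.InjOn (elAt elems) ↑(Finset.range n) := by
    rw [← Finset.card_image_iff]
    refine le_antisymm Finset.card_image_le ?_
    have hsub : (sorted.map (elAt elems)).toFinset ⊆ (Finset.range n).image (elAt elems) := by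
      intro c hc
      obtain ⟨i, hi, rfl⟩ := List.mem_map.1 (List.mem_toFinset.1 hc)
      exact Finset.mem_image_of_mem _ (Finset.mem_range.2 (by simpa using List.all_eq_true.1 hsorted i hi))
    refine le_of_eq_of_le ?_ (Finset.card_le_card hsub)
    rw [List.toFinset_card_of_nodup (increasingB_nodup hinc), List.length_map, Nat.eq_of_beq_eq_true hslen,
      Finset.card_range]
  refine ⟨Subgroup.closure {x | ∃ j < gens.length, x = g j}, ?_, fun x hx => ?_,
    fun j => ⟨g j, hgmem j, hgc j⟩⟩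
  · have hbij : Function.Bijective
        (fun i : Fin n => (⟨e i, hmem i i.2⟩ : ↥(Subgroup.closure {x | ∃ j < gens.length, x = g j}))) := by
      refine ⟨fun i k hik => Fin.ext ?_, fun x => ?_⟩
      · have he : e i = e k := congrArg Subtype.val hik
        exact hinj (by simp) (by simp) (HasCode.code_eq hg (hec i) (by rw [he]; exact hec k))
      · obtain ⟨i, hi, hxi⟩ := hall _ x.2
        exact ⟨⟨i, hi⟩, Subtype.ext hxi.symm⟩
    rw [← Nat.card_congr (Equiv.ofBijective _ hbij), Nat.card_fin]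
  · obtain ⟨i, hi, rfl⟩ := hall x hx
    exact ⟨i, hi, hec i⟩

theorem orderOf_of_primeOK {e : El} {q : ℕ} [Fact q.Prime] (h : primeOK e q = true)
    {x : ↥(threeJ3 F ω)} (hx : HasCode x (elC e)) : orderOf x = q := by
  simp only [primeOK, Bool.and_eq_true, Bool.not_eq_true'] at h
  refine orderOf_eq_prime ?_ ?_
  · exact HasCode.ext (hx.pow' hg q) (Nat.eq_of_beq_eq_true h.1 ▸ hasCode_one hg)
  · rintro rfl
    rw [HasCode.code_eq hg hx (hasCode_one hg), Nat.beq_refl] at h
    exact absurd h.2 (by simp)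

theorem dvd_card_of_primeOK {e : El} {q : ℕ} (hq : q.Prime) (h : primeOK e q = true) :
    q ∣ Nat.card ↥(threeJ3 F ω) := by
  haveI := Fact.mk hq
  obtain ⟨x, hx⟩ := exists_el hg e
  exact orderOf_of_primeOK hg h hx ▸ orderOf_dvd_natCard x

/-- The order of 3·J₃. -/
theorem card_threeJ3 : Nat.card ↥(threeJ3 F ω) = 150698880 := by
  obtain ⟨P, hP, -⟩ := sylow_spec hg (by norm_num) two_sylow
  obtain ⟨Q, hQ, -⟩ := sylow_spec hg (by norm_num) three_sylow
  have h1 : 128 ∣ Nat.card ↥(threeJ3 F ω) := hP ▸ P.card_subgroup_dvd_card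
  have h2 : 729 ∣ Nat.card ↥(threeJ3 F ω) := hQ ▸ Q.card_subgroup_dvd_card
  have h3 := Nat.Coprime.mul_dvd_of_dvd_of_dvd (by norm_num) (Nat.Coprime.mul_dvd_of_dvd_of_dvd
    (by norm_num) (Nat.Coprime.mul_dvd_of_dvd_of_dvd (by norm_num)
      (Nat.Coprime.mul_dvd_of_dvd_of_dvd (by norm_num) h1 h2)
      (dvd_card_of_primeOK hg (by norm_num) elem5_ok))
      (dvd_card_of_primeOK hg (by norm_num) elem17_ok))
      (dvd_card_of_primeOK hg (by norm_num) elem19_ok)
  refine le_antisymm ?_ (Nat.le_of_dvd Nat.card_pos (by simpa using h3))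
  rw [card_eq_mgrp hg]
  exact mgrp_card_le hg

/-! ### The centre -/

theorem dec_scC (k : Fin 3) : dec ω (scC k.1) = scal ω (k.1 + 1) • (1 : Matrix F9 F9 F) := by
  ext w z
  rw [dec_entry, scalars_ok, Matrix.smul_apply, Matrix.one_apply, smul_eq_mul]
  split
  · rw [mul_one]
  · rw [mul_zero, scal_zero]

theorem mem_center_of_scC {x : ↥(threeJ3 F ω)} {k : ℕ} (hk : k < 3) (hx : HasCode x (scC k)) :
    x ∈ Subgroup.center ↥(threeJ3 F ω) := by
  refine Subgroup.mem_center_iff.2 fun y => toMat_injective ?_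
  rw [map_mul, map_mul, hx.2, dec_scC hg ⟨k, hk⟩]
  simp

theorem diag_of_comm {m : Matrix F9 F9 F} (Z : F9) (h : m * j3A F ω Z = j3A F ω Z * m) {w z : F9}
    (hne : Z.1 * w.1 + Z.2 * w.2 ≠ Z.1 * z.1 + Z.2 * z.2) : m w z = 0 := by
  have h1 := congrFun (congrFun h w) z
  rw [j3A, Matrix.mul_diagonal, Matrix.diagonal_mul] at h1
  have hne' : omegaPow F ω (Z.1 * w.1 + Z.2 * w.2) ≠ omegaPow F ω (Z.1 * z.1 + Z.2 * z.2) := by
    rw [← scal_om hg, ← scal_om hg]
    intro he
    obtain ⟨ha, hb⟩ := bit_pair_injective ω hg.two hg.eqn he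
    have key : ∀ a b : ZMod 3, (om a).testBit 0 = (om b).testBit 0 → (om a).testBit 1 = (om b).testBit 1 →
        a = b := by decide
    exact hne (key _ _ ha hb)
  by_contra hm
  exact hne' (mul_left_cancel₀ hm (by linear_combination h1)).symm

theorem scalar_of_comm {x : ↥(threeJ3 F ω)} (hx : x ∈ Subgroup.center ↥(threeJ3 F ω)) :
    ∃ k < 3, HasCode x (scC k) := by
  rw [Subgroup.mem_center_iff] at hx
  have hcomm : ∀ m ∈ j3Gens F ω, toMat x * m = m * toMat x := by
    intro m hm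
    obtain ⟨y, rfl⟩ := exists_toMat hg (Submonoid.subset_closure hm)
    rw [← map_mul, ← map_mul, hx y]
  have hA : ∀ Z, toMat x * j3A F ω Z = j3A F ω Z * toMat x := fun Z =>
    hcomm _ (Or.inl (Or.inl (Or.inl (Or.inl ⟨Z, rfl⟩))))
  have hoff : ∀ w z : F9, w ≠ z → toMat x w z = 0 := by
    intro w z hne
    by_cases h : w.1 = z.1
    · refine diag_of_comm hg (0, 1) (hA _) ?_
      simpa using fun h2 => hne (Prod.ext h h2)
    · exact diag_of_comm hg (1, 0) (hA _) (by simpa using h)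
  have hdiag : ∀ Z : F9, toMat x Z Z = toMat x 0 0 := by
    intro Z
    have h1 := congrFun (congrFun (hcomm _ (Or.inl (Or.inl (Or.inr ⟨Z, rfl⟩)))) Z) 0
    rw [Matrix.mul_apply, Matrix.mul_apply] at h1
    rw [Finset.sum_eq_single Z (fun b _ hb => by rw [hoff _ _ (Ne.symm hb), zero_mul]) (by simp),
      Finset.sum_eq_single 0 (fun b _ hb => by rw [hoff _ _ hb, mul_zero]) (by simp)] at h1
    simpa [j3D, j3Lam] using h1
  obtain ⟨c, hc⟩ := exists_code hg x
  have hc4 : ∀ w z : F9, entry c w z < 4 := by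
    intro w z
    have : ∀ a b : ℕ, a < 2 → b < 2 → a + 2 * b < 4 := fun a b _ _ => by omega
    rw [entry]
    refine this _ _ ?_ ?_ <;>
      · rw [Code9.land_one]; exact Nat.mod_lt _ (by norm_num)
  obtain ⟨e, he4, he⟩ : ∃ e < 4, toMat x 0 0 = scal ω e := ⟨_, hc4 0 0, by rw [hc.2, dec_entry]⟩
  have hmat : toMat x = scal ω e • (1 : Matrix F9 F9 F) := by
    ext w z
    rw [Matrix.smul_apply, Matrix.one_apply, smul_eq_mul]
    split
    · next h => rw [← h, hdiag, he, mul_one]
    · next h => rw [hoff _ _ h, mul_zero]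
  have he0 : e ≠ 0 := by
    rintro rfl
    have h1 : toMat x * toMat x⁻¹ = 1 := by rw [← map_mul, mul_inv_cancel, map_one]
    rw [hmat, scal_zero, zero_smul, zero_mul] at h1
    exact zero_ne_one h1
  obtain ⟨y, hy⟩ := exists_el hg (scalars.getD (e - 1) ⟨0, 0, 0, 0, 0⟩)
  refine ⟨e - 1, by omega, ok_elC hg _, ?_⟩
  rw [hmat, dec_scC hg ⟨e - 1, by omega⟩, Nat.sub_add_cancel (by omega)]

theorem card_center : Nat.card ↥(Subgroup.center ↥(threeJ3 F ω)) = 3 := by
  have hs : ∀ k : Fin 3, ∃ x : ↥(threeJ3 F ω), HasCode x (scC k.1) := fun k => exists_el hg _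
  choose s hsc using hs
  have hd : ∀ i k : Fin 3, scC i.1 = scC k.1 → i = k := by decide +kernel
  have hbij : Function.Bijective (fun k : Fin 3 =>
      (⟨s k, mem_center_of_scC hg k.2 (hsc k)⟩ : ↥(Subgroup.center ↥(threeJ3 F ω)))) := by
    refine ⟨fun i k hik => hd i k ?_, fun x => ?_⟩
    · have he : s i = s k := congrArg Subtype.val hik
      exact HasCode.code_eq hg (hsc i) (by rw [he]; exact hsc k)
    · obtain ⟨k, hk, hxk⟩ := scalar_of_comm hg x.2
      exact ⟨⟨k, hk⟩, Subtype.ext (HasCode.ext (hsc ⟨k, hk⟩) hxk)⟩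
  rw [← Nat.card_congr (Equiv.ofBijective _ hbij), Nat.card_fin]

/-- The order of J₃. -/
theorem card_J3 : Nat.card (Cfsg.Spor.J3 F ω) = 50232960 := by
  have h := Subgroup.card_eq_card_quotient_mul_card_subgroup (Subgroup.center ↥(threeJ3 F ω))
  rw [card_threeJ3 hg, card_center hg] at h
  show Nat.card (↥(threeJ3 F ω) ⧸ Subgroup.center ↥(threeJ3 F ω)) = 50232960
  omega

/-! ### Simplicity -/

theorem mem_of_orderOf {q : ℕ} [hq : Fact q.Prime] (hfac : ¬ q ^ 2 ∣ 150698880)
    (N : Subgroup ↥(threeJ3 F ω)) [N.Normal] (hd : q ∣ Nat.card N) {x : ↥(threeJ3 F ω)}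
    (hx : orderOf x = q) : x ∈ N := by
  rw [← QuotientGroup.eq_one_iff, ← orderOf_eq_one_iff]
  have h1 : orderOf (x : ↥(threeJ3 F ω) ⧸ N) ∣ q := hx ▸ orderOf_map_dvd (QuotientGroup.mk' N) x
  refine ((Nat.dvd_prime hq.out).1 h1).resolve_right fun h2 => hfac ?_
  rw [← card_threeJ3 hg, N.card_eq_card_quotient_mul_card_subgroup, sq]
  exact mul_dvd_mul (h2 ▸ orderOf_dvd_natCard _) hd

theorem conjProd_mem {src : List ℕ} {N : Subgroup ↥(threeJ3 F ω)} [N.Normal]
    (hsrc : ∀ c ∈ src, ∃ x ∈ N, HasCode x c) : ∀ {l : List (El × El × ℕ)} {h : ℕ},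
    conjProd src l = some h → ∃ x ∈ N, HasCode x h
  | [], h, hh => by
    rw [conjProd, Option.some.injEq] at hh
    exact hh ▸ ⟨1, one_mem _, hasCode_one hg⟩
  | (u, ui, j) :: l, h, hh => by
    rw [conjProd] at hh
    rcases hp : conjProd src l with _ | p
    · simp [hp] at hh
    obtain ⟨y, hy, hyc⟩ := conjProd_mem hsrc hp
    rw [hp] at hh
    rcases hb : Nat.beq (mul (elC u) (elC ui)) Code9.one with _ | _
    · simp [hb] at hh
    simp only [hb, cond_true, Option.some.injEq] at hh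
    obtain ⟨a, ha⟩ := exists_el hg u
    obtain ⟨b, hb'⟩ := exists_el hg ui
    have hab : a * b = 1 :=
      HasCode.ext (HasCode.mul' hg ha hb') (Nat.eq_of_beq_eq_true hb ▸ hasCode_one hg)
    obtain ⟨z, hz, hzc⟩ : ∃ z ∈ N, HasCode z (src.getD j Code9.one) := by
      rw [List.getD_eq_getElem?_getD]
      rcases hj : src[j]? with _ | c
      · exact ⟨1, one_mem _, hasCode_one hg⟩
      · exact hsrc c (List.mem_of_getElem? hj)
    refine ⟨a * z * b * y, mul_mem ?_ hy, hh ▸ ((ha.mul' hg hzc).mul' hg hb').mul' hg hyc⟩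
    rw [eq_inv_of_mul_eq_one_right hab]
    exact Subgroup.Normal.conj_mem ‹_› z hz a

theorem steps_mem {N : Subgroup ↥(threeJ3 F ω)} [N.Normal] : ∀ {ss : List (El × List (El × El × ℕ))}
    {known k : List ℕ}, (∀ c ∈ known, ∃ x ∈ N, HasCode x c) → checkSteps known ss = some k →
      ∀ c ∈ k, ∃ x ∈ N, HasCode x c
  | [], known, k, hk, h => by
    rw [checkSteps, Option.some.injEq] at h
    exact h ▸ hk
  | s :: ss, known, k, hk, h => by
    rw [checkSteps] at h
    rcases hp : conjProd known s.2 with _ | p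
    · simp [hp] at h
    rw [hp] at h
    rcases hb : Nat.beq p (elC s.1) with _ | _
    · simp [hb] at h
    simp only [hb, cond_true] at h
    refine steps_mem (fun c hc => ?_) h
    rcases List.mem_append.1 hc with hc | hc
    · exact hk c hc
    · exact List.mem_singleton.1 hc ▸ conjProd_mem hg hk hp

/-- A normal subgroup containing an element of order 19 is everything. -/
theorem eq_top_of_nineteen {N : Subgroup ↥(threeJ3 F ω)} [N.Normal] (hd : 19 ∣ Nat.card N) :
    N = ⊤ := by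
  haveI : Fact (Nat.Prime 19) := ⟨by norm_num⟩
  obtain ⟨a, ha⟩ := exists_el hg elem19
  obtain ⟨b, hb⟩ := exists_el hg elem19Inv
  have haN : a ∈ N := mem_of_orderOf hg (by norm_num) N hd (orderOf_of_primeOK hg elem19_ok ha)
  have hab : a * b = 1 := HasCode.ext (ha.mul' hg hb) (elem19Inv_ok ▸ hasCode_one hg)
  have hbN : b ∈ N := eq_inv_of_mul_eq_one_right hab ▸ inv_mem haN
  have hf := final_ok
  unfold checkFinal at hf
  rcases hk : checkSteps [elC elem19, elC elem19Inv] steps with _ | k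
  · rw [hk] at hf; simp at hf
  rw [hk] at hf
  simp only [Bool.and_eq_true] at hf
  have hall := steps_mem hg (fun c hc => by
    simp only [List.mem_cons, List.not_mem_nil, or_false] at hc
    rcases hc with rfl | rfl
    exacts [⟨a, haN, ha⟩, ⟨b, hbN, hb⟩]) hk
  have hget : ∀ i c, Nat.beq (k.getD i Code9.one) c = true → ∃ x ∈ N, HasCode x c := by
    intro i c hi
    rw [← Nat.eq_of_beq_eq_true hi, List.getD_eq_getElem?_getD]
    rcases hj : k[i]? with _ | d
    · exact ⟨1, one_mem _, hasCode_one hg⟩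
    · exact hall d (List.mem_of_getElem? hj)
  refine eq_top_iff.2 fun x _ => ?_
  obtain ⟨y, hy, hyx⟩ : ∃ y ∈ N, toMat y = toMat x := by
    have h : toMat x ∈ Submonoid.closure (insert (dec ω codeT) {m | ∃ j < 4, m = dec ω (gC j)}) :=
      mgrp_eq hg ▸ toMat_mem hg x
    refine (Submonoid.closure_le (S := N.toSubmonoid.map toMat)).2 ?_ h
    rintro m (rfl | ⟨j, hj, rfl⟩)
    · obtain ⟨y, hy, hyc⟩ := hget 15 _ hf.2
      exact ⟨y, hy, hyc.2⟩
    · obtain ⟨y, hy, hyc⟩ : ∃ y ∈ N, HasCode y (gC j) := by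
        match j, hj with
        | 0, _ => exact hget 10 _ hf.1.1.1.1
        | 1, _ => exact hget 11 _ hf.1.1.1.2
        | 2, _ => exact hget 12 _ hf.1.1.2
        | 3, _ => exact hget 13 _ hf.1.2
        | _ + 4, h => omega
      exact ⟨y, hy, hyc.2⟩
  exact toMat_injective hyx ▸ hy

theorem eq_top_of_seed {N : Subgroup ↥(threeJ3 F ω)} [N.Normal] {e : El}
    (he : e ∈ twoSeeds ++ threeSeeds ++ [elem5, elem17]) {x : ↥(threeJ3 F ω)} (hxN : x ∈ N)
    (hx : HasCode x (elC e)) : N = ⊤ := by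
  have hmem : elC e ∈ toNineteen.map fun s => elC s.1 := by
    rw [toNineteen_seeds]; exact List.mem_map_of_mem he
  obtain ⟨s, hs, hse⟩ := List.mem_map.1 hmem
  have h := List.all_eq_true.1 toNineteen_ok s hs
  unfold toNineteenOK at h
  rcases hp : conjProd [elC s.1] s.2 with _ | p
  · rw [hp] at h; simp at h
  rw [hp] at h
  simp only [Bool.and_eq_true, Bool.not_eq_true'] at h
  obtain ⟨y, hy, hyc⟩ := conjProd_mem hg (N := N) (fun c hc => ⟨x, hxN, by
    rw [List.mem_singleton.1 hc, hse]; exact hx⟩) hp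
  haveI : Fact (Nat.Prime 19) := ⟨by norm_num⟩
  have hy19 : orderOf y = 19 := by
    refine orderOf_eq_prime (HasCode.ext (hyc.pow' hg 19) (Nat.eq_of_beq_eq_true h.1 ▸ hasCode_one hg)) ?_
    rintro rfl
    rw [HasCode.code_eq hg hyc (hasCode_one hg), Nat.beq_refl] at h
    exact absurd h.2 (by simp)
  refine eq_top_of_nineteen hg ?_
  rw [← hy19, ← Subgroup.orderOf_mk y hy]
  exact orderOf_dvd_natCard _

theorem scC_mem_center_iff {x : ↥(threeJ3 F ω)} {c : ℕ} (hx : HasCode x c) :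
    isScalar c = true ↔ x ∈ Subgroup.center ↥(threeJ3 F ω) := by
  constructor
  · intro h
    simp only [isScalar, Bool.or_eq_true] at h
    rcases h with (h | h) | h
    · exact mem_center_of_scC hg (k := 0) (by norm_num) (Nat.eq_of_beq_eq_true h ▸ hx)
    · exact mem_center_of_scC hg (k := 1) (by norm_num) (Nat.eq_of_beq_eq_true h ▸ hx)
    · exact mem_center_of_scC hg (k := 2) (by norm_num) (Nat.eq_of_beq_eq_true h ▸ hx)
  · intro h
    obtain ⟨k, hk, hxk⟩ := scalar_of_comm hg h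
    rw [HasCode.code_eq hg hx hxk]
    interval_cases k <;> simp [isScalar]

/-- The case of the primes 2 and 3. -/
theorem eq_top_of_sylow {q : ℕ} [hq : Fact q.Prime] {gens invs seeds elems : List El}
    {tree : List (ℕ × ℕ)} {close : List (List ℕ)} {sorted : List ℕ} {cls : List Cls} {n : ℕ}
    (hn : n = q ^ (150698880 : ℕ).factorization q) (hn0 : 0 < n)
    (hsy : checkSylow gens elems tree close sorted n = true)
    (hcl : checkClasses gens invs seeds elems cls n = true)
    (hseeds : ∀ e ∈ seeds, e ∈ twoSeeds ++ threeSeeds ++ [elem5, elem17])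
    (N : Subgroup ↥(threeJ3 F ω)) [N.Normal] (hle : Subgroup.center ↥(threeJ3 F ω) ≤ N)
    (hd : q ∣ Nat.card ↥(N.map (QuotientGroup.mk' (Subgroup.center ↥(threeJ3 F ω))))) :
    N = ⊤ := by
  obtain ⟨P, hP, hPel, hPgen⟩ := sylow_spec hg hn0 hsy
  have hP' : Nat.card P = q ^ (Nat.card ↥(threeJ3 F ω)).factorization q := by rw [hP, hn, card_threeJ3 hg]
  set π := QuotientGroup.mk' (Subgroup.center ↥(threeJ3 F ω)) with hπ
  have hsurj : Function.Surjective π := QuotientGroup.mk'_surjective _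
  haveI : (N.map π).Normal := Subgroup.Normal.map ‹_› π hsurj
  let Pb := (Sylow.ofCard P hP').mapSurjective hsurj
  obtain ⟨n₀, hn₀⟩ := exists_prime_orderOf_dvd_card' q hd
  rw [← Subgroup.orderOf_coe] at hn₀
  have hz : IsPGroup q (Subgroup.zpowers (n₀ : Cfsg.Spor.J3 F ω)) :=
    IsPGroup.of_card (n := 1) (by rw [Nat.card_zpowers, hn₀, pow_one])
  obtain ⟨R, hR⟩ := hz.exists_le_sylow
  obtain ⟨u, hu⟩ := MulAction.exists_smul_eq (Cfsg.Spor.J3 F ω) R Pb
  have hu' := congrArg (fun P : Sylow q (Cfsg.Spor.J3 F ω) => (P : Subgroup (Cfsg.Spor.J3 F ω))) hu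
  simp only [Sylow.smul_def, Sylow.pointwise_smul_def] at hu'
  have hm : u * (n₀ : Cfsg.Spor.J3 F ω) * u⁻¹ ∈ (Pb : Subgroup (Cfsg.Spor.J3 F ω)) := by
    rw [← hu']
    exact ⟨n₀, hR (Subgroup.mem_zpowers _), rfl⟩
  have hne : (N.map π).subgroupOf (Pb : Subgroup (Cfsg.Spor.J3 F ω)) ≠ ⊥ := by
    intro hb
    have h1 : (⟨_, hm⟩ : ↥(Pb : Subgroup (Cfsg.Spor.J3 F ω))) ∈
        (N.map π).subgroupOf (Pb : Subgroup (Cfsg.Spor.J3 F ω)) :=
      Subgroup.mem_subgroupOf.2 (Subgroup.Normal.conj_mem inferInstance _ n₀.2 u)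
    rw [hb, Subgroup.mem_bot, Subtype.ext_iff] at h1
    have : (n₀ : Cfsg.Spor.J3 F ω) = 1 := conj_eq_one_iff.1 h1
    rw [this, orderOf_one] at hn₀
    exact hq.out.one_lt.ne hn₀
  obtain ⟨⟨zb, hzb⟩, hzN, hz1⟩ : ∃ z ∈ (N.map π).subgroupOf (Pb : Subgroup (Cfsg.Spor.J3 F ω)) ⊓
      Subgroup.center ↥(Pb : Subgroup (Cfsg.Spor.J3 F ω)), z ≠ 1 := by
    by_contra hcon
    push Not at hcon
    exact Cfsg.Agent.Lib.PGroups.normal_inf_center_ne_bot Pb.isPGroup' _ hne
      ((Subgroup.eq_bot_iff_forall _).2 hcon)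
  have hzP : zb ∈ P.map π := by
    have := hzb
    simpa [Pb] using this
  obtain ⟨x, hxP, rfl⟩ := hzP
  have hxN : x ∈ N := by
    have h := Subgroup.mem_subgroupOf.1 hzN.1
    have := Subgroup.mem_comap.2 h
    rwa [Subgroup.comap_map_eq_self (by rw [hπ, QuotientGroup.ker_mk']; exact hle)] at this
  have hxc : x ∉ Subgroup.center ↥(threeJ3 F ω) := by
    intro h
    exact hz1 (Subtype.ext ((QuotientGroup.eq_one_iff x).2 h))
  obtain ⟨i, hi, hxi⟩ := hPel x hxP
  have hci := List.all_eq_true.1 hcl i (List.mem_range.2 hi)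
  rcases hc : cls.getD i (.scalar 0) with k | ⟨p, e⟩ | ⟨j, p, k⟩
  · rw [hc] at hci
    exfalso
    simp only [checkClass] at hci
    rcases Nat.lt_or_ge k 3 with hk | hk
    · exact hxc (mem_center_of_scC hg hk (Nat.eq_of_beq_eq_true hci ▸ hxi))
    · have : scC k = Code9.one := by
        rw [scC, List.getD_eq_default _ _ (le_trans (by decide +kernel) hk), elC_zero]
      have hx1 : x = 1 := HasCode.ext hxi ((Nat.eq_of_beq_eq_true hci).trans this ▸ hasCode_one hg)
      exact hxc (hx1 ▸ one_mem _)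
  · rw [hc] at hci
    exfalso
    simp only [checkClass, Bool.and_eq_true] at hci
    obtain ⟨⟨⟨-, hxe⟩, hgq⟩, hns⟩ := hci
    obtain ⟨g, hgP, hgc⟩ := hPgen p
    obtain ⟨xi, hxic⟩ := exists_el hg e
    obtain ⟨gi, hgic⟩ : ∃ gi : ↥(threeJ3 F ω), HasCode gi (elAt invs p) := exists_el hg _
    have h1 : x * xi = 1 := HasCode.ext (hxi.mul' hg hxic) (Nat.eq_of_beq_eq_true hxe ▸ hasCode_one hg)
    have h2 : g * gi = 1 := HasCode.ext (hgc.mul' hg hgic) (Nat.eq_of_beq_eq_true hgq ▸ hasCode_one hg)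
    have hcomm : π x * π g = π g * π x := by
      have h := Subgroup.mem_center_iff.1 hzN.2 ⟨π g, by
        simpa [Pb] using Subgroup.mem_map_of_mem π hgP⟩
      exact (congrArg Subtype.val h).symm
    have hcen : x * g * xi * gi ∈ Subgroup.center ↥(threeJ3 F ω) := by
      rw [← QuotientGroup.eq_one_iff]
      show π (x * g * xi * gi) = 1
      rw [map_mul, map_mul, map_mul, hcomm, mul_assoc (π g) (π x), ← map_mul π x, h1, map_one, mul_one,
        ← map_mul, h2, map_one]
    have hsc := (scC_mem_center_iff hg (((hxi.mul' hg hgc).mul' hg hxic).mul' hg hgic)).2 hcen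
    simp only [notScalar, isScalar, Bool.and_eq_true, Bool.or_eq_true, Bool.not_eq_true'] at hns hsc
    rcases hsc with (h | h) | h <;> simp [h] at hns
  · rw [hc] at hci
    simp only [checkClass, Bool.and_eq_true, Bool.or_eq_true, Nat.blt_eq] at hci
    obtain ⟨⟨hj, hxeq⟩, hp⟩ := hci
    obtain ⟨s, hs⟩ := exists_el hg (seeds.getD j ⟨0, 0, 0, 0, 0⟩)
    obtain ⟨z, hz'⟩ := exists_el hg (scalars.getD k ⟨0, 0, 0, 0, 0⟩)
    have hzc : z ∈ Subgroup.center ↥(threeJ3 F ω) := by
      rcases Nat.lt_or_ge k 3 with hk | hk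
      · exact mem_center_of_scC hg hk hz'
      · have : z = 1 := by
          refine HasCode.ext hz' ?_
          rw [List.getD_eq_default _ _ (le_trans (by decide +kernel) hk), elC_zero]
          exact hasCode_one hg
        exact this ▸ one_mem _
    have hxeq' : x = s ^ p * z :=
      HasCode.ext hxi (Nat.eq_of_beq_eq_true hxeq ▸ (hs.pow' hg p).mul' hg hz')
    have hsp : s ^ p ∈ N := by
      have : s ^ p = x * z⁻¹ := by rw [hxeq']; group
      rw [this]; exact mul_mem hxN (inv_mem (hle hzc))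
    refine eq_top_of_seed hg (hseeds _ ?_) (?_ : s ∈ N) hs
    · rw [List.getD_eq_getElem _ _ hj]; exact List.getElem_mem hj
    · rcases hp with hp | ⟨hp, h3⟩
      · rwa [Nat.eq_of_beq_eq_true hp, pow_one] at hsp
      · have h3' : s ^ 3 ∈ N := hle ((scC_mem_center_iff hg (hs.pow' hg 3)).1 h3)
        rw [Nat.eq_of_beq_eq_true hp] at hsp
        have : s = (s ^ 2)⁻¹ * s ^ 3 := by group
        rw [this]; exact mul_mem (inv_mem hsp) h3'

theorem normal_eq_top (N : Subgroup ↥(threeJ3 F ω)) [N.Normal]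
    (hle : Subgroup.center ↥(threeJ3 F ω) ≤ N) (hne : ¬ N ≤ Subgroup.center ↥(threeJ3 F ω)) :
    N = ⊤ := by
  set π := QuotientGroup.mk' (Subgroup.center ↥(threeJ3 F ω))
  have hb : N.map π ≠ ⊥ := by
    rw [Ne, Subgroup.map_eq_bot_iff, QuotientGroup.ker_mk']; exact hne
  obtain ⟨q, hq, hd⟩ := Nat.exists_prime_and_dvd (mt Subgroup.card_eq_one.1 hb)
  haveI := Fact.mk hq
  have hG : q ∣ 50232960 := card_J3 hg ▸ hd.trans (Subgroup.card_subgroup_dvd_card _)
  have hdN : q ∣ Nat.card N := hd.trans (Subgroup.card_map_dvd N π)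
  have hmem : q = 2 ∨ q = 3 ∨ q = 5 ∨ q = 17 ∨ q = 19 := by
    rw [show (50232960 : ℕ) = 2 ^ 7 * 3 ^ 5 * 5 * 17 * 19 by norm_num] at hG
    simp only [hq.dvd_mul] at hG
    rcases hG with (((h | h) | h) | h) | h
    · exact Or.inl ((Nat.prime_dvd_prime_iff_eq hq Nat.prime_two).1 (hq.dvd_of_dvd_pow h))
    · exact Or.inr (Or.inl ((Nat.prime_dvd_prime_iff_eq hq Nat.prime_three).1 (hq.dvd_of_dvd_pow h)))
    · exact Or.inr (Or.inr (Or.inl ((Nat.prime_dvd_prime_iff_eq hq (by norm_num)).1 h)))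
    · exact Or.inr (Or.inr (Or.inr (Or.inl ((Nat.prime_dvd_prime_iff_eq hq (by norm_num)).1 h))))
    · exact Or.inr (Or.inr (Or.inr (Or.inr ((Nat.prime_dvd_prime_iff_eq hq (by norm_num)).1 h))))
  rcases hmem with rfl | rfl | rfl | rfl | rfl
  · refine eq_top_of_sylow hg ?_ (by norm_num) two_sylow two_classes
      (fun e he => List.mem_append_left _ (List.mem_append_left _ he)) N hle hd
    rw [show (150698880 : ℕ) = 2 ^ 7 * 1177335 by norm_num, Nat.factorization_mul (by norm_num) (by norm_num),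
      Nat.Prime.factorization_pow Nat.prime_two]
    simp [Nat.factorization_eq_zero_of_not_dvd (show ¬ 2 ∣ 1177335 by norm_num)]
  · refine eq_top_of_sylow hg ?_ (by norm_num) three_sylow three_classes
      (fun e he => List.mem_append_left _ (List.mem_append_right _ he)) N hle hd
    rw [show (150698880 : ℕ) = 3 ^ 6 * 206720 by norm_num, Nat.factorization_mul (by norm_num) (by norm_num),
      Nat.Prime.factorization_pow Nat.prime_three]
    simp [Nat.factorization_eq_zero_of_not_dvd (show ¬ 3 ∣ 206720 by norm_num)]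
  · obtain ⟨x, hx⟩ := exists_el hg elem5
    exact eq_top_of_seed hg (by simp) (mem_of_orderOf hg (by norm_num) N hdN (orderOf_of_primeOK hg elem5_ok hx)) hx
  · obtain ⟨x, hx⟩ := exists_el hg elem17
    exact eq_top_of_seed hg (by simp) (mem_of_orderOf hg (by norm_num) N hdN (orderOf_of_primeOK hg elem17_ok hx)) hx
  · exact eq_top_of_nineteen hg hdN

/-- J₃ is simple. -/
theorem isSimpleGroup_J3 : IsSimpleGroup (Cfsg.Spor.J3 F ω) := by
  haveI : Nontrivial (Cfsg.Spor.J3 F ω) := by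
    rw [← Finite.one_lt_card_iff_nontrivial, card_J3 hg]; norm_num
  constructor
  intro N hN
  haveI := hN
  refine or_iff_not_imp_left.2 fun hb => ?_
  set π := QuotientGroup.mk' (Subgroup.center ↥(threeJ3 F ω))
  have hsurj : Function.Surjective π := QuotientGroup.mk'_surjective _
  have h := normal_eq_top hg (N.comap π)
    (fun x hx => by
      show π x ∈ N
      rw [show π x = 1 from (QuotientGroup.eq_one_iff x).2 hx]; exact one_mem _) (by
      intro hle
      apply hb
      rw [← Subgroup.map_comap_eq_self_of_surjective hsurj N, Subgroup.map_eq_bot_iff, QuotientGroup.ker_mk']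
      exact hle)
  rw [← Subgroup.map_comap_eq_self_of_surjective hsurj N, h, Subgroup.map_top_of_surjective _ hsurj]

/-- J₃ is not abelian. -/
theorem not_comm_J3 : ∃ a b : Cfsg.Spor.J3 F ω, a * b ≠ b * a := by
  haveI := isSimpleGroup_J3 hg
  by_contra hcon
  push Not at hcon
  letI : CommGroup (Cfsg.Spor.J3 F ω) :=
    { (inferInstance : Group (Cfsg.Spor.J3 F ω)) with mul_comm := hcon }
  have := (IsSimpleGroup.prime_card (α := Cfsg.Spor.J3 F ω))
  rw [card_J3 hg] at this
  norm_num at this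

end

end Cfsg.Agent.Lib.SporMatrix.J3
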