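import Mathlib

/-!
Kernel-checkable certificates for the order of a finite monoid/group of (coded) elements.

A level carries generators, a transversal stored in a binary tree together with its Schreier tree and
its closing data, a base point (through a key function), and words showing that the generators of the next
level lie in the monoid of this one.
-/

set_option autoImplicit false

namespace Cfsg.Agent.Lib.SporMatrix.Chain

universe u v

/-- Coded elements of a monoid with a family of keys (images of base points). -/
structure Coding (M : Type u) (C : Type v) [Monoid M] where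
  val : C → M
  one : C
  mul : C → C → C
  beq : C → C → Bool
  ok : C → Bool
  key : ℕ → C → ℕ
  phi : ℕ → M → ℕ
  val_one : val one = 1
  ok_one : ok one = true
  val_mul : ∀ a b, ok a = true → ok b = true → val (mul a b) = val a * val b
  ok_mul : ∀ a b, ok a = true → ok b = true → ok (mul a b) = true
  beq_val : ∀ a b, beq a b = true → val a = val b
  key_val : ∀ i a, ok a = true → key i a = phi i (val a)
  phi_congr : ∀ i x y, phi i y = phi i 1 → phi i (x * y) = phi i x

/-- Binary trees, indexed by the bits of a natural number. -/
inductive Tree (α : Type v) : Type v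
  | leaf : α → Tree α
  | node : Tree α → Tree α → Tree α

namespace Tree

variable {α : Type v}

def size : Tree α → ℕ
  | leaf _ => 1
  | node l r => size l + size r

def toList : Tree α → List α
  | leaf a => [a]
  | node l r => toList l ++ toList r

def get : Tree α → ℕ → α
  | leaf a, _ => a
  | node l r, n => bif Nat.beq (n % 2) 0 then get l (n / 2) else get r (n / 2)

def all (p : α → Bool) : Tree α → Bool
  | leaf a => p a
  | node l r => all p l && all p r

theorem get_mem (t : Tree α) : ∀ n, t.get n ∈ t.toList := by
  induction t with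
  | leaf a => intro n; simp [get, toList]
  | node l r hl hr =>
    intro n
    rw [get, toList, List.mem_append]
    cases Nat.beq (n % 2) 0
    · exact Or.inr (hr _)
    · exact Or.inl (hl _)

theorem all_iff {p : α → Bool} (t : Tree α) : t.all p = true ↔ ∀ a ∈ t.toList, p a = true := by
  induction t with
  | leaf a => simp [all, toList]
  | node l r hl hr => simp [all, toList, hl, hr, or_imp, forall_and]

theorem length_toList (t : Tree α) : t.toList.length = t.size := by
  induction t with
  | leaf a => simp [size, toList]
  | node l r hl hr => simp [size, toList, hl, hr]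

end Tree

/-- A transversal element: code, depth and parent in the Schreier tree, and for each generator `g` of
the level the pair (target, tail) with `g * elem = target.elem * tail`. -/
structure Entry (C : Type v) where
  elem : C
  depth : ℕ
  sg : ℕ
  par : ℕ
  close : List (ℕ × List ℕ)

/-- One level of a chain. -/
structure Level (C : Type v) where
  base : ℕ
  gens : List C
  tree : Tree (Entry C)
  sorted : List ℕ
  down : List (List ℕ)

variable {M : Type u} [Monoid M] {C : Type v} (K : Coding M C)

def word (gs : List C) : List ℕ → C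
  | [] => K.one
  | i :: is => K.mul (gs.getD i K.one) (word gs is)

def prodOf : List (Level C) → List ℕ → C
  | [], _ => K.one
  | _ :: _, [] => K.one
  | L :: rest, i :: is => K.mul (L.tree.get i).elem (prodOf rest is)

def checkClose (L : Level C) (rest : List (Level C)) (e : C) : List C → List (ℕ × List ℕ) → Bool
  | [], [] => true
  | g :: gs, t :: ts =>
    K.beq (K.mul g e) (K.mul (L.tree.get t.1).elem (prodOf K rest t.2)) && checkClose L rest e gs ts
  | _, _ => false

def checkTree (L : Level C) (en : Entry C) : Bool :=
  bif Nat.beq en.depth 0 then K.beq en.elem K.one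
  else Nat.blt (L.tree.get en.par).depth en.depth &&
    K.beq en.elem (K.mul (L.gens.getD en.sg K.one) (L.tree.get en.par).elem)

def increasing : List ℕ → Bool
  | a :: b :: l => Nat.blt a b && increasing (b :: l)
  | _ => true

/-- Generators of the next level: membership in this level and fixing of its base point. -/
def checkDown (L : Level C) : List C → List (List ℕ) → Bool
  | [], [] => true
  | g :: gs, w :: ws =>
    K.beq g (word K L.gens w) && Nat.beq (K.key L.base g) (K.key L.base K.one) && checkDown L gs ws
  | _, _ => false

def nextGens : List (Level C) → List C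
  | [] => []
  | L :: _ => L.gens

def checkLevel (L : Level C) (rest : List (Level C)) : Bool :=
  L.gens.all K.ok &&
  L.tree.all (fun en => K.ok en.elem) &&
  L.tree.all (checkTree K L) &&
  L.tree.all (fun en => checkClose K L rest en.elem L.gens en.close) &&
  Nat.beq (L.tree.get 0).depth 0 &&
  Nat.beq L.sorted.length L.tree.size &&
  increasing (L.sorted.map fun i => K.key L.base (L.tree.get i).elem) &&
  checkDown K L (nextGens rest) L.down

def check : List (Level C) → Bool
  | [] => true
  | L :: rest => checkLevel K L rest && check rest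

def orderOfChain : List (Level C) → ℕ
  | [] => 1
  | L :: rest => L.tree.size * orderOfChain rest

/-- The monoid generated by the generators of the first level. -/
def gen (Ls : List (Level C)) : Submonoid M :=
  Submonoid.closure {m | ∃ c ∈ nextGens Ls, m = K.val c}

theorem increasing_pairwise : ∀ {l : List ℕ}, increasing l = true → l.Pairwise (· < ·)
  | [], _ => List.Pairwise.nil
  | [a], _ => List.pairwise_singleton _ a
  | a :: b :: l, h => by
    rw [increasing, Bool.and_eq_true, Nat.blt_eq] at h
    have ih := increasing_pairwise h.2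
    refine List.Pairwise.cons ?_ ih
    intro c hc
    rcases List.mem_cons.1 hc with rfl | hc
    · exact h.1
    · exact h.1.trans (List.rel_of_pairwise_cons ih hc)

theorem ok_getD {gs : List C} (h : gs.all K.ok = true) (i : ℕ) : K.ok (gs.getD i K.one) = true := by
  rw [List.getD_eq_getElem?_getD]
  rcases hi : gs[i]? with _ | c
  · exact K.ok_one
  · exact List.all_eq_true.1 h c (List.mem_of_getElem? hi)

theorem getD_mem_closure {gs : List C} (i : ℕ) :
    K.val (gs.getD i K.one) ∈ Submonoid.closure {m | ∃ c ∈ gs, m = K.val c} := by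
  rw [List.getD_eq_getElem?_getD]
  rcases hi : gs[i]? with _ | c
  · simp [K.val_one]
  · exact Submonoid.subset_closure ⟨c, List.mem_of_getElem? hi, rfl⟩

theorem word_spec {gs : List C} (h : gs.all K.ok = true) : ∀ is : List ℕ,
    K.ok (word K gs is) = true ∧
      K.val (word K gs is) ∈ Submonoid.closure {m | ∃ c ∈ gs, m = K.val c}
  | [] => ⟨K.ok_one, by simp [word, K.val_one]⟩
  | i :: is => by
    have ih := word_spec h is
    refine ⟨K.ok_mul _ _ (ok_getD K h i) ih.1, ?_⟩
    rw [word, K.val_mul _ _ (ok_getD K h i) ih.1]
    exact mul_mem (getD_mem_closure K i) ih.2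

theorem checkClose_spec {L : Level C} {rest : List (Level C)} {e : C} :
    ∀ {gs : List C} {ts : List (ℕ × List ℕ)}, checkClose K L rest e gs ts = true →
      ∀ g ∈ gs, ∃ (j : ℕ) (t : List ℕ),
        K.beq (K.mul g e) (K.mul (L.tree.get j).elem (prodOf K rest t)) = true
  | [], _, _, g, hg => by simp at hg
  | _ :: _, [], h, _, _ => by simp [checkClose] at h
  | g :: gs, t :: ts, h, x, hx => by
    rw [checkClose, Bool.and_eq_true] at h
    rcases List.mem_cons.1 hx with rfl | hx
    · exact ⟨_, _, h.1⟩
    · exact checkClose_spec h.2 x hx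

theorem checkDown_spec {L : Level C} : ∀ {gs : List C} {ws : List (List ℕ)},
    checkDown K L gs ws = true →
      ∀ g ∈ gs, ∃ w, K.beq g (word K L.gens w) = true ∧ K.key L.base g = K.key L.base K.one
  | [], _, _, g, hg => by simp at hg
  | _ :: _, [], h, _, _ => by simp [checkDown] at h
  | g :: gs, w :: ws, h, x, hx => by
    simp only [checkDown, Bool.and_eq_true] at h
    rcases List.mem_cons.1 hx with rfl | hx
    · exact ⟨w, h.1.1, Nat.eq_of_beq_eq_true h.1.2⟩
    · exact checkDown_spec h.2 x hx

/-- The unfolded meaning of `checkLevel`. -/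
theorem checkLevel_spec {L : Level C} {rest : List (Level C)} (h : checkLevel K L rest = true) :
    L.gens.all K.ok = true ∧ (∀ en ∈ L.tree.toList, K.ok en.elem = true) ∧
    (∀ en ∈ L.tree.toList, checkTree K L en = true) ∧
    (∀ en ∈ L.tree.toList, checkClose K L rest en.elem L.gens en.close = true) ∧
    (L.tree.get 0).depth = 0 ∧ L.sorted.length = L.tree.size ∧
    increasing (L.sorted.map fun i => K.key L.base (L.tree.get i).elem) = true ∧
    checkDown K L (nextGens rest) L.down = true := by
  simp only [checkLevel, Bool.and_eq_true, Tree.all_iff] at h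
  obtain ⟨⟨⟨⟨⟨⟨⟨h1, h2⟩, h3⟩, h4⟩, h5⟩, h6⟩, h7⟩, h8⟩ := h
  exact ⟨h1, h2, h3, h4, Nat.eq_of_beq_eq_true h5, Nat.eq_of_beq_eq_true h6, h7, h8⟩

theorem tree_mem_gen {L : Level C} {rest : List (Level C)} (h : checkLevel K L rest = true) :
    ∀ en ∈ L.tree.toList, K.val en.elem ∈ gen K (L :: rest) := by
  obtain ⟨hg, hok, ht, -, -, -, -, -⟩ := checkLevel_spec K h
  suffices ∀ (d : ℕ) (en : Entry C), en ∈ L.tree.toList → en.depth ≤ d →
      K.val en.elem ∈ gen K (L :: rest) from fun en hen => this _ en hen le_rfl
  intro d
  induction d with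
  | zero =>
    intro en hen hd
    have := ht en hen
    rw [checkTree, Nat.le_zero.1 hd] at this
    simp only [Nat.beq_refl, cond_true] at this
    rw [K.beq_val _ _ this, K.val_one]
    exact one_mem _
  | succ d ih =>
    intro en hen hd
    have := ht en hen
    rw [checkTree] at this
    rcases hb : Nat.beq en.depth 0 with _ | _
    · rw [hb, cond_false, Bool.and_eq_true, Nat.blt_eq] at this
      rw [K.beq_val _ _ this.2, K.val_mul _ _ (ok_getD K hg _) (hok _ (Tree.get_mem _ _))]
      exact mul_mem (getD_mem_closure K _) (ih _ (Tree.get_mem _ _) (by omega))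
    · rw [hb, cond_true] at this
      rw [K.beq_val _ _ this, K.val_one]
      exact one_mem _

theorem gen_tail_le {L : Level C} {rest : List (Level C)} (h : checkLevel K L rest = true) :
    gen K rest ≤ gen K (L :: rest) := by
  obtain ⟨hg, -, -, -, -, -, -, hd⟩ := checkLevel_spec K h
  refine Submonoid.closure_le.2 ?_
  rintro m ⟨c, hc, rfl⟩
  obtain ⟨w, hw, -⟩ := checkDown_spec K hd c hc
  rw [K.beq_val _ _ hw]
  exact (word_spec K hg w).2

theorem prodOf_spec : ∀ {Ls : List (Level C)}, check K Ls = true → ∀ is : List ℕ,
    K.ok (prodOf K Ls is) = true ∧ K.val (prodOf K Ls is) ∈ gen K Ls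
  | [], _, _ => ⟨K.ok_one, by simp [prodOf, K.val_one]⟩
  | _ :: _, _, [] => ⟨K.ok_one, by simp [prodOf, K.val_one]⟩
  | L :: rest, h, i :: is => by
    rw [check, Bool.and_eq_true] at h
    have ih := prodOf_spec h.2 is
    have hok := (checkLevel_spec K h.1).2.1 _ (Tree.get_mem L.tree i)
    refine ⟨K.ok_mul _ _ hok ih.1, ?_⟩
    rw [prodOf, K.val_mul _ _ hok ih.1]
    exact mul_mem (tree_mem_gen K h.1 _ (Tree.get_mem _ _)) (gen_tail_le K h.1 ih.2)

theorem mem_gen_iff {L : Level C} {rest : List (Level C)} (h : check K (L :: rest) = true) {m : M} :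
    m ∈ gen K (L :: rest) ↔
      ∃ en ∈ L.tree.toList, ∃ y ∈ gen K rest, m = K.val en.elem * y := by
  rw [check, Bool.and_eq_true] at h
  obtain ⟨h, hrest⟩ := h
  obtain ⟨hg, hok, ht, hc, h0, -, -, -⟩ := checkLevel_spec K h
  refine ⟨fun hm => ?_, ?_⟩
  · induction hm using Submonoid.closure_induction_left with
    | one =>
      refine ⟨_, Tree.get_mem L.tree 0, 1, one_mem _, ?_⟩
      have := ht _ (Tree.get_mem L.tree 0)
      rw [checkTree, h0] at this
      simp only [Nat.beq_refl, cond_true] at this
      rw [K.beq_val _ _ this, K.val_one, mul_one]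
    | mul_left x hx y _ ih =>
      obtain ⟨c, hcm, rfl⟩ := hx
      obtain ⟨en, hen, z, hz, rfl⟩ := ih
      obtain ⟨j, t, hjt⟩ := checkClose_spec K (hc en hen) c hcm
      have hp := prodOf_spec K hrest t
      have hcok : K.ok c = true := List.all_eq_true.1 hg c hcm
      have hjok := hok _ (Tree.get_mem L.tree j)
      have := K.beq_val _ _ hjt
      rw [K.val_mul _ _ hcok (hok en hen), K.val_mul _ _ hjok hp.1] at this
      exact ⟨_, Tree.get_mem L.tree j, _, mul_mem hp.2 hz, by rw [← mul_assoc, this, mul_assoc]⟩
  · rintro ⟨en, hen, y, hy, rfl⟩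
    exact mul_mem (tree_mem_gen K h en hen) (gen_tail_le K h hy)

theorem phi_gen_tail {L : Level C} {rest : List (Level C)} (h : check K (L :: rest) = true) :
    ∀ y ∈ gen K rest, K.phi L.base y = K.phi L.base 1 := by
  rw [check, Bool.and_eq_true] at h
  obtain ⟨hg, -, -, -, -, -, -, hd⟩ := checkLevel_spec K h.1
  intro y hy
  induction hy using Submonoid.closure_induction with
  | mem x hx =>
    obtain ⟨c, hc, rfl⟩ := hx
    obtain ⟨w, hw, hk⟩ := checkDown_spec K hd c hc
    cases hr : rest with
    | nil => rw [hr] at hc; simp [nextGens] at hc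
    | cons L' rest' =>
      have h2 := h.2
      rw [hr, check, Bool.and_eq_true] at h2
      rw [hr] at hc
      have hcok : K.ok c = true := List.all_eq_true.1 (checkLevel_spec K h2.1).1 c hc
      rw [← K.val_one, ← K.key_val _ _ hcok, ← K.key_val _ _ K.ok_one, hk]
  | one => rfl
  | mul x y _ _ hx hy => rw [K.phi_congr _ _ _ hy, hx]

/-- A checked chain has the announced order. -/
theorem card_gen : ∀ {Ls : List (Level C)}, check K Ls = true →
    (∀ c ∈ nextGens Ls, IsUnit (K.val c)) → Nat.card (gen K Ls) = orderOfChain Ls
  | [], _, _ => by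
    have : gen K ([] : List (Level C)) = ⊥ := by simp [gen, nextGens]
    rw [this]; simp [orderOfChain]
  | L :: rest, h, hu => by
    have hh := h
    rw [check, Bool.and_eq_true] at hh
    obtain ⟨hg, hok, -, -, -, hlen, hinc, hd⟩ := checkLevel_spec K hh.1
    have hunit : ∀ m ∈ gen K (L :: rest), IsUnit m := by
      intro m hm
      have hle : gen K (L :: rest) ≤ IsUnit.submonoid M := by
        refine Submonoid.closure_le.2 ?_
        rintro _ ⟨c, hc, rfl⟩
        exact hu c hc
      exact hle hm
    have ih : Nat.card (gen K rest) = orderOfChain rest := by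
      refine card_gen hh.2 fun c hc => hunit _ (gen_tail_le K hh.1 ?_)
      exact Submonoid.subset_closure ⟨c, hc, rfl⟩
    let keys : List ℕ := L.tree.toList.map fun en => K.key L.base en.elem
    have hnd : keys.Nodup := by
      have h1 : (L.sorted.map fun i => K.key L.base (L.tree.get i).elem).Nodup :=
        (increasing_pairwise hinc).imp (fun h => Nat.ne_of_lt h)
      have h2 : (L.sorted.map fun i => K.key L.base (L.tree.get i).elem).Subperm keys := by
        refine h1.subperm ?_
        intro x hx
        obtain ⟨i, -, rfl⟩ := List.mem_map.1 hx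
        exact List.mem_map.2 ⟨_, Tree.get_mem _ _, rfl⟩
      have h3 := h2.perm_of_length_le (by simp [keys, hlen, Tree.length_toList])
      exact h3.nodup_iff.1 h1
    let f : Fin L.tree.toList.length × gen K rest → gen K (L :: rest) := fun p =>
      ⟨K.val (L.tree.toList[p.1.1]).elem * p.2.1,
        mul_mem (tree_mem_gen K hh.1 _ (List.getElem_mem _)) (gen_tail_le K hh.1 p.2.2)⟩
    have hf : Function.Bijective f := by
      refine ⟨?_, ?_⟩
      · rintro ⟨i, y⟩ ⟨j, z⟩ hij
        have heq : K.val (L.tree.toList[i.1]).elem * y.1 = K.val (L.tree.toList[j.1]).elem * z.1 :=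
          congrArg Subtype.val hij
        have h1 := congrArg (K.phi L.base) heq
        rw [K.phi_congr _ _ _ (phi_gen_tail K h _ y.2), K.phi_congr _ _ _ (phi_gen_tail K h _ z.2),
          ← K.key_val _ _ (hok _ (List.getElem_mem _)), ← K.key_val _ _ (hok _ (List.getElem_mem _))] at h1
        have h2 : i = j := by
          apply Fin.ext
          have hi : i.1 < keys.length := by simp [keys]
          have hj : j.1 < keys.length := by simp [keys]
          exact (hnd.getElem_inj_iff (hi := hi) (hj := hj)).1 (by simpa [keys] using h1)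
        subst h2
        obtain ⟨w, hw⟩ := hunit _ (tree_mem_gen K hh.1 _ (List.getElem_mem (l := L.tree.toList) i.2))
        have hw' : K.val (L.tree.toList[i.1]).elem = ↑w := hw.symm
        rw [hw'] at heq
        exact Prod.ext rfl (Subtype.ext ((Units.mul_right_inj w).1 heq))
      · rintro ⟨m, hm⟩
        obtain ⟨en, hen, y, hy, rfl⟩ := (mem_gen_iff K h).1 hm
        obtain ⟨i, hi, rfl⟩ := List.getElem_of_mem hen
        exact ⟨(⟨i, hi⟩, ⟨y, hy⟩), rfl⟩
    rw [← Nat.card_eq_of_bijective f hf, Nat.card_prod, Nat.card_eq_fintype_card, Fintype.card_fin,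
      Tree.length_toList, ih, orderOfChain]

/-- The order of a finite group of which the generators are coded by the first level of a checked chain. -/
theorem card_closure {G : Type*} [Group G] [Finite G] (ι : G →* M) (hι : Function.Injective ι)
    (S : Set G) (Ls : List (Level C)) (hS : ι '' S = {m | ∃ c ∈ nextGens Ls, m = K.val c})
    (h : check K Ls = true) : Nat.card (Subgroup.closure S) = orderOfChain Ls := by
  rw [← card_gen K h]
  · have hmap : gen K Ls = (Subgroup.closure S).toSubmonoid.map ι := by
      rw [Subgroup.closure_toSubmonoid_of_finite, MonoidHom.map_mclosure, hS]; rfl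
    rw [hmap]
    exact Nat.card_congr ((Subgroup.closure S).toSubmonoid.equivMapOfInjective ι hι).toEquiv
  · intro c hc
    have : K.val c ∈ ι '' S := hS ▸ ⟨c, hc, rfl⟩
    obtain ⟨g, -, hg⟩ := this
    exact hg ▸ (Group.isUnit g).map ι

end Cfsg.Agent.Lib.SporMatrix.Chain
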