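import Cfsg.Agent.Lib.SporMatrix.Chain

/-!
A fast code for 7 x 7 matrices over the integers modulo 11: one natural number per row, with 16-bit lanes.
-/

set_option autoImplicit false

namespace Cfsg.Agent.Lib.SporMatrix.Code7

/-- A coded matrix: its seven rows. -/
structure M7 where
  r0 : ℕ
  r1 : ℕ
  r2 : ℕ
  r3 : ℕ
  r4 : ℕ
  r5 : ℕ
  r6 : ℕ

abbrev Mat : Type := Matrix (Fin 7) (Fin 7) (ZMod 11)

def l0 (r : ℕ) : ℕ := Nat.mod (Nat.mod r 65536) 11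
def l1 (r : ℕ) : ℕ := Nat.mod (Nat.mod (Nat.shiftRight r 16) 65536) 11
def l2 (r : ℕ) : ℕ := Nat.mod (Nat.mod (Nat.shiftRight r 32) 65536) 11
def l3 (r : ℕ) : ℕ := Nat.mod (Nat.mod (Nat.shiftRight r 48) 65536) 11
def l4 (r : ℕ) : ℕ := Nat.mod (Nat.mod (Nat.shiftRight r 64) 65536) 11
def l5 (r : ℕ) : ℕ := Nat.mod (Nat.mod (Nat.shiftRight r 80) 65536) 11
def l6 (r : ℕ) : ℕ := Nat.mod (Nat.mod (Nat.shiftRight r 96) 65536) 11

def pack (a b c d e f g : ℕ) : ℕ :=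
  a + 2 ^ 16 * b + 2 ^ 32 * c + 2 ^ 48 * d + 2 ^ 64 * e + 2 ^ 80 * f + 2 ^ 96 * g

def red (r : ℕ) : ℕ := pack (l0 r) (l1 r) (l2 r) (l3 r) (l4 r) (l5 r) (l6 r)

def rowMul (r : ℕ) (B : M7) : ℕ :=
  red (l0 r * B.r0 + l1 r * B.r1 + l2 r * B.r2 + l3 r * B.r3 + l4 r * B.r4 + l5 r * B.r5 + l6 r * B.r6)

def mul (A B : M7) : M7 :=
  ⟨rowMul A.r0 B, rowMul A.r1 B, rowMul A.r2 B, rowMul A.r3 B, rowMul A.r4 B, rowMul A.r5 B, rowMul A.r6 B⟩

def one : M7 :=
  ⟨pack 1 0 0 0 0 0 0, pack 0 1 0 0 0 0 0, pack 0 0 1 0 0 0 0, pack 0 0 0 1 0 0 0,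
    pack 0 0 0 0 1 0 0, pack 0 0 0 0 0 1 0, pack 0 0 0 0 0 0 1⟩

def ok (A : M7) : Bool :=
  Nat.beq A.r0 (red A.r0) && Nat.beq A.r1 (red A.r1) && Nat.beq A.r2 (red A.r2) &&
  Nat.beq A.r3 (red A.r3) && Nat.beq A.r4 (red A.r4) && Nat.beq A.r5 (red A.r5) && Nat.beq A.r6 (red A.r6)

def beq (A B : M7) : Bool :=
  Nat.beq A.r0 B.r0 && Nat.beq A.r1 B.r1 && Nat.beq A.r2 B.r2 && Nat.beq A.r3 B.r3 &&
  Nat.beq A.r4 B.r4 && Nat.beq A.r5 B.r5 && Nat.beq A.r6 B.r6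

/-- The row decoded as a vector. -/
def dec (r : ℕ) : Fin 7 → ZMod 11 :=
  ![(l0 r : ZMod 11), (l1 r : ZMod 11), (l2 r : ZMod 11), (l3 r : ZMod 11), (l4 r : ZMod 11),
    (l5 r : ZMod 11), (l6 r : ZMod 11)]

/-- The matrix coded by `A`. -/
def val (A : M7) : Mat :=
  Matrix.of ![dec A.r0, dec A.r1, dec A.r2, dec A.r3, dec A.r4, dec A.r5, dec A.r6]

def enc (v : Fin 7 → ZMod 11) : ℕ :=
  pack (v 0).val (v 1).val (v 2).val (v 3).val (v 4).val (v 5).val (v 6).val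

/-- The image of the base vector coded by `b` under `A`, coded. -/
def key (b : ℕ) (A : M7) : ℕ :=
  let d := fun r => (l0 r * l0 b + l1 r * l1 b + l2 r * l2 b + l3 r * l3 b + l4 r * l4 b + l5 r * l5 b + l6 r * l6 b) % 11
  pack (d A.r0) (d A.r1) (d A.r2) (d A.r3) (d A.r4) (d A.r5) (d A.r6)

theorem red_pack {a b c d e f g : ℕ} (ha : a < 65536) (hb : b < 65536) (hc : c < 65536) (hd : d < 65536)
    (he : e < 65536) (hf : f < 65536) (hg : g < 65536) :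
    red (pack a b c d e f g) = pack (a % 11) (b % 11) (c % 11) (d % 11) (e % 11) (f % 11) (g % 11) := by
  have hs : ∀ x n : ℕ, Nat.shiftRight x n = x / 2 ^ n := fun x n => Nat.shiftRight_eq_div_pow x n
  have hm : ∀ x y : ℕ, Nat.mod x y = x % y := fun _ _ => rfl
  simp only [red, l0, l1, l2, l3, l4, l5, l6, hs, hm]
  have e0 : pack a b c d e f g % 65536 = a := by simp only [pack]; omega
  have e1 : pack a b c d e f g / 2 ^ 16 % 65536 = b := by simp only [pack]; omega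
  have e2 : pack a b c d e f g / 2 ^ 32 % 65536 = c := by simp only [pack]; omega
  have e3 : pack a b c d e f g / 2 ^ 48 % 65536 = d := by simp only [pack]; omega
  have e4 : pack a b c d e f g / 2 ^ 64 % 65536 = e := by simp only [pack]; omega
  have e5 : pack a b c d e f g / 2 ^ 80 % 65536 = f := by simp only [pack]; omega
  have e6 : pack a b c d e f g / 2 ^ 96 % 65536 = g := by simp only [pack]; omega
  rw [e0, e1, e2, e3, e4, e5, e6]

theorem l_lt (r : ℕ) : l0 r < 11 ∧ l1 r < 11 ∧ l2 r < 11 ∧ l3 r < 11 ∧ l4 r < 11 ∧ l5 r < 11 ∧ l6 r < 11 :=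
  ⟨Nat.mod_lt _ (by norm_num), Nat.mod_lt _ (by norm_num), Nat.mod_lt _ (by norm_num), Nat.mod_lt _ (by norm_num),
    Nat.mod_lt _ (by norm_num), Nat.mod_lt _ (by norm_num), Nat.mod_lt _ (by norm_num)⟩

theorem l_pack {a b c d e f g : ℕ} (ha : a < 11) (hb : b < 11) (hc : c < 11) (hd : d < 11) (he : e < 11)
    (hf : f < 11) (hg : g < 11) :
    l0 (pack a b c d e f g) = a ∧ l1 (pack a b c d e f g) = b ∧ l2 (pack a b c d e f g) = c ∧
    l3 (pack a b c d e f g) = d ∧ l4 (pack a b c d e f g) = e ∧ l5 (pack a b c d e f g) = f ∧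
    l6 (pack a b c d e f g) = g := by
  have hs : ∀ x n : ℕ, Nat.shiftRight x n = x / 2 ^ n := fun x n => Nat.shiftRight_eq_div_pow x n
  have hm : ∀ x y : ℕ, Nat.mod x y = x % y := fun _ _ => rfl
  simp only [l0, l1, l2, l3, l4, l5, l6, hs, hm, pack]
  omega

theorem red_red (r : ℕ) : red (red r) = red r := by
  obtain ⟨a, b, c, d, e, f, g⟩ := l_lt r
  rw [show red r = pack (l0 r) (l1 r) (l2 r) (l3 r) (l4 r) (l5 r) (l6 r) from rfl,
    red_pack (by omega) (by omega) (by omega) (by omega) (by omega) (by omega) (by omega)]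
  simp only [Nat.mod_eq_of_lt a, Nat.mod_eq_of_lt b, Nat.mod_eq_of_lt c, Nat.mod_eq_of_lt d,
    Nat.mod_eq_of_lt e, Nat.mod_eq_of_lt f, Nat.mod_eq_of_lt g]

theorem ok_spec {A : M7} (h : ok A = true) :
    A.r0 = red A.r0 ∧ A.r1 = red A.r1 ∧ A.r2 = red A.r2 ∧ A.r3 = red A.r3 ∧ A.r4 = red A.r4 ∧
      A.r5 = red A.r5 ∧ A.r6 = red A.r6 := by
  simp only [ok, Bool.and_eq_true] at h
  obtain ⟨⟨⟨⟨⟨⟨h0, h1⟩, h2⟩, h3⟩, h4⟩, h5⟩, h6⟩ := h
  exact ⟨Nat.eq_of_beq_eq_true h0, Nat.eq_of_beq_eq_true h1, Nat.eq_of_beq_eq_true h2,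
    Nat.eq_of_beq_eq_true h3, Nat.eq_of_beq_eq_true h4, Nat.eq_of_beq_eq_true h5, Nat.eq_of_beq_eq_true h6⟩

theorem beq_eq {A B : M7} (h : beq A B = true) : A = B := by
  obtain ⟨a0, a1, a2, a3, a4, a5, a6⟩ := A
  obtain ⟨b0, b1, b2, b3, b4, b5, b6⟩ := B
  simp only [beq, Bool.and_eq_true] at h
  obtain ⟨⟨⟨⟨⟨⟨h0, h1⟩, h2⟩, h3⟩, h4⟩, h5⟩, h6⟩ := h
  rw [Nat.eq_of_beq_eq_true h0, Nat.eq_of_beq_eq_true h1, Nat.eq_of_beq_eq_true h2, Nat.eq_of_beq_eq_true h3,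
    Nat.eq_of_beq_eq_true h4, Nat.eq_of_beq_eq_true h5, Nat.eq_of_beq_eq_true h6]

theorem dec_rowMul (r : ℕ) {B : M7} (hB : ok B = true) : dec (rowMul r B) = Matrix.vecMul (dec r) (val B) := by
  obtain ⟨h0, h1, h2, h3, h4, h5, h6⟩ := ok_spec hB
  obtain ⟨a0, a1, a2, a3, a4, a5, a6⟩ := l_lt r
  have bnd : ∀ x : ℕ → ℕ, (∀ i, x i < 11) →
      l0 r * x 0 + l1 r * x 1 + l2 r * x 2 + l3 r * x 3 + l4 r * x 4 + l5 r * x 5 + l6 r * x 6 < 65536 := by
    intro x hx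
    have h := fun (a i : ℕ) (ha : a < 11) => Nat.mul_le_mul (Nat.le_of_lt ha) (Nat.le_of_lt (hx i))
    linarith [h _ 0 a0, h _ 1 a1, h _ 2 a2, h _ 3 a3, h _ 4 a4, h _ 5 a5, h _ 6 a6]
  let col : (ℕ → ℕ) → ℕ := fun l => l0 r * l B.r0 + l1 r * l B.r1 + l2 r * l B.r2 + l3 r * l B.r3 +
      l4 r * l B.r4 + l5 r * l B.r5 + l6 r * l B.r6
  have hsum : l0 r * B.r0 + l1 r * B.r1 + l2 r * B.r2 + l3 r * B.r3 + l4 r * B.r4 + l5 r * B.r5 + l6 r * B.r6
      = pack (col l0) (col l1) (col l2) (col l3) (col l4) (col l5) (col l6) := by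
    conv_lhs => rw [h0, h1, h2, h3, h4, h5, h6]
    simp only [red, pack, col]
    ring
  have hb : ∀ l : ℕ → ℕ, (∀ x, l x < 11) → col l < 65536 := fun l hl =>
    bnd (fun i => l (match i with | 0 => B.r0 | 1 => B.r1 | 2 => B.r2 | 3 => B.r3 | 4 => B.r4 | 5 => B.r5 | _ => B.r6))
      (fun _ => hl _)
  have hr : rowMul r B = pack (col l0 % 11) (col l1 % 11) (col l2 % 11) (col l3 % 11) (col l4 % 11)
      (col l5 % 11) (col l6 % 11) := by
    rw [rowMul, hsum, red_pack (hb _ fun x => (l_lt x).1) (hb _ fun x => (l_lt x).2.1) (hb _ fun x => (l_lt x).2.2.1)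
      (hb _ fun x => (l_lt x).2.2.2.1) (hb _ fun x => (l_lt x).2.2.2.2.1) (hb _ fun x => (l_lt x).2.2.2.2.2.1)
      (hb _ fun x => (l_lt x).2.2.2.2.2.2)]
  have hlt : ∀ x : ℕ, x % 11 < 11 := fun x => Nat.mod_lt _ (by norm_num)
  obtain ⟨p0, p1, p2, p3, p4, p5, p6⟩ := l_pack (hlt (col l0)) (hlt (col l1)) (hlt (col l2)) (hlt (col l3))
    (hlt (col l4)) (hlt (col l5)) (hlt (col l6))
  funext j
  fin_cases j <;>
    simp [dec, val, Matrix.vecMul, dotProduct, Fin.sum_univ_seven, hr, p0, p1, p2, p3, p4, p5, p6, col,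
      ZMod.natCast_mod]

theorem val_mul (A B : M7) (hB : ok B = true) : val (mul A B) = val A * val B := by
  funext i j
  fin_cases i <;>
    exact congrFun (dec_rowMul _ hB) j

theorem ok_mul (A B : M7) : ok (mul A B) = true := by
  simp only [ok, mul, rowMul, red_red, Bool.and_eq_true, Nat.beq_eq, and_self]

theorem enc_injective : Function.Injective enc := by
  intro v w h
  have hv : ∀ u : Fin 7 → ZMod 11, ∀ i, (u i).val < 11 := fun u i => ZMod.val_lt (u i)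
  have := hv v 0; have := hv v 1; have := hv v 2; have := hv v 3; have := hv v 4; have := hv v 5; have := hv v 6
  have := hv w 0; have := hv w 1; have := hv w 2; have := hv w 3; have := hv w 4; have := hv w 5; have := hv w 6
  simp only [enc, pack] at h
  funext i
  apply ZMod.val_injective 11
  fin_cases i <;> (simp only [Fin.reduceFinMk, Fin.isValue]; omega)

theorem key_eq (b : ℕ) (A : M7) : key b A = enc (Matrix.mulVec (val A) (dec b)) := by
  simp only [key, enc, val, dec, Matrix.mulVec, dotProduct, Fin.sum_univ_seven, Matrix.of_apply,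
    Matrix.cons_val, ← Nat.cast_mul, ← Nat.cast_add, ZMod.val_natCast]

/-- The coding of the matrix monoid; keys are images of coded vectors. -/
def coding : Chain.Coding Mat M7 where
  val := val
  one := one
  mul := mul
  beq := beq
  ok := ok
  key := key
  phi b m := enc (Matrix.mulVec m (dec b))
  val_one := by decide
  ok_one := by decide
  val_mul _ B _ hB := val_mul _ B hB
  ok_mul A B _ _ := ok_mul A B
  beq_val _ _ h := congrArg val (beq_eq h)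
  key_val b A _ := key_eq b A
  phi_congr b x y h := by
    have h' := enc_injective h
    rw [Matrix.one_mulVec] at h'
    show enc (Matrix.mulVec (x * y) (dec b)) = enc (Matrix.mulVec x (dec b))
    rw [← Matrix.mulVec_mulVec, h']

end Cfsg.Agent.Lib.SporMatrix.Code7
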