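import Cfsg.Prelude.Def_Spor_J3

/-!
A fast code for 9 x 9 matrices over the field with four elements.

A vector is 18 bits (coefficients of 1, then of ω); a matrix is the packed list of the images of the 18
vectors `e_k`, `ω e_k`, in lanes of 18 bits.  A product costs 18 big-number multiplications.
-/

set_option autoImplicit false
set_option exponentiation.threshold 400

namespace Cfsg.Agent.Lib.SporMatrix.Code9

open Cfsg.Spor

/-- Position of an index. -/
def pos (z : F9) : ℕ := 3 * z.1.val + z.2.val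

def lane (N k : ℕ) : ℕ := Nat.mod (Nat.shiftRight N (18 * k)) 262144

def ones : ℕ → ℕ
  | 0 => 0
  | n + 1 => 1 + 262144 * ones n

/-- The all-ones-per-lane mask. -/
def mask : ℕ := ones 18

def mulAux (N X : ℕ) : ℕ → ℕ
  | 0 => 0
  | i + 1 => Nat.xor (mulAux N X i) (Nat.mul (Nat.land (Nat.shiftRight X i) mask) (lane N i))

/-- Matrix product. -/
def mul (N X : ℕ) : ℕ := mulAux N X 18

def applyAux (N v : ℕ) : ℕ → ℕ
  | 0 => 0
  | i + 1 => Nat.xor (applyAux N v i) (Nat.mul (Nat.land (Nat.shiftRight v i) 1) (lane N i))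

/-- Matrix times vector. -/
def apply (N v : ℕ) : ℕ := applyAux N v 18

/-- Multiplication of a vector by ω. -/
def omul (v : ℕ) : ℕ :=
  Nat.land (Nat.shiftRight v 9) 511 +
    Nat.shiftLeft (Nat.xor (Nat.land v 511) (Nat.land (Nat.shiftRight v 9) 511)) 9

def okLanes (N : ℕ) : ℕ → Bool
  | 0 => true
  | k + 1 => Nat.beq (lane N (9 + k)) (omul (lane N k)) && okLanes N k

def ok (N : ℕ) : Bool := okLanes N 9 && Nat.beq (Nat.shiftRight N 324) 0

def oneLanes : ℕ → ℕ → ℕ
  | _, 0 => 0
  | v, n + 1 => v + 262144 * oneLanes (2 * v) n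

/-- The identity. -/
def one : ℕ := oneLanes 1 18

/-- The coefficient pair of a vector at a position, as a number below 4. -/
def entry (N : ℕ) (w z : F9) : ℕ :=
  Nat.land (Nat.shiftRight (lane N (pos z)) (pos w)) 1 +
    2 * Nat.land (Nat.shiftRight (lane N (pos z)) (9 + pos w)) 1

theorem lane_eq (N k : ℕ) : lane N k = N / 2 ^ (18 * k) % 2 ^ 18 := by
  show N >>> (18 * k) % 262144 = _
  rw [Nat.shiftRight_eq_div_pow]
  rfl

theorem lane_lt (N k : ℕ) : lane N k < 2 ^ 18 := by
  rw [lane_eq]; exact Nat.mod_lt _ (by positivity)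

theorem lane_succ (N k : ℕ) : lane N (k + 1) = lane (N / 2 ^ 18) k := by
  rw [lane_eq, lane_eq, Nat.div_div_eq_div_mul, ← pow_add]
  congr 3
  ring

theorem testBit_lane (N k j : ℕ) : (lane N k).testBit j = (decide (j < 18) && N.testBit (18 * k + j)) := by
  rw [lane_eq, Nat.testBit_mod_two_pow, ← Nat.shiftRight_eq_div_pow, Nat.testBit_shiftRight]

theorem lane_xor (a b k : ℕ) : lane (Nat.xor a b) k = Nat.xor (lane a k) (lane b k) := by
  apply Nat.eq_of_testBit_eq
  intro j
  show (lane (a ^^^ b) k).testBit j = (lane a k ^^^ lane b k).testBit j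
  simp only [testBit_lane, Nat.testBit_xor]
  cases decide (j < 18) <;> simp

theorem land_one (x : ℕ) : Nat.land x 1 = x % 2 := Nat.and_one_is_mod x

theorem lane_mask_mul : ∀ (n X c k : ℕ), c < 2 ^ 18 → k < n →
    lane (Nat.land X (ones n) * c) k = Nat.land (X / 2 ^ (18 * k)) 1 * c
  | 0, _, _, k, _, h => by omega
  | n + 1, X, c, k, hc, hk => by
    have hsplit : Nat.land X (ones (n + 1)) = X % 2 + 2 ^ 18 * Nat.land (X / 2 ^ 18) (ones n) := by
      show X &&& (1 + 262144 * ones n) = _ + _ * (X / 2 ^ 18 &&& ones n)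
      apply Nat.eq_of_testBit_eq
      intro j
      rw [Nat.testBit_and, show 1 + 262144 * ones n = 2 ^ 18 * ones n + 1 by ring,
        Nat.testBit_two_pow_mul_add _ (by norm_num),
        show X % 2 + 2 ^ 18 * (X / 2 ^ 18 &&& ones n) = 2 ^ 18 * (X / 2 ^ 18 &&& ones n) + X % 2 by ring,
        Nat.testBit_two_pow_mul_add _ (by omega)]
      split
      · rw [show X % 2 = X % 2 ^ 1 by norm_num, Nat.testBit_mod_two_pow]
        rcases Nat.eq_zero_or_pos j with rfl | hj
        · simp
        · have h2 : (1 : ℕ).testBit j = false := Nat.testBit_lt_two_pow (Nat.one_lt_two_pow (by omega))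
          simp [h2, show ¬ j < 1 by omega]
      · rw [Nat.testBit_and, ← Nat.shiftRight_eq_div_pow, Nat.testBit_shiftRight,
          show 18 + (j - 18) = j by omega]
    rw [hsplit]
    have hlt : X % 2 * c < 2 ^ 18 := by
      rcases Nat.mod_two_eq_zero_or_one X with h | h <;> rw [h]
      · rw [Nat.zero_mul]; positivity
      · rw [Nat.one_mul]; exact hc
    cases k with
    | zero =>
      rw [land_one, lane_eq, Nat.mul_zero, pow_zero, Nat.div_one, Nat.div_one, Nat.add_mul, Nat.mul_assoc,
        Nat.add_mul_mod_self_left, Nat.mod_eq_of_lt hlt]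
    | succ k =>
      have key : ∀ a b d P : ℕ, 0 < P → a * d < P → (a + P * b) * d / P = b * d := by
        intro a b d P hP h
        rw [Nat.add_mul, Nat.mul_assoc, Nat.add_mul_div_left _ _ hP, Nat.div_eq_of_lt h, Nat.zero_add]
      have hq : X / 2 ^ 18 / 2 ^ (18 * k) = X / 2 ^ (18 * (k + 1)) := by
        rw [Nat.div_div_eq_div_mul, ← pow_add, show 18 + 18 * k = 18 * (k + 1) by ring]
      rw [lane_succ, key _ _ _ _ (Nat.two_pow_pos 18) hlt]
      rw [lane_mask_mul n _ c k hc (Nat.lt_of_succ_lt_succ hk)]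
      rw [hq]

theorem lane_mulAux (N X k : ℕ) (hk : k < 18) : ∀ n ≤ 18, lane (mulAux N X n) k = applyAux N (lane X k) n
  | 0, _ => by simp [mulAux, applyAux, lane_eq]
  | n + 1, hn => by
    rw [mulAux, applyAux, lane_xor, lane_mulAux N X k hk n (by omega)]
    congr 1
    rw [show Nat.mul (Nat.land (Nat.shiftRight X n) mask) (lane N n)
        = Nat.land (Nat.shiftRight X n) (ones 18) * lane N n from rfl,
      lane_mask_mul 18 _ _ k (lane_lt N n) hk]
    show _ * _ = Nat.land (lane X k >>> n) 1 * lane N n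
    congr 1
    apply Nat.eq_of_testBit_eq
    intro j
    show ((X >>> n / 2 ^ (18 * k)) &&& 1).testBit j = ((lane X k >>> n) &&& 1).testBit j
    rw [Nat.testBit_and, Nat.testBit_and, ← Nat.shiftRight_eq_div_pow, Nat.testBit_shiftRight,
      Nat.testBit_shiftRight, Nat.testBit_shiftRight, testBit_lane]
    rcases Nat.eq_zero_or_pos j with rfl | hj
    · simp [show n < 18 by omega, Nat.add_comm]
    · simp [Nat.testBit_lt_two_pow (Nat.one_lt_two_pow (show j ≠ 0 by omega))]

theorem lane_mul (N X k : ℕ) (hk : k < 18) : lane (mul N X) k = apply N (lane X k) :=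
  lane_mulAux N X k hk 18 le_rfl

theorem applyAux_lt (N v : ℕ) : ∀ n, applyAux N v n < 2 ^ 18
  | 0 => by simp [applyAux]
  | n + 1 => by
    refine Nat.xor_lt_two_pow (applyAux_lt N v n) ?_
    show Nat.land (v >>> n) 1 * lane N n < 2 ^ 18
    rw [land_one]
    rcases Nat.mod_two_eq_zero_or_one (v >>> n) with h | h <;> rw [h]
    · rw [Nat.zero_mul]; positivity
    · rw [Nat.one_mul]; exact lane_lt N n

theorem apply_lt (N v : ℕ) : apply N v < 2 ^ 18 := applyAux_lt N v 18

theorem eq_zero_of_lanes : ∀ (n N : ℕ), N < 2 ^ (18 * n) → (∀ k < n, lane N k = 0) → N = 0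
  | 0, N, h, _ => by simpa using h
  | n + 1, N, h, hl => by
    have h0 := hl 0 (by omega)
    rw [lane_eq, Nat.mul_zero, pow_zero, Nat.div_one] at h0
    have h1 : N / 2 ^ 18 = 0 := eq_zero_of_lanes n _
      (Nat.div_lt_of_lt_mul (by rw [← pow_add]; convert h using 2; ring))
      (fun k hk => by rw [← lane_succ]; exact hl _ (by omega))
    omega

theorem mulAux_lt (N X : ℕ) : ∀ n, mulAux N X n < 2 ^ 324
  | 0 => by simp [mulAux]
  | n + 1 => by
    refine Nat.xor_lt_two_pow (mulAux_lt N X n) ?_
    show Nat.land (X >>> n) mask * lane N n < 2 ^ 324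
    have h1 : Nat.land (X >>> n) mask ≤ mask := Nat.and_le_right
    calc Nat.land (X >>> n) mask * lane N n ≤ mask * lane N n := Nat.mul_le_mul_right _ h1
      _ ≤ mask * (2 ^ 18 - 1) := Nat.mul_le_mul_left _ (Nat.le_sub_one_of_lt (lane_lt N n))
      _ < 2 ^ 324 := by decide +kernel

/-! ### Decoding -/

variable {F : Type*} [Field F] (ω : F)

/-- A bit as a field element. -/
def bit (b : Bool) : F := if b then 1 else 0

/-- The field element with coefficient pair `c`. -/
def scal (c : ℕ) : F := bit (c.testBit 0) + bit (c.testBit 1) * ω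

/-- The vector with a given code. -/
def decV (v : ℕ) : F9 → F := fun z => bit (v.testBit (pos z)) + bit (v.testBit (9 + pos z)) * ω

/-- The matrix with a given code. -/
def dec (N : ℕ) : Matrix F9 F9 F := Matrix.of fun w z => decV ω (lane N (pos z)) w

theorem dec_entry (N : ℕ) (w z : F9) : dec ω N w z = scal ω (entry N w z) := by
  have hb : ∀ x i : ℕ, Nat.land (Nat.shiftRight x i) 1 = (x.testBit i).toNat := by
    intro x i
    rw [land_one, Nat.toNat_testBit, ← Nat.shiftRight_eq_div_pow]; rfl
  show bit _ + bit _ * ω = scal ω (entry N w z)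
  rw [entry, hb, hb]
  cases (lane N (pos z)).testBit (pos w) <;> cases (lane N (pos z)).testBit (9 + pos w) <;> rfl

variable (h2 : (2 : F) = 0) (hω : ω ^ 2 + ω + 1 = 0)

include h2 in
theorem add_self_zero (x : F) : x + x = 0 := by linear_combination x * h2

include h2 in
theorem bit_xor (a b : Bool) : (bit (a ^^ b) : F) = bit a + bit b := by
  cases a <;> cases b <;> simp [bit, add_self_zero h2]

include h2 in
theorem decV_xor (a b : ℕ) : decV ω (Nat.xor a b) = decV ω a + decV ω b := by
  funext z
  simp only [decV, show Nat.xor a b = a ^^^ b from rfl, Nat.testBit_xor, bit_xor h2, Pi.add_apply]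
  ring

theorem decV_zero : decV ω 0 = 0 := by
  funext z; simp [decV, bit]

theorem pos_lt : ∀ z : F9, pos z < 9 := by decide

theorem pos_injective : ∀ z w : F9, pos z = pos w → z = w := by decide

theorem pos_surj : ∀ k : Fin 9, ∃ z : F9, pos z = k.1 := by decide

theorem testBit_omul {v : ℕ} (j : ℕ) :
    (omul v).testBit j = if j < 9 then v.testBit (9 + j)
      else if j < 18 then v.testBit (j - 9) ^^ v.testBit j else false := by
  show (((v >>> 9) &&& 511) + ((v &&& 511) ^^^ ((v >>> 9) &&& 511)) <<< 9).testBit j = _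
  have hlt : (v >>> 9) &&& 511 < 2 ^ 9 := Nat.lt_succ_of_le Nat.and_le_right
  rw [Nat.shiftLeft_eq, Nat.add_comm, Nat.mul_comm, Nat.testBit_two_pow_mul_add _ hlt]
  have h511 : ∀ i, (511 : ℕ).testBit i = decide (i < 9) := fun i => by
    rw [show (511 : ℕ) = 2 ^ 9 - 1 by norm_num, Nat.testBit_two_pow_sub_one]
  by_cases h : j < 9
  · simp [h, Nat.testBit_and, Nat.testBit_shiftRight, h511]
  · simp only [h, if_false, Nat.testBit_xor, Nat.testBit_and, Nat.testBit_shiftRight, h511]
    by_cases h' : j < 18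
    · simp [h', show j - 9 < 9 by omega, show 9 + (j - 9) = j by omega]
    · simp [h', show ¬ j - 9 < 9 by omega]

theorem omul_lt (v : ℕ) : omul v < 2 ^ 18 := by
  apply Nat.lt_pow_two_of_testBit
  intro i hi
  rw [testBit_omul, if_neg (by omega), if_neg (by omega)]

include h2 hω in
theorem decV_omul (v : ℕ) : decV ω (omul v) = ω • decV ω v := by
  funext z
  have hz := pos_lt z
  simp only [decV, testBit_omul, if_pos hz, if_neg (show ¬ 9 + pos z < 9 by omega),
    if_pos (show 9 + pos z < 18 by omega), Nat.add_sub_cancel_left, bit_xor h2, Pi.smul_apply, smul_eq_mul]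
  linear_combination (-(bit (v.testBit (9 + pos z)) : F)) * hω +
    ((bit (v.testBit (9 + pos z)) : F) + (bit (v.testBit (9 + pos z)) : F) * ω) * h2

theorem okLanes_spec {N : ℕ} : ∀ {n}, okLanes N n = true → ∀ k < n, lane N (9 + k) = omul (lane N k)
  | 0, _, k, hk => by omega
  | n + 1, h, k, hk => by
    rw [okLanes, Bool.and_eq_true] at h
    rcases Nat.lt_or_eq_of_le (Nat.le_of_lt_succ hk) with hk | rfl
    · exact okLanes_spec h.2 k hk
    · exact Nat.eq_of_beq_eq_true h.1

theorem ok_lanes {N : ℕ} (h : ok N = true) (k : ℕ) (hk : k < 9) : lane N (9 + k) = omul (lane N k) := by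
  rw [ok, Bool.and_eq_true] at h
  exact okLanes_spec h.1 k hk

theorem ok_lt {N : ℕ} (h : ok N = true) : N < 2 ^ 324 := by
  rw [ok, Bool.and_eq_true] at h
  have := Nat.eq_of_beq_eq_true h.2
  rw [show Nat.shiftRight N 324 = N >>> 324 from rfl, Nat.shiftRight_eq_div_pow] at this
  rcases Nat.div_eq_zero_iff.1 this with h0 | h0
  · exact absurd h0 (Nat.two_pow_pos 324).ne'
  · exact h0

include h2 in
theorem decV_applyAux (N v : ℕ) : ∀ n, decV ω (applyAux N v n) =
    ∑ i ∈ Finset.range n, (bit (v.testBit i) : F) • decV ω (lane N i)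
  | 0 => by simp [applyAux, decV_zero]
  | n + 1 => by
    rw [applyAux, decV_xor ω h2, decV_applyAux N v n, Finset.sum_range_succ]
    congr 1
    show decV ω (Nat.land (v >>> n) 1 * lane N n) = _
    rw [land_one, Nat.shiftRight_eq_div_pow, ← Nat.toNat_testBit]
    cases v.testBit n <;> simp [decV_zero, bit]

/-- The enumeration of the index set by positions. -/
noncomputable def posEquiv : F9 ≃ Fin 9 :=
  Equiv.ofBijective (fun z => ⟨pos z, pos_lt z⟩)
    ⟨fun z w h => pos_injective z w (congrArg Fin.val h), fun k =>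
      let ⟨z, hz⟩ := pos_surj k; ⟨z, Fin.ext hz⟩⟩

include h2 hω in
theorem decV_apply {N : ℕ} (hN : ok N = true) (v : ℕ) :
    decV ω (apply N v) = Matrix.mulVec (dec ω N) (decV ω v) := by
  rw [apply, decV_applyAux ω h2]
  funext w
  simp only [Finset.sum_apply, Pi.smul_apply, smul_eq_mul, Matrix.mulVec, dotProduct, dec, Matrix.of_apply]
  rw [show (18 : ℕ) = 9 + 9 from rfl, Finset.sum_range_add, ← Finset.sum_add_distrib, Finset.sum_range,
    ← Equiv.sum_comp posEquiv]
  refine Finset.sum_congr rfl fun z _ => ?_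
  show bit (v.testBit (pos z)) * decV ω (lane N (pos z)) w +
      bit (v.testBit (9 + pos z)) * decV ω (lane N (9 + pos z)) w
    = decV ω (lane N (pos z)) w * decV ω v z
  rw [ok_lanes hN _ (pos_lt z), decV_omul ω h2 hω, Pi.smul_apply, smul_eq_mul,
    show decV ω v z = bit (v.testBit (pos z)) + bit (v.testBit (9 + pos z)) * ω from rfl]
  ring

include h2 hω in
theorem dec_mul {N : ℕ} (hN : ok N = true) (X : ℕ) : dec ω (mul N X) = dec ω N * dec ω X := by
  funext w z
  show decV ω (lane (mul N X) (pos z)) w = _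
  rw [lane_mul _ _ _ (by have := pos_lt z; omega), decV_apply ω h2 hω hN]
  rfl

include h2 hω in
theorem omega_ne : ω ≠ 0 ∧ ω ≠ 1 := by
  constructor <;> rintro rfl
  · simp at hω
  · exact one_ne_zero (show (1 : F) = 0 by linear_combination hω - h2)

include h2 hω in
theorem bit_pair_injective {a b a' b' : Bool}
    (h : (bit a : F) + bit b * ω = bit a' + bit b' * ω) : a = a' ∧ b = b' := by
  obtain ⟨h0, h1⟩ := omega_ne ω h2 hω
  have key : ∀ x y : Bool, (bit x : F) + bit y * ω = 0 → x = false ∧ y = false := by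
    intro x y hxy
    cases x <;> cases y <;> simp [bit] at hxy ⊢
    · exact h0 hxy
    · exact h1 (by linear_combination hxy - h2)
  have := key (a ^^ a') (b ^^ b') (by
    rw [bit_xor h2, bit_xor h2]
    linear_combination h + (bit a' + bit b' * ω) * h2)
  revert this
  cases a <;> cases a' <;> cases b <;> cases b' <;> simp

include h2 hω in
theorem decV_injective {a b : ℕ} (ha : a < 2 ^ 18) (hb : b < 2 ^ 18) (h : decV ω a = decV ω b) : a = b := by
  apply Nat.eq_of_testBit_eq
  intro j
  by_cases hj : j < 18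
  · by_cases hj9 : j < 9
    · obtain ⟨z, hz⟩ := pos_surj ⟨j, hj9⟩
      simpa [hz] using (bit_pair_injective ω h2 hω (congrFun h z)).1
    · obtain ⟨z, hz⟩ := pos_surj ⟨j - 9, by omega⟩
      simpa [hz, show 9 + (j - 9) = j by omega] using (bit_pair_injective ω h2 hω (congrFun h z)).2
  · rw [Nat.testBit_lt_two_pow (ha.trans_le (Nat.pow_le_pow_right (by norm_num) (by omega))),
      Nat.testBit_lt_two_pow (hb.trans_le (Nat.pow_le_pow_right (by norm_num) (by omega)))]

theorem okLanes_of {N : ℕ} : ∀ {n}, n ≤ 9 → (∀ k < 9, lane N (9 + k) = omul (lane N k)) →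
    okLanes N n = true
  | 0, _, _ => rfl
  | n + 1, hn, h => by
    rw [okLanes, okLanes_of (by omega) h, h n (by omega)]
    simp

include h2 hω in
theorem ok_mul {N X : ℕ} (hN : ok N = true) (hX : ok X = true) : ok (mul N X) = true := by
  rw [ok, okLanes_of le_rfl fun k hk => ?_]
  · have h0 : Nat.shiftRight (mul N X) 324 = 0 := by
      show mul N X >>> 324 = 0
      rw [Nat.shiftRight_eq_div_pow]
      exact Nat.div_eq_of_lt (mulAux_lt N X 18)
    rw [h0]; rfl
  · apply decV_injective ω h2 hω (lane_lt _ _) (omul_lt _)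
    rw [decV_omul ω h2 hω, lane_mul _ _ _ (by omega), lane_mul _ _ _ (by omega), ok_lanes hX k hk,
      decV_apply ω h2 hω hN, decV_apply ω h2 hω hN, decV_omul ω h2 hω, Matrix.mulVec_smul]

include h2 hω in
theorem dec_injective {N X : ℕ} (hN : ok N = true) (hX : ok X = true) (h : dec ω N = dec ω X) : N = X := by
  have hlanes : ∀ k < 18, lane N k = lane X k := by
    have h9 : ∀ k < 9, lane N k = lane X k := by
      intro k hk
      obtain ⟨z, hz⟩ := pos_surj ⟨k, hk⟩
      apply decV_injective ω h2 hω (lane_lt _ _) (lane_lt _ _)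
      funext w
      have := congrFun (congrFun h w) z
      simpa [dec, hz] using this
    intro k hk
    by_cases h' : k < 9
    · exact h9 k h'
    · obtain ⟨k', rfl⟩ : ∃ k', k = 9 + k' := ⟨k - 9, by omega⟩
      rw [ok_lanes hN k' (by omega), ok_lanes hX k' (by omega), h9 k' (by omega)]
  have hxor : Nat.xor N X = 0 := by
    refine eq_zero_of_lanes 18 _ (Nat.xor_lt_two_pow (ok_lt hN) (ok_lt hX)) fun k hk => ?_
    rw [lane_xor, hlanes k hk]
    exact Nat.xor_self _
  exact Nat.xor_eq_zero_iff.1 hxor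

theorem ok_one : ok one = true := by decide +kernel

theorem entry_one : ∀ w z : F9, entry one w z = if w = z then 1 else 0 := by decide +kernel

theorem dec_one : dec ω one = 1 := by
  funext w z
  rw [dec_entry, entry_one, Matrix.one_apply]
  split <;> simp [scal, bit, show (1 : ℕ).testBit 1 = false by decide]

end Cfsg.Agent.Lib.SporMatrix.Code9
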