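import Mathlib

/-!
A non-split double cover of the alternating group of degree 8, inside A₈ × GL₈(3): the matrices come
from the even Clifford algebra in eight variables, realised by octonion left multiplications.
-/

set_option autoImplicit false

namespace Cfsg.Agent.Lib.SporMatrix.CoverAltEight

abbrev Mat : Type := Matrix (Fin 8) (Fin 8) (ZMod 3)

/-- Bit z of entry a: whether e_a e_z is a negative unit. -/
def signs : List ℕ := [0, 106, 198, 172, 30, 116, 216, 178]

/-- Left multiplication by the octonion unit e_a. -/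
def octL (a : Fin 8) : Mat := fun w z =>
  if w.1 = Nat.xor a.1 z.1 then (if (signs.getD a.1 0).testBit z.1 then -1 else 1) else 0

/-- The image of e_j e_k. -/
def gam (j k : Fin 8) : Mat :=
  if j = k then 1 else if j = 0 then octL k else if k = 0 then -octL j else -(octL j * octL k)

/-- The adjacent transposition. -/
def adj (p : Fin 7) : Equiv.Perm (Fin 8) := Equiv.swap p.castSucc p.succ

/-- The lift of the product of two adjacent transpositions. -/
def liftMat (p q : Fin 7) : Mat :=
  (2 : ZMod 3) • (gam p.castSucc q.castSucc - gam p.castSucc q.succ - gam p.succ q.castSucc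
    + gam p.succ q.succ)

theorem lift_mul_inv : ∀ q : Fin 7, liftMat 0 q * liftMat q 0 = 1 ∧ liftMat q 0 * liftMat 0 q = 1 := by
  decide +kernel

theorem lift_conj : ∀ q : Fin 7, ∀ j k : Fin 8,
    liftMat 0 q * gam j k = gam ((adj 0 * adj q) j) ((adj 0 * adj q) k) * liftMat 0 q := by
  decide +kernel

theorem exists_diag : ∀ w z : Fin 8, w = z ∨ ∃ a b : Fin 8,
    ∃ c : Fin 8, (∀ i k : Fin 8, i ≠ k → (octL a * (octL b * octL c)) i k = 0) ∧
      (octL a * (octL b * octL c)) w w ≠ (octL a * (octL b * octL c)) z z := by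
  decide +kernel

theorem gam_zero : ∀ a : Fin 8, gam 0 a = octL a := by decide +kernel

theorem octL_col : ∀ a z : Fin 8, octL a a 0 ≠ 0 ∧ (z ≠ a → octL a z 0 = 0) ∧ (z ≠ 0 → octL a a z = 0) := by
  decide +kernel

theorem square_gen : ∀ q : Fin 7, 2 ≤ q.1 → liftMat 0 q * liftMat 0 q = -1 ∧
    (adj 0 * adj q) * (adj 0 * adj q) = 1 ∧ adj 0 * adj q ≠ 1 := by
  decide +kernel

theorem four_square : liftMat 0 2 * (liftMat 4 0 * liftMat 0 6) * (liftMat 0 2 * (liftMat 4 0 * liftMat 0 6)) = 1 ∧
    liftMat 0 2 * (liftMat 4 0 * liftMat 0 6) ≠ 1 ∧ liftMat 0 2 * (liftMat 4 0 * liftMat 0 6) ≠ -1 := by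
  decide +kernel

theorem negOne_ne : (-1 : Mat) ≠ 1 := by decide +kernel

end Cfsg.Agent.Lib.SporMatrix.CoverAltEight
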