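import Cfsg.Agent.Lib.SporMatrix.Code9
import Cfsg.Agent.Lib.SporMatrix.J3Data

/-!
The kernel computations behind the order and simplicity of J₃.
-/

set_option autoImplicit false

namespace Cfsg.Agent.Lib.SporMatrix.J3Check

open Cfsg.Spor Code9 J3Data

def gC (j : ℕ) : ℕ := genCodes.getD j one
def dgC (j : ℕ) : ℕ := diagGens.getD j one
def dC (a : ℕ) : ℕ := diag.getD a one
def pC (b : ℕ) : ℕ := perm.getD b one
def rC (i : ℕ) : ℕ := reps.getD i one
def mC (p : ℕ × ℕ) : ℕ := mul (dC p.1) (pC p.2)
def cosC (k : ℕ) : ℕ := mC (cosets.getD k (0, 0))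
def elC (e : El) : ℕ := mul (mul (mC (e.a, e.b)) (rC e.i)) (mC (e.c, e.d))

def powC (g : ℕ) : ℕ → ℕ
  | 0 => one
  | n + 1 => mul g (powC g n)

def wordC (f : ℕ → ℕ) : List ℕ → ℕ
  | [] => one
  | j :: w => mul (f j) (wordC f w)

/-! ### Tables -/

def okAll : Bool :=
  ok codeT && genCodes.all ok && diagGens.all ok && diag.all ok && perm.all ok && reps.all ok

theorem okAll_ok : okAll = true := by decide +kernel

theorem starts : dC 0 = one ∧ pC 0 = one ∧ rC 0 = one ∧ cosC 0 = one ∧ mul codeT codeT = one := by
  decide +kernel

theorem gens_pow : ∀ j < 4, powC (gC j) 72 = one := by decide +kernel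

theorem diagGen_words : ∀ j < 4, dgC j = wordC gC (diagGenWords.getD j []) := by decide +kernel

theorem diagGens_len : diagGens.length = 4 := by decide +kernel

theorem diag_len : diag.length = 81 := by decide +kernel

theorem perm_len : perm.length = 72 := by decide +kernel

theorem reps_len : reps.length = 20 := by decide +kernel

def checkTree (f : ℕ → ℕ) (tab : ℕ → ℕ) (tree : List (ℕ × ℕ)) (n : ℕ) : Bool :=
  (List.range n).all fun a => Nat.beq a 0 ||
    (Nat.blt (tree.getD a (0, 0)).2 a &&
      Nat.beq (tab a) (mul (f (tree.getD a (0, 0)).1) (tab (tree.getD a (0, 0)).2)))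

theorem diag_tree : checkTree dgC dC diagTree 81 = true := by decide +kernel

theorem perm_tree : checkTree gC pC permTree 72 = true := by decide +kernel

def checkDiagClose : Bool :=
  (List.range 81).all fun a => (List.range 4).all fun j =>
    Nat.beq (mul (dgC j) (dC a)) (dC ((diagClose.getD a []).getD j 0))

theorem diag_close : checkDiagClose = true := by decide +kernel

def checkDiagPast : Bool :=
  (List.range 81).all fun a => (List.range 4).all fun j =>
    Nat.beq (mul (gC j) (dC a)) (mul (dC ((diagGenPast.getD a []).getD j 0)) (gC j))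

theorem diag_past : checkDiagPast = true := by decide +kernel

def checkPermClose : Bool :=
  (List.range 72).all fun b => (List.range 4).all fun j =>
    Nat.beq (mul (gC j) (pC b)) (mC ((permClose.getD b []).getD j (0, 0)))

theorem perm_close : checkPermClose = true := by decide +kernel

def coverAt (k j : ℕ) : (ℕ × ℕ) × ℕ × (ℕ × ℕ) := (cover.getD k []).getD j ((0, 0), 0, (0, 0))

def checkCover : Bool :=
  (List.range 81).all fun k => (List.range 4).all fun j =>
    Nat.blt (coverAt k j).2.1 81 &&
    Nat.beq (mul (cosC k) (gC j)) (mul (mC (coverAt k j).1) (cosC (coverAt k j).2.1)) &&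
    Nat.beq (mul (mul codeT (mC (coverAt k j).1)) codeT) (mC (coverAt k j).2.2)

theorem cover_ok : checkCover = true := by decide +kernel

def moveAt (k i : ℕ) : El := (move.getD k []).getD i ⟨0, 0, 0, 0, 0⟩

def checkMove : Bool :=
  (List.range 81).all fun k => (List.range 20).all fun i =>
    Nat.blt (moveAt k i).i 20 && Nat.beq (mul (mul codeT (cosC k)) (rC i)) (elC (moveAt k i))

theorem move_ok : checkMove = true := by decide +kernel

def checkRepTree : Bool :=
  (List.range 20).all fun i => Nat.beq i 0 ||
    (Nat.blt (repTree.getD i (0, 0)).2 i &&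
      Nat.beq (rC i) (mul (mul codeT (cosC (repTree.getD i (0, 0)).1)) (rC (repTree.getD i (0, 0)).2)))

theorem rep_tree : checkRepTree = true := by decide +kernel

def noDupB : List ℕ → Bool
  | [] => true
  | a :: l => (l.all fun b => !Nat.beq a b) && noDupB l

def stabAt (i : ℕ) : List ((ℕ × ℕ) × (ℕ × ℕ)) := stab.getD i []

def checkStab : Bool :=
  (List.range 20).all fun i => Nat.beq i 0 ||
    (!(Nat.beq (stabAt i).length 0) && noDupB ((stabAt i).map fun s => mC s.1) &&
      (stabAt i).all fun s => Nat.beq (mul (mC s.1) (rC i)) (mul (rC i) (mC s.2)))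

theorem stab_ok : checkStab = true := by decide +kernel

/-- The bound for the size of the double coset of a representative. -/
def dcBound (i : ℕ) : ℕ := bif Nat.beq i 0 then 5832 else 5832 * 5832 / (stabAt i).length

theorem bound_sum : ((List.range 20).map dcBound).sum = 150698880 := by decide +kernel

/-! ### The five families of generators -/

/-- ω to the power of a residue, as a coefficient pair. -/
def om (n : ZMod 3) : ℕ := n.val + 1

def lamC (Z z : F9) : ℕ :=
  if z = 0 then 1
  else if F9.div Z z = F9.I - F9.one then 2
  else if F9.div Z z = -F9.I - F9.one then 3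
  else 1

theorem famA : ∀ Z w z : F9, entry (elC (genA.getD (pos Z) ⟨0, 0, 0, 0, 0⟩)) w z =
    if w = z then om (Z.1 * w.1 + Z.2 * w.2) else 0 := by decide +kernel

theorem famE : ∀ Z w z : F9, entry (elC (genE.getD (pos Z) ⟨0, 0, 0, 0, 0⟩)) w z =
    if w = z then om ((Z.1 - w.1) ^ 2 + (Z.2 - w.2) ^ 2) else 0 := by decide +kernel

theorem famD : ∀ Z w z : F9, entry (elC (genD.getD (pos Z) ⟨0, 0, 0, 0, 0⟩)) w z =
    if w = z + Z then lamC Z z else 0 := by decide +kernel

theorem famB : ∀ Z : F9, Z ≠ 0 → ∀ w z : F9, entry (elC (genB.getD (pos Z) ⟨0, 0, 0, 0, 0⟩)) w z =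
    if w = F9.mul Z z then 1 else 0 := by decide +kernel

theorem famC : ∀ Z : F9, Z ≠ 0 → ∀ w z : F9, entry (elC (genC.getD (pos Z) ⟨0, 0, 0, 0, 0⟩)) w z =
    if z = 0 then (if w = 0 then 1 else 0)
    else if w = -F9.div Z z ∨ w = F9.mul F9.I (F9.div Z z) ∨ w = -F9.mul F9.I (F9.div Z z) then 1 else 0 := by
  decide +kernel

theorem gen0 : ∀ w z : F9, entry (gC 0) w z = if w = z then om w.1 else 0 := by decide +kernel

theorem gen1 : ∀ w z : F9, entry (gC 1) w z = if w = z then om (w.1 ^ 2 + w.2 ^ 2) else 0 := by
  decide +kernel

theorem gen2 : ∀ w z : F9, entry (gC 2) w z =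
    if w = z + (1, 0) then lamC (1, 0) z else 0 := by decide +kernel

theorem gen3 : ∀ w z : F9, entry (gC 3) w z =
    if w = F9.mul (1, 1) z then 1 else 0 := by decide +kernel

theorem genT : ∀ w z : F9, entry codeT w z =
    if z = 0 then (if w = 0 then 1 else 0)
    else if w = -F9.div (1, 0) z ∨ w = F9.mul F9.I (F9.div (1, 0) z) ∨
      w = -F9.mul F9.I (F9.div (1, 0) z) then 1 else 0 := by decide +kernel

def scC (k : ℕ) : ℕ := elC (scalars.getD k ⟨0, 0, 0, 0, 0⟩)

theorem scalars_ok : ∀ k : Fin 3, ∀ w z : F9, entry (scC k.1) w z = if w = z then k.1 + 1 else 0 := by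
  decide +kernel

/-! ### Sylow subgroups and simplicity -/

def elAt (l : List El) (i : ℕ) : ℕ := elC (l.getD i ⟨0, 0, 0, 0, 0⟩)

def increasingB : List ℕ → Bool
  | a :: b :: l => Nat.blt a b && increasingB (b :: l)
  | _ => true

def notScalar (x : ℕ) : Bool := !Nat.beq x (scC 0) && !Nat.beq x (scC 1) && !Nat.beq x (scC 2)

def isScalar (x : ℕ) : Bool := Nat.beq x (scC 0) || Nat.beq x (scC 1) || Nat.beq x (scC 2)

def checkSylow (gens elems : List El) (tree : List (ℕ × ℕ)) (close : List (List ℕ)) (sorted : List ℕ)
    (n : ℕ) : Bool :=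
  Nat.beq (elAt elems 0) one && Nat.beq elems.length n && Nat.beq sorted.length n &&
  checkTree (elAt gens) (elAt elems) tree n &&
  ((List.range n).all fun a => (List.range gens.length).all fun j =>
    Nat.blt ((close.getD a []).getD j 0) n &&
      Nat.beq (mul (elAt gens j) (elAt elems a)) (elAt elems ((close.getD a []).getD j 0))) &&
  increasingB (sorted.map (elAt elems)) && sorted.all (fun i => Nat.blt i n)

def checkClass (gens invs seeds : List El) (x : ℕ) : Cls → Bool
  | .scalar k => Nat.beq x (scC k)
  | .moved q e => Nat.blt q gens.length && Nat.beq (mul x (elC e)) one &&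
      Nat.beq (mul (elAt gens q) (elAt invs q)) one &&
      notScalar (mul (mul (mul x (elAt gens q)) (elC e)) (elAt invs q))
  | .central j p k => Nat.blt j seeds.length &&
      Nat.beq x (mul (powC (elAt seeds j) p) (scC k)) &&
      (Nat.beq p 1 || (Nat.beq p 2 && isScalar (powC (elAt seeds j) 3)))

def checkClasses (gens invs seeds elems : List El) (cls : List Cls) (n : ℕ) : Bool :=
  (List.range n).all fun i => checkClass gens invs seeds (elAt elems i) (cls.getD i (.scalar 0))

theorem two_sylow : checkSylow twoGens twoElems twoTree twoClose twoSorted 128 = true := by decide +kernel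

theorem two_classes : checkClasses twoGens twoGenInvs twoSeeds twoElems twoClass 128 = true := by
  decide +kernel

theorem three_sylow : checkSylow threeGens threeElems threeTree threeClose threeSorted 729 = true := by
  decide +kernel

theorem three_classes : checkClasses threeGens threeGenInvs threeSeeds threeElems threeClass 729 = true := by
  decide +kernel

/-- A product of conjugates of members of `src`, or 0 if a conjugator fails its check. -/
def conjProd (src : List ℕ) : List (El × El × ℕ) → Option ℕ
  | [] => some one
  | (u, ui, j) :: l => match conjProd src l with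
    | none => none
    | some p => bif Nat.beq (mul (elC u) (elC ui)) one
        then some (mul (mul (mul (elC u) (src.getD j one)) (elC ui)) p) else none

def toNineteenOK (s : El × List (El × El × ℕ)) : Bool :=
  match conjProd [elC s.1] s.2 with
  | none => false
  | some h => Nat.beq (powC h 19) one && !Nat.beq h one

theorem toNineteen_ok : toNineteen.all toNineteenOK = true := by decide +kernel

theorem toNineteen_seeds :
    toNineteen.map (fun s => elC s.1) = (twoSeeds ++ threeSeeds ++ [elem5, elem17]).map elC := by
  decide +kernel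

def checkSteps : List ℕ → List (El × List (El × El × ℕ)) → Option (List ℕ)
  | known, [] => some known
  | known, s :: ss => match conjProd known s.2 with
    | none => none
    | some h => bif Nat.beq h (elC s.1) then checkSteps (known ++ [h]) ss else none

def checkFinal : Bool :=
  match checkSteps [elC elem19, elC elem19Inv] steps with
  | none => false
  | some k => Nat.beq (k.getD 10 one) (gC 0) && Nat.beq (k.getD 11 one) (gC 1) && Nat.beq (k.getD 12 one) (gC 2) &&
      Nat.beq (k.getD 13 one) (gC 3) && Nat.beq (k.getD 15 one) codeT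

theorem final_ok : checkFinal = true := by decide +kernel

def primeOK (e : El) (q : ℕ) : Bool := Nat.beq (powC (elC e) q) one && !Nat.beq (elC e) one

theorem elem5_ok : primeOK elem5 5 = true := by decide +kernel

theorem elem17_ok : primeOK elem17 17 = true := by decide +kernel

theorem elem19_ok : primeOK elem19 19 = true := by decide +kernel

theorem elem19Inv_ok : mul (elC elem19) (elC elem19Inv) = one := by decide +kernel

end Cfsg.Agent.Lib.SporMatrix.J3Check
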