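import Cfsg.Agent.Lib.SporMatrix.J3InvCheck

/-!
Checks for the two-fusion of J₃: only scalars of the complement act on Q as inner automorphisms, and Q is generated by involutions.
-/

set_option autoImplicit false

namespace Cfsg.Agent.Lib.SporMatrix.J3FusCheck

open Code9 J3Data J3Check J3CentData J3CentCheck J3InvData J3InvCheck

/-- Every nonidentity element of H moves some generator of Q outside its coset of the centre. -/
def checkOuter : Bool :=
  (List.range 60).all fun i => Nat.beq i 0 || (List.range qGens.length).any fun j =>
    !Nat.beq (Code9.mul (elAt hElems i) (elAt qGens j)) (Code9.mul (elAt qGens j) (elAt hElems i)) &&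
    !Nat.beq (Code9.mul (elAt hElems i) (elAt qGens j))
      (Code9.mul (Code9.mul (elAt qGens j) tC) (elAt hElems i))

theorem outer_ok : checkOuter = true := by decide +kernel

/-- Every generator of Q is a product of at most three involutions of Q. -/
def checkInvGen : Bool :=
  (List.range qGens.length).all fun j => (List.range 32).any fun a => (List.range 32).any fun b =>
    qInvs.contains a && qInvs.contains b &&
    (Nat.beq (elAt qGens j) (Code9.mul (elAt qElems a) (elAt qElems b)) ||
     Nat.beq (elAt qGens j) (Code9.mul (Code9.mul (elAt qElems a) (elAt qElems b)) tC) ||
     Nat.beq (elAt qGens j) (elAt qElems a))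

theorem invGen_ok : checkInvGen = true := by decide +kernel

end Cfsg.Agent.Lib.SporMatrix.J3FusCheck
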