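import Cfsg.Agent.Lib.SporMatrix.J3Centralizer
import Cfsg.Agent.Lib.SporMatrix.J3FusCheck
import Cfsg.Agent.Lib.FusionAlperin.SimpleCentric

/-!
The two-fusion system of J₃ is simple: Q is centric, the centraliser of the central involution of a Sylow
subgroup is generated by involutions, and so is the Sylow subgroup itself.
-/

set_option autoImplicit false

namespace Cfsg.Agent.Lib.SporMatrix.J3

open Cfsg.Spor Code9 J3Data J3Check J3CentData J3CentCheck J3InvData J3InvCheck J3FusCheck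
open scoped commutatorElement

attribute [local irreducible] Code9.mul J3Check.elC

variable {F : Type*} [Field F] [Finite F] {ω : F} (hg : Good F ω)

include hg

theorem qSub_conj_cases {a q : ↥(threeJ3 F ω)} (ha : a ∈ qSub hg) (hq : q ∈ qSub hg) :
    a * q * a⁻¹ = q ∨ a * q * a⁻¹ = q * tt hg := by
  have h : (⁅(⟨a, ha⟩ : ↥(qSub hg)), ⟨q, hq⟩⁆) ∈ Subgroup.center ↥(qSub hg) := by
    rw [← qSub_commutator_eq hg, commutator_def]
    exact Subgroup.commutator_mem_commutator (Subgroup.mem_top _) (Subgroup.mem_top _)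
  rcases (qSub_mem_center hg).1 h with h | h
  · left
    have h' : a * q * a⁻¹ * q⁻¹ = 1 := congrArg Subtype.val h
    exact mul_inv_eq_one.1 h'
  · right
    have h' : a * q * a⁻¹ * q⁻¹ = tt hg := congrArg Subtype.val h
    rw [cSub_comm hg (qSub_le_cSub hg hq), ← h', inv_mul_cancel_right]

/-- Q contains its centraliser in Q H. -/
theorem mem_qSub_of_commute {c : ↥(threeJ3 F ω)} (hc : c ∈ cSub hg) (h : ∀ q ∈ qSub hg, c * q = q * c) :
    c ∈ qSub hg := by
  obtain ⟨a, ha, k, hk, rfl⟩ := hc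
  obtain ⟨i, hi, rfl⟩ := (mem_hSub hg).1 hk
  have hck := List.all_eq_true.1 outer_ok i (List.mem_range.2 hi)
  simp only [Bool.or_eq_true, List.any_eq_true, Bool.and_eq_true, Bool.not_eq_true'] at hck
  rcases hck with h0 | ⟨j, -, h1, h2⟩
  · rw [Nat.eq_of_beq_eq_true h0, show tabEl hg hElems 0 = 1 from
      HasCode.ext (tabEl_code hg _ _) (by rw [hIdx0]; exact hasCode_one hg), mul_one]
    exact ha
  · exfalso
    set k := tabEl hg hElems i
    set g := tabEl hg qGens j
    have e : k * g = a⁻¹ * g * a⁻¹⁻¹ * k := by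
      have := h g (qGen_mem hg j)
      calc k * g = a⁻¹ * (a * k * g) := by group
        _ = a⁻¹ * (g * (a * k)) := by rw [this]
        _ = _ := by group
    rcases qSub_conj_cases hg (inv_mem ha) (qGen_mem hg j) with hh | hh <;> rw [hh] at e
    · have := HasCode.code_eq hg ((tabEl_code hg hElems i).mul' hg (tabEl_code hg qGens j))
        (by show HasCode (k * g) _; rw [e]; exact (tabEl_code hg qGens j).mul' hg (tabEl_code hg hElems i))
      rw [this, Nat.beq_refl] at h1
      exact absurd h1 (by simp)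
    · have := HasCode.code_eq hg ((tabEl_code hg hElems i).mul' hg (tabEl_code hg qGens j))
        (by show HasCode (k * g) _; rw [e]
            exact ((tabEl_code hg qGens j).mul' hg (tt_code hg)).mul' hg (tabEl_code hg hElems i))
      rw [this, Nat.beq_refl] at h2
      exact absurd h2 (by simp)

theorem qSub_le_invols :
    qSub hg ≤ Subgroup.closure {x : ↥(threeJ3 F ω) | x ∈ qSub hg ∧ x * x = 1} := by
  set K := Subgroup.closure {x : ↥(threeJ3 F ω) | x ∈ qSub hg ∧ x * x = 1}
  have hinv : ∀ a, qInvs.contains a = true → tabEl hg qElems a ∈ K := by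
    intro a ha
    rw [List.contains_iff_mem, qInvs, List.mem_filter, List.mem_range, Bool.and_eq_true,
      Bool.and_eq_true] at ha
    exact Subgroup.subset_closure ⟨(mem_qSub hg).2 ⟨a, ha.1, rfl⟩,
      HasCode.ext ((tabEl_code hg _ _).mul' hg (tabEl_code hg _ _))
        (by rw [Nat.eq_of_beq_eq_true ha.2.2]; exact hasCode_one hg)⟩
  have hgen : ∀ j, tabEl hg qGens j ∈ K := by
    intro j
    by_cases hj : j < qGens.length
    · have h := List.all_eq_true.1 invGen_ok j (List.mem_range.2 hj)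
      simp only [List.any_eq_true, Bool.and_eq_true, Bool.or_eq_true] at h
      obtain ⟨a, -, b, -, ⟨ha, hb⟩, h⟩ := h
      rcases h with (h | h) | h
      · rw [show tabEl hg qGens j = tabEl hg qElems a * tabEl hg qElems b from
          HasCode.ext (tabEl_code hg _ _)
            (by rw [Nat.eq_of_beq_eq_true h]; exact (tabEl_code hg _ _).mul' hg (tabEl_code hg _ _))]
        exact mul_mem (hinv a ha) (hinv b hb)
      · rw [show tabEl hg qGens j = tabEl hg qElems a * tabEl hg qElems b * tt hg from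
          HasCode.ext (tabEl_code hg _ _) (by
            rw [Nat.eq_of_beq_eq_true h]
            exact ((tabEl_code hg _ _).mul' hg (tabEl_code hg _ _)).mul' hg (tt_code hg))]
        exact mul_mem (mul_mem (hinv a ha) (hinv b hb))
          (Subgroup.subset_closure ⟨tt_mem_qSub hg, tt_mul_self hg⟩)
      · rw [show tabEl hg qGens j = tabEl hg qElems a from
          HasCode.ext (tabEl_code hg _ _) (by rw [Nat.eq_of_beq_eq_true h]; exact tabEl_code hg _ _)]
        exact hinv a ha
    · rw [tabEl_big hg (by omega)]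
      exact one_mem K
  intro x hx
  obtain ⟨i, hi, rfl⟩ := (mem_qSub hg).1 hx
  exact table_induction hg q_table (p := fun y => y ∈ K) (one_mem K) (fun j y hy => mul_mem (hgen j) hy) i hi

theorem hSub_le_invols :
    hSub hg ≤ Subgroup.closure {x : ↥(threeJ3 F ω) | x ∈ hSub hg ∧ x * x = 1} := by
  obtain ⟨e⟩ := hSub_equiv hg
  haveI := alternatingGroup.isSimpleGroup (α := Fin 5) (Nat.card_fin 5).ge
  haveI : IsSimpleGroup ↥(hSub hg) := e.isSimpleGroup
  let s : Set ↥(hSub hg) := {x | x * x = 1}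
  have hle : Subgroup.normalClosure s ≤ Subgroup.closure s := by
    refine Subgroup.closure_mono ?_
    intro x hx
    obtain ⟨a, ha, hax⟩ := Group.mem_conjugatesOfSet_iff.1 hx
    obtain ⟨c, rfl⟩ := isConj_iff.1 hax
    show c * a * c⁻¹ * (c * a * c⁻¹) = 1
    rw [show c * a * c⁻¹ * (c * a * c⁻¹) = c * (a * a) * c⁻¹ by group, show a * a = 1 from ha]
    group
  haveI : Fact (Nat.Prime 2) := ⟨Nat.prime_two⟩
  haveI : Finite ↥(hSub hg) := Nat.finite_of_card_ne_zero (by rw [card_hSub hg]; norm_num)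
  obtain ⟨y, hy⟩ := exists_prime_orderOf_dvd_card' (G := ↥(hSub hg)) 2 (by rw [card_hSub hg]; norm_num)
  have hys : y ∈ s := by
    show y * y = 1
    have h := pow_orderOf_eq_one y
    rwa [hy, sq] at h
  have htop : Subgroup.normalClosure s = ⊤ := by
    refine (Subgroup.normalClosure_normal.eq_bot_or_eq_top).resolve_left fun hb => ?_
    have : y = 1 := by
      rw [← Subgroup.mem_bot, ← hb]
      exact Subgroup.subset_normalClosure hys
    rw [this, orderOf_one] at hy
    norm_num at hy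
  intro x hx
  have hm : (⟨x, hx⟩ : ↥(hSub hg)) ∈ Subgroup.closure s := hle (htop ▸ Subgroup.mem_top _)
  have := Subgroup.mem_map_of_mem (hSub hg).subtype hm
  rw [MonoidHom.map_closure] at this
  refine Subgroup.closure_mono ?_ this
  rintro _ ⟨a, ha, rfl⟩
  exact ⟨a.2, congrArg Subtype.val (show a * a = 1 from ha)⟩

theorem hSub_two_elem {h : ↥(threeJ3 F ω)} (hh : h ∈ hSub hg) {k : ℕ} (hk : h ^ 2 ^ k = 1) : h * h = 1 := by
  obtain ⟨e⟩ := hSub_equiv hg
  set a := e ⟨h, hh⟩
  have ha : a ^ 2 ^ k = 1 := by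
    rw [← map_pow, show (⟨h, hh⟩ : ↥(hSub hg)) ^ 2 ^ k = 1 from Subtype.ext hk, map_one]
  have h4 : a ^ 4 = 1 := by
    have h60 : orderOf a ∣ 60 := by
      have h1 := orderOf_dvd_natCard a
      rwa [← Nat.card_congr e.toEquiv, card_hSub hg] at h1
    obtain ⟨j, -, hj⟩ := (Nat.dvd_prime_pow Nat.prime_two).1 (orderOf_dvd_of_pow_eq_one ha)
    refine orderOf_dvd_iff_pow_eq_one.1 ?_
    have h8 : ¬ 8 ∣ orderOf a := fun h8 => absurd (h8.trans h60) (by norm_num)
    rw [hj] at h8 ⊢
    rcases le_or_gt j 2 with hj2 | hj2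
    · exact (pow_dvd_pow 2 hj2).trans (by norm_num)
    · exact absurd (dvd_trans (by norm_num : (8 : ℕ) ∣ 2 ^ 3) (pow_dvd_pow 2 hj2)) h8
  have key : ∀ b : ↥(alternatingGroup (Fin 5)), b * b * (b * b) = 1 → b * b = 1 := by decide +kernel
  have := key a (by rw [← mul_assoc, ← pow_two, ← pow_succ, ← pow_succ]; exact h4)
  rw [← map_mul, ← map_one e] at this
  exact congrArg Subtype.val (e.injective this)

section Images

variable {G : Type*} [Group G] (f : ↥(threeJ3 F ω) →* G) (hs : Function.Surjective f)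
  (hker : f.ker = Subgroup.center ↥(threeJ3 F ω))

include hker

theorem image_injOn {a b : ↥(threeJ3 F ω)} (ha : a ∈ cSub hg) (hb : b ∈ cSub hg) (h : f a = f b) : a = b := by
  refine inv_mul_eq_one.1 (center_inf_cSub hg ?_ (mul_mem (inv_mem ha) hb))
  rw [← hker, MonoidHom.mem_ker, map_mul, map_inv, h, inv_mul_cancel]

theorem image_commute_qSub {c : ↥(threeJ3 F ω)} (hc : c ∈ cSub hg)
    (h : ∀ q ∈ qSub hg, f c * f q = f q * f c) : c ∈ qSub hg := by
  refine mem_qSub_of_commute hg hc fun q hq => ?_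
  refine image_injOn hg f hker (mul_mem hc (qSub_le_cSub hg hq)) (mul_mem (qSub_le_cSub hg hq) hc) ?_
  rw [map_mul, map_mul, h q hq]

include hs

theorem image_centralizer {y : G} : y * f (tt hg) = f (tt hg) * y ↔ y ∈ (cSub hg).map f := by
  constructor
  · intro hy
    obtain ⟨g, rfl⟩ := hs y
    have hb : proj g ∈ Subgroup.centralizer ({tBar hg} : Set (Cfsg.Spor.J3 F ω)) := by
      rw [Subgroup.mem_centralizer_singleton_iff, tBar, ← map_mul, ← map_mul]
      refine mul_inv_eq_one.1 ?_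
      rw [← map_inv, ← map_mul, proj_eq_one, ← hker, MonoidHom.mem_ker, map_mul, map_inv, map_mul, map_mul, hy,
        mul_inv_cancel]
    obtain ⟨c, hc, hcg⟩ := (mem_centralizer_iff hg).1 hb
    refine ⟨c, hc, ?_⟩
    have : c⁻¹ * g ∈ Subgroup.center ↥(threeJ3 F ω) := by
      rw [← proj_eq_one, map_mul, map_inv, hcg, inv_mul_cancel]
    rw [← hker, MonoidHom.mem_ker, map_mul, map_inv] at this
    exact inv_mul_eq_one.1 this
  · rintro ⟨c, hc, rfl⟩
    rw [← map_mul, ← map_mul, cSub_comm hg hc]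

theorem image_qSub_normalizer {y : G} (hy : y * f (tt hg) = f (tt hg) * y) :
    y ∈ Subgroup.normalizer ((qSub hg).map f : Set G) := by
  have key : ∀ y : G, y * f (tt hg) = f (tt hg) * y → ∀ w ∈ (qSub hg).map f, y * w * y⁻¹ ∈ (qSub hg).map f := by
    intro y hy w hw
    obtain ⟨c, ⟨q, hq, h, hh, rfl⟩, rfl⟩ := (image_centralizer hg f hs hker).1 hy
    obtain ⟨x, hx, rfl⟩ := hw
    refine ⟨q * (h * x * h⁻¹) * q⁻¹, mul_mem (mul_mem hq (hSub_normalizes hg hh x hx)) (inv_mem hq), ?_⟩
    rw [← map_inv, ← map_mul, ← map_mul]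
    congr 1
    group
  rw [Subgroup.mem_normalizer_iff]
  intro w
  refine ⟨key y hy w, fun hw => ?_⟩
  have hy' : y⁻¹ * f (tt hg) = f (tt hg) * y⁻¹ := (Commute.inv_left hy).eq
  have := key y⁻¹ hy' _ hw
  rwa [show y⁻¹ * (y * w * y⁻¹) * y⁻¹⁻¹ = w by group] at this

theorem isSimple_of_image [Finite G] (hconj : ∀ x y : G, orderOf x = 2 → orderOf y = 2 → IsConj x y)
    (S : Sylow 2 G) (hz : f (tt hg) ∈ (S : Subgroup G))
    (hzS : ∀ s ∈ (S : Subgroup G), s * f (tt hg) = f (tt hg) * s) :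
    (Cfsg.groupFusionSystem (S : Subgroup G)).IsSimple 2 := by
  haveI : Fact (Nat.Prime 2) := ⟨Nat.prime_two⟩
  set z := f (tt hg) with hzdef
  set Q := (qSub hg).map f with hQdef
  have hzmem : ∀ {c}, c ∈ cSub hg → f c * z = z * f c := fun hc => (image_centralizer hg f hs hker).2 ⟨_, hc, rfl⟩
  have hz1 : z ≠ 1 := by
    intro h
    have := image_injOn hg f hker (qSub_le_cSub hg (tt_mem_qSub hg)) (one_mem _) (by rw [map_one]; exact h)
    have h2 := orderOf_tt hg
    rw [this, orderOf_one] at h2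
    norm_num at h2
  have hzord : orderOf z = 2 := orderOf_eq_prime (by rw [sq, hzdef, ← map_mul, tt_mul_self hg, map_one]) hz1
  have hQp : IsPGroup 2 Q := (qSub_isPGroup hg).map f
  have hQS : Q ≤ (S : Subgroup G) := by
    have hn : (S : Subgroup G) ≤ Subgroup.normalizer (Q : Set G) :=
      fun s hs' => image_qSub_normalizer hg f hs hker (hzS s hs')
    have h := IsPGroup.to_sup_of_normal_right' S.isPGroup' hQp hn
    exact le_sup_right.trans (S.is_maximal' h le_sup_left).le
  have hcentric : Subgroup.centralizer (Q : Set G) ≤ Q := by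
    intro y hy
    have hyz : y * z = z * y := (hy z ⟨_, tt_mem_qSub hg, rfl⟩).symm
    obtain ⟨c, hc, rfl⟩ := (image_centralizer hg f hs hker).1 hyz
    exact ⟨c, image_commute_qSub hg f hker hc fun q hq => (hy (f q) ⟨q, hq, rfl⟩).symm, rfl⟩
  have hzuniq : ∀ w ∈ (S : Subgroup G), orderOf w = 2 → (∀ s ∈ (S : Subgroup G), s * w = w * s) → w = z := by
    intro w hw hw2 hwS
    obtain ⟨q, hq, rfl⟩ := hcentric (fun x hx => hwS x (hQS hx))
    rcases qSub_center hg hq (fun x hx => image_injOn hg f hker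
        (mul_mem (qSub_le_cSub hg hx) (qSub_le_cSub hg hq)) (mul_mem (qSub_le_cSub hg hq) (qSub_le_cSub hg hx))
        (by rw [map_mul, map_mul]; exact hwS _ (hQS ⟨x, hx, rfl⟩))) with h | h
    · rw [h, map_one, orderOf_one] at hw2
      norm_num at hw2
    · rw [h]
  refine Cfsg.Agent.Lib.FusionAlperin.Simple.isSimple_group_centric S
    (fun h => hz1 (Subgroup.mem_bot.1 (h ▸ hz))) ?_ {Q} ?_ ?_
  · intro T hT
    by_cases hT1 : T = ⊥
    · exact Or.inl hT1
    refine Or.inr (le_antisymm hT.1 fun s hs' => ?_)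
    obtain ⟨⟨a, haT⟩, ha⟩ : ∃ a : T, orderOf a = 2 := by
      have hTp : IsPGroup 2 T := Cfsg.Agent.Lib.FS.isPGroup_of_le S.isPGroup' hT.1
      obtain ⟨n, hn⟩ := IsPGroup.iff_card.1 hTp
      refine exists_prime_orderOf_dvd_card' 2 ?_
      rw [hn]
      refine dvd_pow_self 2 fun h0 => hT1 ?_
      rw [h0, pow_zero, Subgroup.card_eq_one] at hn
      exact hn
    rw [Subgroup.orderOf_mk] at ha
    have hinv : ∀ w ∈ (S : Subgroup G), w * w = 1 → w ∈ T := by
      intro w hw hw2
      by_cases hw1 : w = 1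
      · rw [hw1]; exact one_mem T
      obtain ⟨g, hg'⟩ := isConj_iff.1 (hconj a w ha (orderOf_eq_prime (by rw [sq, hw2]) hw1))
      have hle : Subgroup.zpowers a ≤ T := Subgroup.zpowers_le.2 haT
      have hmem : ∀ x ∈ Subgroup.zpowers a, g * x * g⁻¹ ∈ (S : Subgroup G) := by
        rintro _ ⟨n, rfl⟩
        show g * a ^ n * g⁻¹ ∈ (S : Subgroup G)
        rw [← conj_zpow, hg']
        exact zpow_mem hw n
      have := hT.2 _ hle (Cfsg.conjHom (Subgroup.zpowers a) g)
        (Cfsg.Agent.Lib.FS.conjHom_mem_group (hle.trans hT.1) hmem) ⟨a, Subgroup.mem_zpowers a⟩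
      rwa [show Cfsg.conjHom (Subgroup.zpowers a) g ⟨a, Subgroup.mem_zpowers a⟩ = w from hg'] at this
    obtain ⟨c, ⟨q, hq, h, hh, rfl⟩, rfl⟩ := (image_centralizer hg f hs hker).1 (hzS s hs')
    have hqT : f q ∈ T := by
      have := Subgroup.mem_map_of_mem f (qSub_le_invols hg hq)
      rw [MonoidHom.map_closure] at this
      refine (Subgroup.closure_le T).2 ?_ this
      rintro _ ⟨x, ⟨hx, hx2⟩, rfl⟩
      exact hinv _ (hQS ⟨x, hx, rfl⟩) (by rw [← map_mul, hx2, map_one])
    have hhS : f h ∈ (S : Subgroup G) := by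
      have := mul_mem (inv_mem (hT.1 hqT)) hs'
      rwa [map_mul, inv_mul_cancel_left] at this
    rw [map_mul]
    refine mul_mem hqT (hinv _ hhS ?_)
    obtain ⟨k, hk⟩ := S.isPGroup' ⟨_, hhS⟩
    have hk' : f (h ^ 2 ^ k) = f 1 := by rw [map_pow, map_one]; exact congrArg Subtype.val hk
    rw [← map_mul, hSub_two_elem hg hh (image_injOn hg f hker (pow_mem (hSub_le_cSub hg hh) _) (one_mem _) hk'),
      map_one]
  · rintro R rfl
    exact ⟨hQS, Cfsg.Agent.Lib.FusionAlperin.Simple.isCentric_of_centralizer_le hQS hcentric⟩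
  · intro β hβ
    obtain ⟨g, -, hgβ⟩ := Cfsg.Agent.Lib.FS.mem_autInducedBy.1 hβ
    refine (le_iSup₂ (f := fun R (_ : R ∈ ({Q} : Set (Subgroup G))) => Cfsg.autInducedBy
      (Subgroup.closure {g : G | g ∈ Subgroup.normalizer (R : Set G) ∧ ∃ k : ℕ, orderOf g = 2 ^ k})
      (S : Subgroup G)) Q rfl) ?_
    refine Cfsg.Agent.Lib.FS.mem_autInducedBy.2 ⟨g, ?_, hgβ⟩
    have hgz : g * z * g⁻¹ = z := by
      have hm : g * z * g⁻¹ ∈ (S : Subgroup G) := by rw [← hgβ ⟨z, hz⟩]; exact (β ⟨z, hz⟩).2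
      refine hzuniq _ hm ?_ ?_
      · rw [← hzord]
        exact MulEquiv.orderOf_eq (MulAut.conj g) z
      · intro s hs'
        have := congrArg β (show (⟨z, hz⟩ : ↥(S : Subgroup G)) * β.symm ⟨s, hs'⟩ =
          β.symm ⟨s, hs'⟩ * ⟨z, hz⟩ from Subtype.ext (hzS _ (β.symm ⟨s, hs'⟩).2).symm)
        rw [map_mul, map_mul, MulEquiv.apply_symm_apply] at this
        have h2 := congrArg Subtype.val this
        rw [Subgroup.coe_mul, Subgroup.coe_mul, hgβ] at h2
        exact h2.symm
    obtain ⟨c, hc, rfl⟩ := (image_centralizer hg f hs hker).1 (mul_inv_eq_iff_eq_mul.1 hgz)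
    obtain ⟨q, hq, h, hh, rfl⟩ := hc
    have hK : ∀ x ∈ cSub hg, x * x = 1 → f x ∈
        Subgroup.closure {g : G | g ∈ Subgroup.normalizer (Q : Set G) ∧ ∃ k : ℕ, orderOf g = 2 ^ k} := by
      intro x hx hx2
      refine Subgroup.subset_closure ⟨image_qSub_normalizer hg f hs hker (hzmem hx), ?_⟩
      obtain ⟨j, -, hj⟩ := (Nat.dvd_prime_pow Nat.prime_two).1
        (show orderOf (f x) ∣ 2 ^ 1 from orderOf_dvd_of_pow_eq_one (by rw [pow_one, sq, ← map_mul, hx2, map_one]))
      exact ⟨j, hj⟩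
    rw [map_mul]
    refine mul_mem ?_ ?_
    · have := Subgroup.mem_map_of_mem f (qSub_le_invols hg hq)
      rw [MonoidHom.map_closure] at this
      refine (Subgroup.closure_le _).2 ?_ this
      rintro _ ⟨x, ⟨hx, hx2⟩, rfl⟩
      exact hK x (qSub_le_cSub hg hx) hx2
    · have := Subgroup.mem_map_of_mem f (hSub_le_invols hg hh)
      rw [MonoidHom.map_closure] at this
      refine (Subgroup.closure_le _).2 ?_ this
      rintro _ ⟨x, ⟨hx, hx2⟩, rfl⟩
      exact hK x (hSub_le_cSub hg hx) hx2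

end Images

/-- The two-fusion system of a group isomorphic to J₃ is simple. -/
theorem fusion_isSimple {G : Type*} [Group G] [Finite G] (e : G ≃* Cfsg.Spor.J3 F ω) (S : Sylow 2 G) :
    (Cfsg.groupFusionSystem (S : Subgroup G)).IsSimple 2 := by
  haveI : Fact (Nat.Prime 2) := ⟨Nat.prime_two⟩
  have hconj : ∀ x y : G, orderOf x = 2 → orderOf y = 2 → IsConj x y := by
    intro x y hx hy
    obtain ⟨c, hc⟩ := isConj_iff.1 (isConj_of_involutions hg
      (show orderOf (e x) = 2 by rw [MulEquiv.orderOf_eq, hx]) (show orderOf (e y) = 2 by rw [MulEquiv.orderOf_eq, hy]))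
    exact isConj_iff.2 ⟨e.symm c, e.injective (by simpa using hc)⟩
  have ht : orderOf (e.symm (tBar hg)) = 2 := by rw [MulEquiv.orderOf_eq, orderOf_tBar hg]
  have hS1 : (S : Subgroup G) ≠ ⊥ := by
    refine S.ne_bot_of_dvd_card ?_
    rw [← ht]
    exact orderOf_dvd_natCard _
  haveI : Nontrivial ↥(S : Subgroup G) := (Subgroup.nontrivial_iff_ne_bot _).2 hS1
  obtain ⟨n, hn⟩ := IsPGroup.iff_card.1 (S.isPGroup'.to_subgroup (Subgroup.center ↥(S : Subgroup G)))
  haveI := S.isPGroup'.center_nontrivial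
  have hn0 : n ≠ 0 := fun h => by
    have := Finite.one_lt_card (α := ↥(Subgroup.center ↥(S : Subgroup G)))
    rw [hn, h] at this
    norm_num at this
  obtain ⟨w, hw⟩ := exists_prime_orderOf_dvd_card' (G := ↥(Subgroup.center ↥(S : Subgroup G))) 2
    (by rw [hn]; exact dvd_pow_self 2 hn0)
  set z : G := ((w : ↥(S : Subgroup G)) : G)
  have hz : orderOf z = 2 := by rw [Subgroup.orderOf_coe, Subgroup.orderOf_coe, hw]
  obtain ⟨g, hgz⟩ := isConj_iff.1 (hconj _ z ht hz)
  let f : ↥(threeJ3 F ω) →* G :=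
    ((MulAut.conj g).toMonoidHom.comp e.symm.toMonoidHom).comp proj
  have hs : Function.Surjective f :=
    ((MulAut.conj g).surjective.comp e.symm.surjective).comp proj_surjective
  have hker : f.ker = Subgroup.center ↥(threeJ3 F ω) := by
    ext a
    rw [MonoidHom.mem_ker, ← proj_eq_one]
    show (MulAut.conj g) (e.symm (proj a)) = 1 ↔ _
    rw [map_eq_one_iff _ (MulAut.conj g).injective, map_eq_one_iff _ e.symm.injective]
  have hfz : f (tt hg) = z := hgz
  refine isSimple_of_image hg f hs hker hconj S (hfz ▸ (w : ↥(S : Subgroup G)).2) ?_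
  intro s hs'
  rw [hfz]
  exact congrArg Subtype.val (Subgroup.mem_center_iff.1 w.2 ⟨s, hs'⟩)

end Cfsg.Agent.Lib.SporMatrix.J3
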