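import Cfsg.Agent.Lib.SporMatrix.J3Check

/-!
The order of the triple cover 3·J₃ of `Def_Spor_J3`.

The monomial group M has at most 5832 elements, the group is the union of 20 double cosets M r M, which
gives the upper bound; Sylow 2- and 3-subgroups and elements of order 5, 17, 19 give the lower one.
-/

set_option autoImplicit false

namespace Cfsg.Agent.Lib.SporMatrix.J3

open Cfsg.Spor Code9 J3Data J3Check

variable (F : Type*) [Field F] (ω : F)

/-- ω satisfies its equation and the characteristic is two. -/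
structure Good : Prop where
  two : (2 : F) = 0
  eqn : ω ^ 2 + ω + 1 = 0

/-- The monomial subgroup, as a monoid of matrices. -/
def mono : Submonoid (Matrix F9 F9 F) := Submonoid.closure {m | ∃ j < 4, m = dec ω (gC j)}

/-- The whole group, as a monoid of matrices. -/
def mgrp : Submonoid (Matrix F9 F9 F) := Submonoid.closure (j3Gens F ω)

theorem good_of_card {F : Type*} [Field F] [Fintype F] (hF : Fintype.card F = 4) {ω : F}
    (hω : ω ^ 2 + ω + 1 = 0) : Good F ω := by
  refine ⟨?_, hω⟩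
  have h : ((4 : ℕ) : F) = 0 := hF ▸ FiniteField.cast_card_eq_zero F
  have h4 : (2 : F) * 2 = 0 := by rw [← h]; norm_num
  exact mul_self_eq_zero.1 h4

theorem checkTree_spec {f tab : ℕ → ℕ} {tree : List (ℕ × ℕ)} {n a : ℕ} (h : checkTree f tab tree n = true)
    (ha : a < n) (ha0 : a ≠ 0) : ∃ j p, p < a ∧ tab a = mul (f j) (tab p) := by
  have h1 := List.all_eq_true.1 h a (List.mem_range.2 ha)
  simp only [Bool.or_eq_true, Bool.and_eq_true, Nat.blt_eq] at h1
  rcases h1 with h1 | ⟨h1, h2⟩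
  · exact absurd (Nat.eq_of_beq_eq_true h1) ha0
  · exact ⟨_, _, h1, Nat.eq_of_beq_eq_true h2⟩

theorem ok_getD {l : List ℕ} (h : l.all ok = true) (i : ℕ) : ok (l.getD i Code9.one) = true := by
  rw [List.getD_eq_getElem?_getD]
  rcases hi : l[i]? with _ | c
  · exact ok_one
  · exact List.all_eq_true.1 h c (List.mem_of_getElem? hi)

theorem ok_tables : ok codeT = true ∧ (∀ j, ok (gC j) = true) ∧ (∀ j, ok (dgC j) = true) ∧
    (∀ a, ok (dC a) = true) ∧ (∀ b, ok (pC b) = true) ∧ (∀ i, ok (rC i) = true) := by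
  have h := okAll_ok
  simp only [okAll, Bool.and_eq_true] at h
  obtain ⟨⟨⟨⟨⟨h1, h2⟩, h3⟩, h4⟩, h5⟩, h6⟩ := h
  exact ⟨h1, ok_getD h2, ok_getD h3, ok_getD h4, ok_getD h5, ok_getD h6⟩

variable {F ω}

section

variable (hg : Good F ω)

include hg

theorem okMul {a b : ℕ} (ha : ok a = true) (hb : ok b = true) : ok (mul a b) = true :=
  ok_mul ω hg.two hg.eqn ha hb

theorem dmul {a : ℕ} (ha : ok a = true) (b : ℕ) : dec ω (mul a b) = dec ω a * dec ω b :=
  dec_mul ω hg.two hg.eqn ha b

theorem ok_mC (p : ℕ × ℕ) : ok (mC p) = true := okMul hg (ok_tables.2.2.2.1 _) (ok_tables.2.2.2.2.1 _)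

theorem dec_mC (p : ℕ × ℕ) : dec ω (mC p) = dec ω (dC p.1) * dec ω (pC p.2) := dmul hg (ok_tables.2.2.2.1 _) _

theorem ok_elC (e : El) : ok (elC e) = true :=
  okMul hg (okMul hg (ok_mC hg _) (ok_tables.2.2.2.2.2 _)) (ok_mC hg _)

theorem ok_cosC (k : ℕ) : ok (cosC k) = true := ok_mC hg _

theorem dec_elC (e : El) :
    dec ω (elC e) = dec ω (mC (e.a, e.b)) * dec ω (rC e.i) * dec ω (mC (e.c, e.d)) := by
  rw [elC, dmul hg (okMul hg (ok_mC hg _) (ok_tables.2.2.2.2.2 _)), dmul hg (ok_mC hg _)]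

theorem ok_powC {g : ℕ} (h : ok g = true) : ∀ n, ok (powC g n) = true
  | 0 => ok_one
  | n + 1 => okMul hg h (ok_powC h n)

theorem dec_powC {g : ℕ} (h : ok g = true) : ∀ n, dec ω (powC g n) = dec ω g ^ n
  | 0 => by rw [powC, dec_one, pow_zero]
  | n + 1 => by rw [powC, dmul hg h, dec_powC h n, pow_succ']

theorem word_spec {f : ℕ → ℕ} {S : Submonoid (Matrix F9 F9 F)} (hok : ∀ j, ok (f j) = true)
    (hS : ∀ j, dec ω (f j) ∈ S) : ∀ w, ok (wordC f w) = true ∧ dec ω (wordC f w) ∈ S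
  | [] => ⟨ok_one, by rw [wordC, dec_one]; exact one_mem S⟩
  | j :: w => by
    obtain ⟨h1, h2⟩ := word_spec hok hS w
    refine ⟨okMul hg (hok j) h1, ?_⟩
    rw [wordC, dmul hg (hok j)]
    exact mul_mem (hS j) h2

omit hg in
theorem gC_big {j : ℕ} (h : 4 ≤ j) : gC j = Code9.one :=
  List.getD_eq_default _ _ (le_of_eq_of_le (by decide +kernel) h)

theorem gC_mem (j : ℕ) : dec ω (gC j) ∈ mono F ω := by
  by_cases h : j < 4
  · exact Submonoid.subset_closure ⟨j, h, rfl⟩
  · rw [gC_big (by omega), dec_one]; exact one_mem _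

theorem dgC_mem (j : ℕ) : dec ω (dgC j) ∈ mono F ω := by
  by_cases h : j < 4
  · rw [diagGen_words j h]
    exact (word_spec hg ok_tables.2.1 (gC_mem hg) _).2
  · rw [dgC, List.getD_eq_default _ _ (by rw [diagGens_len]; omega), dec_one]; exact one_mem _

omit hg in
theorem dC_norm (a : ℕ) : ∃ a' < 81, dC a' = dC a := by
  by_cases h : a < 81
  · exact ⟨a, h, rfl⟩
  · exact ⟨0, by norm_num, by rw [starts.1, dC, List.getD_eq_default _ _ (by rw [diag_len]; omega)]⟩

omit hg in
theorem pC_norm (b : ℕ) : ∃ b' < 72, pC b' = pC b := by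
  by_cases h : b < 72
  · exact ⟨b, h, rfl⟩
  · exact ⟨0, by norm_num, by rw [starts.2.1, pC, List.getD_eq_default _ _ (by rw [perm_len]; omega)]⟩

theorem dC_mem (a : ℕ) : dec ω (dC a) ∈ mono F ω := by
  obtain ⟨a', ha, he⟩ := dC_norm a
  rw [← he]
  clear he
  induction a' using Nat.strong_induction_on with
  | _ x ih =>
    by_cases h0 : x = 0
    · rw [h0, starts.1, dec_one]; exact one_mem _
    obtain ⟨j, p, hp, he⟩ := checkTree_spec diag_tree ha h0
    rw [he, dmul hg (ok_tables.2.2.1 j)]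
    exact mul_mem (dgC_mem hg j) (ih p hp (by omega))

theorem pC_mem (b : ℕ) : dec ω (pC b) ∈ mono F ω := by
  obtain ⟨b', hb, he⟩ := pC_norm b
  rw [← he]
  clear he
  induction b' using Nat.strong_induction_on with
  | _ x ih =>
    by_cases h0 : x = 0
    · rw [h0, starts.2.1, dec_one]; exact one_mem _
    obtain ⟨j, p, hp, he⟩ := checkTree_spec perm_tree hb h0
    rw [he, dmul hg (ok_tables.2.1 j)]
    exact mul_mem (gC_mem hg j) (ih p hp (by omega))

theorem mC_mem (p : ℕ × ℕ) : dec ω (mC p) ∈ mono F ω := by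
  rw [dec_mC hg]; exact mul_mem (dC_mem hg _) (pC_mem hg _)

theorem dgC_mul_dC (j a : ℕ) : ∃ e, dec ω (dgC j) * dec ω (dC a) = dec ω (dC e) := by
  by_cases hj : j < 4
  · obtain ⟨a', ha, he⟩ := dC_norm a
    have h := List.all_eq_true.1 (List.all_eq_true.1 diag_close a' (List.mem_range.2 ha)) j
      (List.mem_range.2 hj)
    rw [← he, ← dmul hg (ok_tables.2.2.1 j), Nat.eq_of_beq_eq_true h]
    exact ⟨_, rfl⟩
  · rw [dgC, List.getD_eq_default _ _ (by rw [diagGens_len]; omega), dec_one, one_mul]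
    exact ⟨a, rfl⟩

theorem dC_mul_dC (a c : ℕ) : ∃ e, dec ω (dC a) * dec ω (dC c) = dec ω (dC e) := by
  obtain ⟨a', ha, he⟩ := dC_norm a
  rw [← he]
  clear he
  induction a' using Nat.strong_induction_on with
  | _ x ih =>
    by_cases h0 : x = 0
    · exact ⟨c, by rw [h0, starts.1, dec_one, one_mul]⟩
    obtain ⟨j, p, hp, he⟩ := checkTree_spec diag_tree ha h0
    obtain ⟨e, he'⟩ := ih p hp (by omega)
    rw [he, dmul hg (ok_tables.2.2.1 j), mul_assoc, he']
    exact dgC_mul_dC hg j e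

theorem mem_mono_iff {m : Matrix F9 F9 F} :
    m ∈ mono F ω ↔ ∃ a < 81, ∃ b < 72, m = dec ω (dC a) * dec ω (pC b) := by
  constructor
  · intro hm
    induction hm using Submonoid.closure_induction_left with
    | one => exact ⟨0, by norm_num, 0, by norm_num, by rw [starts.1, starts.2.1, dec_one, one_mul]⟩
    | mul_left x hx y _ ih =>
      obtain ⟨j, hj, rfl⟩ := hx
      obtain ⟨a, ha, b, hb, rfl⟩ := ih
      have h1 := List.all_eq_true.1 (List.all_eq_true.1 diag_past a (List.mem_range.2 ha)) j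
        (List.mem_range.2 hj)
      have h2 := List.all_eq_true.1 (List.all_eq_true.1 perm_close b (List.mem_range.2 hb)) j
        (List.mem_range.2 hj)
      obtain ⟨a₁, b₁, h2'⟩ : ∃ a₁ b₁, mul (gC j) (pC b) = mC (a₁, b₁) := ⟨_, _, Nat.eq_of_beq_eq_true h2⟩
      obtain ⟨a₀, h1'⟩ : ∃ a₀, mul (gC j) (dC a) = mul (dC a₀) (gC j) := ⟨_, Nat.eq_of_beq_eq_true h1⟩
      have e : dec ω (gC j) * (dec ω (dC a) * dec ω (pC b))
          = dec ω (dC a₀) * dec ω (dC a₁) * dec ω (pC b₁) := by
        rw [← mul_assoc, ← dmul hg (ok_tables.2.1 j), h1', dmul hg (ok_tables.2.2.2.1 _), mul_assoc,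
          ← dmul hg (ok_tables.2.1 j), h2', dec_mC hg, ← mul_assoc]
      obtain ⟨a₂, h3⟩ := dC_mul_dC hg a₀ a₁
      obtain ⟨a₃, ha₃, h4⟩ := dC_norm a₂
      obtain ⟨b₃, hb₃, h5⟩ := pC_norm b₁
      exact ⟨a₃, ha₃, b₃, hb₃, by rw [e, h3, h4, h5]⟩
  · rintro ⟨a, -, b, -, rfl⟩
    exact mul_mem (dC_mem hg a) (pC_mem hg b)

theorem mono_inv {m : Matrix F9 F9 F} (hm : m ∈ mono F ω) : ∃ w ∈ mono F ω, m * w = 1 ∧ w * m = 1 := by
  induction hm using Submonoid.closure_induction with
  | mem x hx =>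
    obtain ⟨j, hj, rfl⟩ := hx
    have h : dec ω (gC j) ^ 72 = 1 := by rw [← dec_powC hg (ok_tables.2.1 j), gens_pow j hj, dec_one]
    exact ⟨dec ω (gC j) ^ 71, pow_mem (gC_mem hg j) _, by rw [← pow_succ', h], by rw [← pow_succ, h]⟩
  | one => exact ⟨1, one_mem _, one_mul 1, one_mul 1⟩
  | mul x y _ _ ihx ihy =>
    obtain ⟨u, hu, hu1, hu2⟩ := ihx
    obtain ⟨v, hv, hv1, hv2⟩ := ihy
    refine ⟨v * u, mul_mem hv hu, ?_, ?_⟩
    · rw [mul_assoc, ← mul_assoc y, hv1, one_mul, hu1]
    · rw [mul_assoc, ← mul_assoc u, hu2, one_mul, hv2]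

/-- Membership in the intersection of M with its conjugate by T. -/
def InD (m : Matrix F9 F9 F) : Prop := m ∈ mono F ω ∧ dec ω codeT * m * dec ω codeT ∈ mono F ω

theorem T_sq : dec ω codeT * dec ω codeT = 1 := by
  rw [← dmul hg ok_tables.1, starts.2.2.2.2, dec_one]

theorem InD.mul {x y : Matrix F9 F9 F} (hx : InD (F := F) (ω := ω) x) (hy : InD (F := F) (ω := ω) y) :
    InD (F := F) (ω := ω) (x * y) := by
  refine ⟨mul_mem hx.1 hy.1, ?_⟩
  have e : dec ω codeT * (x * y) * dec ω codeT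
      = (dec ω codeT * x * dec ω codeT) * (dec ω codeT * y * dec ω codeT) := by
    simp only [mul_assoc, reassoc_T]
  rw [e]
  exact mul_mem hx.2 hy.2
where
  reassoc_T : ∀ z : Matrix F9 F9 F, dec ω codeT * (dec ω codeT * z) = z := fun z => by
    rw [← mul_assoc, T_sq hg, one_mul]

theorem cover_spec {m : Matrix F9 F9 F} (hm : m ∈ mono F ω) :
    ∃ x, InD (F := F) (ω := ω) x ∧ ∃ k < 81, m = x * dec ω (cosC k) := by
  induction hm using Submonoid.closure_induction_right with
  | one =>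
    refine ⟨1, ⟨one_mem _, ?_⟩, 0, by norm_num, by rw [starts.2.2.2.1, dec_one, one_mul]⟩
    rw [mul_one, T_sq hg]; exact one_mem _
  | mul_right m' _ x hx ih =>
    obtain ⟨j, hj, rfl⟩ := hx
    obtain ⟨y, hy, k, hk, rfl⟩ := ih
    have h := List.all_eq_true.1 (List.all_eq_true.1 cover_ok k (List.mem_range.2 hk)) j (List.mem_range.2 hj)
    simp only [Bool.and_eq_true, Nat.blt_eq] at h
    refine ⟨y * dec ω (mC (coverAt k j).1), InD.mul hg hy ⟨mC_mem hg _, ?_⟩, _, h.1.1, ?_⟩
    · rw [← dmul hg ok_tables.1, ← dmul hg (okMul hg ok_tables.1 (ok_mC hg _)), Nat.eq_of_beq_eq_true h.2]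
      exact mC_mem hg _
    · rw [mul_assoc, ← dmul hg (ok_cosC hg _), Nat.eq_of_beq_eq_true h.1.2, dmul hg (ok_mC hg _), ← mul_assoc]

/-- The monoid generated by M and T. -/
theorem mem_union {g : Matrix F9 F9 F}
    (hgm : g ∈ Submonoid.closure (insert (dec ω codeT) {m | ∃ j < 4, m = dec ω (gC j)})) :
    ∃ x ∈ mono F ω, ∃ i < 20, ∃ y ∈ mono F ω, g = x * dec ω (rC i) * y := by
  induction hgm using Submonoid.closure_induction_left with
  | one => exact ⟨1, one_mem _, 0, by norm_num, 1, one_mem _, by rw [starts.2.2.1, dec_one, one_mul, one_mul]⟩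
  | mul_left s hs g' _ ih =>
    obtain ⟨x, hx, i, hi, y, hy, rfl⟩ := ih
    rcases hs with rfl | hs
    · obtain ⟨d, hd, k, hk, rfl⟩ := cover_spec hg hx
      have h := List.all_eq_true.1 (List.all_eq_true.1 move_ok k (List.mem_range.2 hk)) i (List.mem_range.2 hi)
      simp only [Bool.and_eq_true, Nat.blt_eq] at h
      have e : dec ω codeT * dec ω (cosC k) * dec ω (rC i) = dec ω (elC (moveAt k i)) := by
        rw [← dmul hg ok_tables.1, ← dmul hg (okMul hg ok_tables.1 (ok_cosC hg _)), Nat.eq_of_beq_eq_true h.2]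
      refine ⟨dec ω codeT * d * dec ω codeT * dec ω (mC ((moveAt k i).a, (moveAt k i).b)), ?_, _, h.1,
        dec ω (mC ((moveAt k i).c, (moveAt k i).d)) * y, mul_mem (mC_mem hg _) hy, ?_⟩
      · exact mul_mem hd.2 (mC_mem hg _)
      · rw [dec_elC hg] at e
        calc dec ω codeT * (d * dec ω (cosC k) * dec ω (rC i) * y)
            = dec ω codeT * d * ((dec ω codeT * dec ω codeT) * (dec ω (cosC k) * dec ω (rC i))) * y := by
              rw [T_sq hg, one_mul]; simp only [mul_assoc]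
          _ = dec ω codeT * d * dec ω codeT * (dec ω codeT * dec ω (cosC k) * dec ω (rC i)) * y := by
              simp only [mul_assoc]
          _ = _ := by rw [e]; simp only [mul_assoc]
    · exact ⟨s * x, mul_mem (Submonoid.subset_closure hs) hx, i, hi, y, hy, by simp only [mul_assoc]⟩

theorem rC_mem (i : ℕ) :
    dec ω (rC i) ∈ Submonoid.closure (insert (dec ω codeT) {m | ∃ j < 4, m = dec ω (gC j)}) := by
  have hsub : mono F ω ≤ Submonoid.closure (insert (dec ω codeT) {m | ∃ j < 4, m = dec ω (gC j)}) :=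
    Submonoid.closure_mono (Set.subset_insert _ _)
  by_cases hi : i < 20
  · induction i using Nat.strong_induction_on with
    | _ i ih =>
      by_cases h0 : i = 0
      · rw [h0, starts.2.2.1, dec_one]; exact one_mem _
      have h := List.all_eq_true.1 rep_tree i (List.mem_range.2 hi)
      simp only [Bool.or_eq_true, Bool.and_eq_true, Nat.blt_eq] at h
      rcases h with h | ⟨h1, h2⟩
      · exact absurd (Nat.eq_of_beq_eq_true h) h0
      rw [Nat.eq_of_beq_eq_true h2, dmul hg (okMul hg ok_tables.1 (ok_cosC hg _)), dmul hg ok_tables.1]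
      exact mul_mem (mul_mem (Submonoid.subset_closure (Set.mem_insert _ _)) (hsub (mC_mem hg (cosets.getD _ (0, 0)))))
        (ih _ h1 (by omega))
  · rw [rC, List.getD_eq_default _ _ (by rw [reps_len]; omega), dec_one]; exact one_mem _

omit hg in
theorem scal_zero : scal ω 0 = (0 : F) := by simp [scal, bit]

omit hg in
theorem scal_one : scal ω 1 = (1 : F) := by
  simp [scal, bit, show (1 : ℕ).testBit 1 = false by decide]

omit hg in
theorem scal_two : scal ω 2 = ω := by
  simp [scal, bit, show (2 : ℕ).testBit 0 = false by decide, show (2 : ℕ).testBit 1 = true by decide]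

theorem scal_three : scal ω 3 = ω ^ 2 := by
  have h : scal ω 3 = (1 : F) + ω := by
    simp [scal, bit, show (3 : ℕ).testBit 0 = true by decide, show (3 : ℕ).testBit 1 = true by decide]
  rw [h]; linear_combination (1 + ω) * hg.two - hg.eqn

theorem scal_om (n : ZMod 3) : scal ω (om n) = omegaPow F ω n := by
  fin_cases n
  · exact scal_one.trans (pow_zero ω).symm
  · exact scal_two.trans (pow_one ω).symm
  · exact scal_three hg

theorem scal_lam (Z z : F9) : scal ω (lamC Z z) = j3Lam F ω Z z := by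
  simp only [lamC, j3Lam]
  split_ifs
  · exact scal_one
  · exact scal_two
  · exact scal_three hg
  · exact scal_one

omit hg in
theorem scal_ite (p : Prop) [Decidable p] : scal ω (if p then 1 else 0) = if p then (1 : F) else 0 := by
  split
  · exact scal_one
  · exact scal_zero

theorem dec_j3A {c : ℕ} (Z : F9)
    (h : ∀ w z : F9, entry c w z = if w = z then om (Z.1 * w.1 + Z.2 * w.2) else 0) :
    dec ω c = j3A F ω Z := by
  ext w z
  rw [dec_entry, h, j3A, Matrix.diagonal_apply]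
  split
  · exact scal_om hg _
  · exact scal_zero

theorem dec_j3E {c : ℕ} (Z : F9)
    (h : ∀ w z : F9, entry c w z = if w = z then om ((Z.1 - w.1) ^ 2 + (Z.2 - w.2) ^ 2) else 0) :
    dec ω c = j3E F ω Z := by
  ext w z
  rw [dec_entry, h, j3E, Matrix.diagonal_apply]
  split
  · exact scal_om hg _
  · exact scal_zero

theorem dec_j3D {c : ℕ} (Z : F9) (h : ∀ w z : F9, entry c w z = if w = z + Z then lamC Z z else 0) :
    dec ω c = j3D F ω Z := by
  ext w z
  rw [dec_entry, h, j3D, Matrix.of_apply]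
  split
  · exact scal_lam hg _ _
  · exact scal_zero

theorem dec_j3B {c : ℕ} (Z : F9) (h : ∀ w z : F9, entry c w z = if w = F9.mul Z z then 1 else 0) :
    dec ω c = j3B F Z := by
  ext w z
  rw [dec_entry, h, scal_ite, j3B, Matrix.of_apply]

theorem dec_j3C {c : ℕ} (Z : F9) (h : ∀ w z : F9, entry c w z =
    if z = 0 then (if w = 0 then 1 else 0)
    else if w = -F9.div Z z ∨ w = F9.mul F9.I (F9.div Z z) ∨ w = -F9.mul F9.I (F9.div Z z) then 1 else 0) :
    dec ω c = j3C F Z := by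
  ext w z
  rw [dec_entry, h, j3C, Matrix.of_apply]
  split <;> exact scal_ite _

theorem T_mem_gens : dec ω codeT ∈ j3Gens F ω :=
  Or.inr ⟨(1, 0), by decide, dec_j3C hg _ genT⟩

theorem g_mem_gens {j : ℕ} (hj : j < 4) : dec ω (gC j) ∈ j3Gens F ω := by
  match j, hj with
  | 0, _ =>
    refine Or.inl (Or.inl (Or.inl (Or.inl ⟨(1, 0), (dec_j3A hg _ ?_).symm⟩)))
    simpa using gen0
  | 1, _ =>
    refine Or.inl (Or.inl (Or.inl (Or.inr ⟨(0, 0), (dec_j3E hg _ ?_).symm⟩)))
    simpa using gen1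
  | 2, _ => exact Or.inl (Or.inl (Or.inr ⟨(1, 0), (dec_j3D hg _ gen2).symm⟩))
  | 3, _ => exact Or.inl (Or.inr ⟨(1, 1), by decide, dec_j3B hg _ gen3⟩)
  | _ + 4, h => omega

theorem mgrp_eq : mgrp F ω = Submonoid.closure (insert (dec ω codeT) {m | ∃ j < 4, m = dec ω (gC j)}) := by
  apply le_antisymm
  · refine Submonoid.closure_le.2 ?_
    have hsub : mono F ω ≤ Submonoid.closure (insert (dec ω codeT) {m | ∃ j < 4, m = dec ω (gC j)}) :=
      Submonoid.closure_mono (Set.subset_insert _ _)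
    have hel : ∀ e : El, dec ω (elC e) ∈
        Submonoid.closure (insert (dec ω codeT) {m | ∃ j < 4, m = dec ω (gC j)}) := fun e => by
      rw [dec_elC hg]
      exact mul_mem (mul_mem (hsub (mC_mem hg _)) (rC_mem hg _)) (hsub (mC_mem hg _))
    rintro m ((((⟨Z, rfl⟩ | ⟨Z, rfl⟩) | ⟨Z, rfl⟩) | ⟨Z, hZ, rfl⟩) | ⟨Z, hZ, rfl⟩)
    · rw [← dec_j3A hg Z (famA Z)]; exact hel _
    · rw [← dec_j3E hg Z (famE Z)]; exact hel _
    · rw [← dec_j3D hg Z (famD Z)]; exact hel _
    · rw [← dec_j3B hg Z (famB Z hZ)]; exact hel _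
    · rw [← dec_j3C hg Z (famC Z hZ)]; exact hel _
  · refine Submonoid.closure_le.2 ?_
    rintro m (rfl | ⟨j, hj, rfl⟩)
    · exact Submonoid.subset_closure (T_mem_gens hg)
    · exact Submonoid.subset_closure (g_mem_gens hg hj)

theorem mono_le : mono F ω ≤ mgrp F ω := by
  rw [mgrp_eq hg]; exact Submonoid.closure_mono (Set.subset_insert _ _)

theorem elC_mem (e : El) : dec ω (elC e) ∈ mgrp F ω := by
  rw [dec_elC hg]
  refine mul_mem (mul_mem (mono_le hg (mC_mem hg _)) ?_) (mono_le hg (mC_mem hg _))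
  rw [mgrp_eq hg]; exact rC_mem hg _

theorem isUnit_mgrp {m : Matrix F9 F9 F} (hm : m ∈ mgrp F ω) : IsUnit m := by
  rw [mgrp_eq hg] at hm
  induction hm using Submonoid.closure_induction with
  | mem x hx =>
    rcases hx with rfl | ⟨j, hj, rfl⟩
    · exact ⟨⟨_, _, T_sq hg, T_sq hg⟩, rfl⟩
    · obtain ⟨w, -, h1, h2⟩ := mono_inv hg (gC_mem hg j)
      exact ⟨⟨_, w, h1, h2⟩, rfl⟩
  | one => exact isUnit_one
  | mul x y _ _ hx hy => exact hx.mul hy

theorem noDupB_nodup : ∀ {l : List ℕ}, noDupB l = true → l.Nodup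
  | [], _ => List.nodup_nil
  | a :: l, h => by
    rw [noDupB, Bool.and_eq_true, List.all_eq_true] at h
    refine List.nodup_cons.2 ⟨fun ha => ?_, noDupB_nodup h.2⟩
    have := h.1 a ha
    simp [Nat.beq_refl] at this

/-- The group has at most 150698880 elements. -/
theorem mgrp_card_le [Finite F] : Nat.card (mgrp F ω) ≤ 150698880 := by
  classical
  obtain ⟨Mf, hMf⟩ : ∃ Mf : Finset (Matrix F9 F9 F), Mf =
    ((Finset.range 81) ×ˢ (Finset.range 72)).image fun p => dec ω (dC p.1) * dec ω (pC p.2) := ⟨_, rfl⟩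
  have hMmem : ∀ {m}, m ∈ Mf ↔ m ∈ mono F ω := by
    intro m
    simp only [hMf, Finset.mem_image, Finset.mem_product, Finset.mem_range, mem_mono_iff hg]
    constructor
    · rintro ⟨⟨a, b⟩, ⟨ha, hb⟩, rfl⟩; exact ⟨a, ha, b, hb, rfl⟩
    · rintro ⟨a, ha, b, hb, rfl⟩; exact ⟨(a, b), ⟨ha, hb⟩, rfl⟩
  have hMcard : Mf.card ≤ 5832 := by
    rw [hMf]
    refine Finset.card_image_le.trans (le_of_eq ?_)
    rw [Finset.card_product, Finset.card_range, Finset.card_range]
  obtain ⟨S, hSdef⟩ : ∃ S : ℕ → Finset (Matrix F9 F9 F), ∀ i, S i =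
    (Mf ×ˢ Mf).image fun p => p.1 * dec ω (rC i) * p.2 := ⟨_, fun _ => rfl⟩
  have hS : ∀ i < 20, (S i).card ≤ dcBound i := by
    intro i hi
    by_cases h0 : i = 0
    · subst h0
      refine (Finset.card_le_card (t := Mf) ?_).trans hMcard
      intro m hm
      simp only [hSdef, Finset.mem_image, Finset.mem_product, hMmem] at hm
      obtain ⟨p, ⟨hx, hy⟩, rfl⟩ := hm
      rw [hMmem, starts.2.2.1, dec_one, mul_one]
      exact mul_mem hx hy
    have hst := List.all_eq_true.1 stab_ok i (List.mem_range.2 hi)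
    simp only [Bool.or_eq_true, Bool.and_eq_true, List.all_eq_true] at hst
    rcases hst with hst | ⟨⟨hne, hnd⟩, hall⟩
    · exact absurd (Nat.eq_of_beq_eq_true hst) h0
    obtain ⟨k, hk⟩ : ∃ k, k = (stabAt i).length := ⟨_, rfl⟩
    have hkpos : 0 < k := by
      rcases Nat.eq_zero_or_pos (stabAt i).length with h | h
      · rw [h] at hne; simp at hne
      · omega
    have hfib : ∀ y ∈ S i, k ≤ ((Mf ×ˢ Mf).filter fun p => p.1 * dec ω (rC i) * p.2 = y).card := by
      intro y hy
      simp only [hSdef, Finset.mem_image, Finset.mem_product, hMmem] at hy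
      obtain ⟨⟨x, z⟩, ⟨hx, hz⟩, rfl⟩ := hy
      have hw : ∀ s : (ℕ × ℕ) × (ℕ × ℕ), ∃ w, w ∈ mono F ω ∧ dec ω (mC s.2) * w = 1 := fun s =>
        let ⟨w, h1, h2, _⟩ := mono_inv hg (mC_mem hg s.2); ⟨w, h1, h2⟩
      choose w hw1 hw2 using hw
      obtain ⟨ux, hux⟩ : IsUnit x := isUnit_mgrp hg (mono_le hg hx)
      have hlt : ∀ t : Fin k, t.1 < (stabAt i).length := fun t => by have := t.2; omega
      let f : Fin k → Matrix F9 F9 F × Matrix F9 F9 F := fun t =>
        (x * dec ω (mC ((stabAt i)[t.1]'(hlt t)).1), w ((stabAt i)[t.1]'(hlt t)) * z)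
      have hf : Function.Injective f := by
        intro t t' htt
        have h1 : x * dec ω (mC ((stabAt i)[t.1]'(hlt t)).1) = x * dec ω (mC ((stabAt i)[t'.1]'(hlt t')).1) :=
          congrArg Prod.fst htt
        rw [← hux] at h1
        replace h1 := (Units.mul_right_inj ux).1 h1
        have h2 := dec_injective ω hg.two hg.eqn (ok_mC hg _) (ok_mC hg _) h1
        have hnd' := noDupB_nodup hg hnd
        apply Fin.ext
        have ht : t.1 < ((stabAt i).map fun s => mC s.1).length := by simpa [← hk] using t.2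
        have ht' : t'.1 < ((stabAt i).map fun s => mC s.1).length := by simpa [← hk] using t'.2
        exact (hnd'.getElem_inj_iff (hi := ht) (hj := ht')).1 (by simpa using h2)
      calc k = (Finset.univ.image f).card := by rw [Finset.card_image_of_injective _ hf, Finset.card_fin]
        _ ≤ _ := by
          refine Finset.card_le_card ?_
          intro p hp
          simp only [Finset.mem_image, Finset.mem_univ, true_and] at hp
          obtain ⟨t, rfl⟩ := hp
          simp only [Finset.mem_filter, Finset.mem_product, hMmem, f]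
          refine ⟨⟨mul_mem hx (mC_mem hg _), mul_mem (hw1 _) hz⟩, ?_⟩
          have hc := hall _ (List.getElem_mem (l := stabAt i) (hlt t))
          have e := congrArg (dec ω) (Nat.eq_of_beq_eq_true hc)
          rw [dmul hg (ok_mC hg _), dmul hg (ok_tables.2.2.2.2.2 _)] at e
          rw [mul_assoc x, e]
          calc x * (dec ω (rC i) * dec ω (mC ((stabAt i)[t.1]'(hlt t)).2)) * (w ((stabAt i)[t.1]'(hlt t)) * z)
              = x * dec ω (rC i) * ((dec ω (mC ((stabAt i)[t.1]'(hlt t)).2) *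
                  w ((stabAt i)[t.1]'(hlt t))) * z) := by simp only [mul_assoc]
            _ = x * dec ω (rC i) * z := by rw [hw2, one_mul]
    have hsum : (S i).card * k ≤ (Mf ×ˢ Mf).card := by
      rw [Finset.card_eq_sum_card_image (fun p => p.1 * dec ω (rC i) * p.2) (Mf ×ˢ Mf), hSdef i]
      rw [hSdef i] at hfib
      simpa using Finset.card_nsmul_le_sum _ _ k hfib
    have hb : dcBound i = 5832 * 5832 / k := by
      have : Nat.beq i 0 = false := by
        rcases hb' : Nat.beq i 0 with _ | _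
        · rfl
        · exact absurd (Nat.eq_of_beq_eq_true hb') h0
      rw [dcBound, this, hk]; rfl
    rw [hb, Nat.le_div_iff_mul_le hkpos]
    rw [Finset.card_product] at hsum
    exact hsum.trans (Nat.mul_le_mul hMcard hMcard)
  have hcov : (mgrp F ω : Set (Matrix F9 F9 F)) ⊆ ↑((Finset.range 20).biUnion S) := by
    intro g hgm
    obtain ⟨x, hx, i, hi, y, hy, rfl⟩ := mem_union hg (mgrp_eq hg ▸ hgm)
    simp only [Finset.coe_biUnion, Set.mem_iUnion, Finset.mem_coe, hSdef, Finset.mem_image, Finset.mem_product]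
    exact ⟨i, Finset.mem_range.2 hi, (x, y), ⟨hMmem.2 hx, hMmem.2 hy⟩, rfl⟩
  calc Nat.card (mgrp F ω) = (mgrp F ω : Set (Matrix F9 F9 F)).ncard := Nat.card_coe_set_eq _
    _ ≤ ((Finset.range 20).biUnion S).card := by
      rw [← Set.ncard_coe_finset]; exact Set.ncard_le_ncard hcov (Set.toFinite _)
    _ ≤ ∑ i ∈ Finset.range 20, (S i).card := Finset.card_biUnion_le
    _ ≤ ∑ i ∈ Finset.range 20, dcBound i := Finset.sum_le_sum fun i hi => hS i (Finset.mem_range.1 hi)
    _ = 150698880 := bound_sum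

end

end Cfsg.Agent.Lib.SporMatrix.J3
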