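import Cfsg.Agent.Lib.SporMatrix.J3Check
import Cfsg.Agent.Lib.SporMatrix.J3LinesData

/-!
The kernel computations behind the orbits of 3·J₃ on lines.
-/

set_option autoImplicit false

namespace Cfsg.Agent.Lib.SporMatrix.J3LinesCheck

open Cfsg.Spor Code9 J3Check J3LinesData

/-- The support of a vector. -/
def sup (v : ℕ) : ℕ := Nat.land (Nat.lor v (Nat.shiftRight v 9)) 511

/-- The positions with entry ω, and with entry ω². -/
def mask1 (a : ℕ) : ℕ := (diagMasks.getD a (0, 0)).1

/-- The positions with entry ω². -/
def mask2 (a : ℕ) : ℕ := (diagMasks.getD a (0, 0)).2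

/-- The diagonal entry at a position. -/
def diagEntry (a k : ℕ) : ℕ :=
  bif (mask1 a).testBit k then 2 else bif (mask2 a).testBit k then 3 else 1

/-- Fast action of a diagonal element. -/
def fdm (m1 m2 v : ℕ) : ℕ :=
  let lo := Nat.land v 511
  let hi := Nat.land (Nat.shiftRight v 9) 511
  let s := Nat.xor lo hi
  let m0 := Nat.xor 511 (Nat.xor m1 m2)
  Nat.xor (Nat.xor (Nat.land lo m0) (Nat.xor (Nat.land hi m1) (Nat.land s m2)))
    (Nat.shiftLeft (Nat.xor (Nat.land hi m0) (Nat.xor (Nat.land s m1) (Nat.land lo m2))) 9)

/-- Fast action of the `a`-th diagonal element. -/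
def fd (a v : ℕ) : ℕ := fdm (mask1 a) (mask2 a) v

/-- The code spans the line of `w`. -/
def is3 (x w : ℕ) : Bool := Nat.beq x w || Nat.beq x (omul w) || Nat.beq x (omul (omul w))

/-- The diagonal elements sending `x` to the line of `w`. -/
def countA (x w : ℕ) : ℕ :=
  diagMasks.countP fun m => is3 (fdm m.1 m.2 x) w

/-- The monomial elements sending a representative with given images to the line of `w`. -/
def fixCount (imgs : List ℕ) (w : ℕ) : ℕ :=
  (imgs.map fun x => bif Nat.beq (sup x) (sup w) then countA x w else 0).sum

theorem masks_len : diagMasks.length = 81 := by decide +kernel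

theorem diag_entries : ∀ a < 81, ∀ w z : F9,
    entry (dC a) w z = if w = z then diagEntry a (pos z) else 0 := by
  decide +kernel

theorem diag_nodup : noDupB ((List.range 81).map dC) = true := by decide +kernel

/-- The positions of the entries of a permutation element. -/
def pattern (b : ℕ) : List Bool :=
  (List.range 9).flatMap fun k => (List.range 9).map fun l =>
    !(Nat.beq (Nat.land (Nat.shiftRight (lane (pC b) k) l) 1) 0 &&
      Nat.beq (Nat.land (Nat.shiftRight (lane (pC b) k) (9 + l)) 1) 0)

theorem pattern_inj : ((List.range 72).map pattern).Nodup := by decide +kernel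

/-- One family of representatives is consistent. -/
def famOK (f : List (ℕ × List ℕ × ℕ × (ℕ × ℕ × ℕ))) : Bool :=
  f.all fun e => Nat.blt e.1 262144 && !Nat.beq e.1 0 &&
    decide (e.2.1 = (List.range 72).map fun b => apply (pC b) e.1) &&
    Nat.beq (fixCount e.2.1 e.1 * e.2.2.1) 5832

/-- Two representatives lie in different orbits. -/
def disjOK : List (ℕ × List ℕ × ℕ × (ℕ × ℕ × ℕ)) → Bool
  | [] => true
  | e :: l => (l.all fun e' => Nat.beq (fixCount e.2.1 e'.1) 0) && disjOK l

/-- The representatives are images of the seed. -/
def reachOK (seed : ℕ) (f : List (ℕ × List ℕ × ℕ × (ℕ × ℕ × ℕ))) : Bool :=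
  f.all fun e => Nat.beq e.1
    (apply (rC e.2.2.2.1) (fd e.2.2.2.2.1 (apply (pC e.2.2.2.2.2) seed)))

theorem point_fam : famOK pointReps = true := by decide +kernel

theorem iso_fam : famOK isoReps = true := by decide +kernel

theorem point_disj : disjOK pointReps = true := by decide +kernel

theorem iso_disj : disjOK isoReps = true := by decide +kernel

theorem point_reach : reachOK 1 pointReps = true := by decide +kernel

theorem iso_reach : reachOK 72 isoReps = true := by decide +kernel

theorem point_sizes : (pointReps.map fun e => e.2.2.1).sum = 23256 := by decide +kernel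

theorem iso_sizes : (isoReps.map fun e => e.2.2.1).sum = 43605 := by decide +kernel

/-- The nine coordinate lines are permuted by the monomial group. -/
def pointPerm : Bool :=
  ((List.range 72).all fun b => (List.range 9).any fun k => is3 (apply (pC b) 1) (2 ^ k)) &&
    (List.range 81).all fun a => (List.range 9).all fun k => is3 (fd a (2 ^ k)) (2 ^ k)

theorem point_perm : pointPerm = true := by decide +kernel

/-- The image of a coordinate line under a representative lies in a listed orbit. -/
def pointCover : Bool :=
  (List.range 20).all fun i => (List.range 9).all fun k =>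
    let t := pointWit.getD (9 * i + k) (0, 0, 0)
    match pointReps[t.1]? with
    | none => false
    | some e => is3 (apply (rC i) (2 ^ k)) (fd t.2.1 (apply (pC t.2.2) e.1))

theorem point_cover : pointCover = true := by decide +kernel

end Cfsg.Agent.Lib.SporMatrix.J3LinesCheck
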