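import Cfsg.Agent.Lib.SporMatrix.J3Unitary
import Cfsg.Agent.Lib.SporMatrix.J3LinesCheck

/-!
Orbits of 3·J₃ on lines of the 9-space: the group is a union of double cosets of the monomial subgroup,
whose orbits are counted by their stabilisers.
-/

set_option autoImplicit false

namespace Cfsg.Agent.Lib.SporMatrix.J3Lines

open Cfsg.Spor Code9 J3Data J3Check J3LinesData J3LinesCheck J3 Matrix

variable {F : Type*} [Field F] {ω : F}

/-- The line spanned by a coded vector. -/
def ln (ω : F) (v : ℕ) : Submodule F (F9 → F) := F ∙ decV ω v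

/-- The action on subspaces. -/
@[reducible] def lineAct : MulAction ↥(threeJ3 F ω) (Submodule F (F9 → F)) where
  smul g L := L.map (toMat g).mulVecLin
  one_smul L := by
    show L.map (toMat (1 : ↥(threeJ3 F ω))).mulVecLin = L
    rw [map_one, Matrix.mulVecLin_one, Submodule.map_id]
  mul_smul g h L := by
    show L.map (toMat (g * h)).mulVecLin = (L.map (toMat h).mulVecLin).map (toMat g).mulVecLin
    rw [map_mul, Matrix.mulVecLin_mul, Submodule.map_comp]

attribute [local instance] lineAct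

theorem smul_span (g : ↥(threeJ3 F ω)) (v : F9 → F) : g • (F ∙ v) = F ∙ (toMat g *ᵥ v) := by
  show (F ∙ v).map (toMat g).mulVecLin = _
  rw [Submodule.map_span, Set.image_singleton, Matrix.mulVecLin_apply]

theorem diagEntry_cases (a k : ℕ) : diagEntry a k = 1 ∨ diagEntry a k = 2 ∨ diagEntry a k = 3 := by
  unfold diagEntry
  cases (mask1 a).testBit k <;> cases (mask2 a).testBit k <;> simp

theorem testBit_511 (k : ℕ) : (511 : ℕ).testBit k = decide (k < 9) := by
  rw [show (511 : ℕ) = 2 ^ 9 - 1 by norm_num, Nat.testBit_two_pow_sub_one]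

theorem testBit_sup (v k : ℕ) :
    (sup v).testBit k = (decide (k < 9) && (v.testBit k || v.testBit (9 + k))) := by
  show ((v ||| v >>> 9) &&& 511).testBit k = _
  rw [Nat.testBit_and, Nat.testBit_or, Nat.testBit_shiftRight, testBit_511]
  cases decide (k < 9) <;> simp

theorem testBit_fd (a v j : ℕ) (ha : a < 81) : (fd a v).testBit j =
    if j < 9 then
      (bif (mask1 a).testBit j then v.testBit (9 + j) else bif (mask2 a).testBit j then
        (v.testBit j ^^ v.testBit (9 + j)) else v.testBit j)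
    else if j < 18 then
      (bif (mask1 a).testBit (j - 9) then (v.testBit (j - 9) ^^ v.testBit j)
        else bif (mask2 a).testBit (j - 9) then v.testBit (j - 9) else v.testBit j)
    else false := by
  have hm : ∀ a < 81, (mask1 a &&& mask2 a = 0 ∧ mask1 a &&& 511 = mask1 a ∧
      mask2 a &&& 511 = mask2 a) := by decide +kernel
  obtain ⟨h12, h1, h2⟩ := hm a ha
  have d : ∀ i, ¬((mask1 a).testBit i = true ∧ (mask2 a).testBit i = true) := fun i h => by
    have := congrArg (Nat.testBit · i) h12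
    simp [h.1, h.2] at this
  have b1 : ∀ i, ¬ i < 9 → (mask1 a).testBit i = false := fun i hi => by
    rw [← h1, Nat.testBit_and, testBit_511]; simp [hi]
  have b2 : ∀ i, ¬ i < 9 → (mask2 a).testBit i = false := fun i hi => by
    rw [← h2, Nat.testBit_and, testBit_511]; simp [hi]
  show (((v &&& 511) &&& (511 ^^^ (mask1 a ^^^ mask2 a))) ^^^
      (((v >>> 9) &&& 511) &&& mask1 a ^^^ ((v &&& 511) ^^^ ((v >>> 9) &&& 511)) &&& mask2 a) ^^^
    (((v >>> 9) &&& 511) &&& (511 ^^^ (mask1 a ^^^ mask2 a)) ^^^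
      (((v &&& 511) ^^^ ((v >>> 9) &&& 511)) &&& mask1 a ^^^ (v &&& 511) &&& mask2 a)) <<< 9).testBit j = _
  simp only [Nat.testBit_xor, Nat.testBit_and, Nat.testBit_shiftLeft, Nat.testBit_shiftRight,
    testBit_511]
  by_cases hj : j < 9
  · have := d j
    simp only [hj, decide_true, if_true, show ¬ 9 ≤ j by omega, decide_false, Bool.false_and,
      Bool.and_true, Bool.true_xor, Bool.xor_false]
    revert this
    cases (mask1 a).testBit j <;> cases (mask2 a).testBit j <;> simp
  · have h9 : 9 ≤ j := by omega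
    simp only [hj, decide_false, if_false, h9, decide_true, Bool.and_false, Bool.false_and,
      b1 j hj, b2 j hj, Bool.xor_false, Bool.false_xor, Bool.true_and]
    by_cases h18 : j < 18
    · have h9' : j - 9 < 9 := by omega
      have := d (j - 9)
      simp only [h18, if_true, h9', decide_true, Bool.and_true, Bool.true_xor,
        show 9 + (j - 9) = j by omega]
      revert this
      cases (mask1 a).testBit (j - 9) <;> cases (mask2 a).testBit (j - 9) <;> simp
    · have h9' : ¬ j - 9 < 9 := by omega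
      simp [h18, h9', b1 _ h9', b2 _ h9']

theorem fd_lt (a v : ℕ) (ha : a < 81) : fd a v < 2 ^ 18 :=
  Nat.lt_pow_two_of_testBit _ fun i hi => by
    rw [testBit_fd a v i ha, if_neg (by omega), if_neg (by omega)]

section

variable (hg : Good F ω)

include hg

theorem omega_ne' : ω ≠ 0 ∧ ω ≠ 1 := Code9.omega_ne ω hg.two hg.eqn

theorem scal_diagEntry_ne (a k : ℕ) : (scal ω (diagEntry a k) : F) ≠ 0 := by
  rcases diagEntry_cases a k with h | h | h <;> rw [h]
  · rw [J3.scal_one]; exact one_ne_zero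
  · rw [J3.scal_two]; exact (omega_ne' hg).1
  · rw [J3.scal_three hg]; exact pow_ne_zero 2 (omega_ne' hg).1

theorem decV_fd {a : ℕ} (ha : a < 81) (v : ℕ) (z : F9) :
    decV ω (fd a v) z = scal ω (diagEntry a (pos z)) * decV ω v z := by
  have hz := pos_lt z
  have hone := hg.eqn
  simp only [decV, testBit_fd a v _ ha, if_pos hz, if_neg (show ¬ 9 + pos z < 9 by omega),
    if_pos (show 9 + pos z < 18 by omega), Nat.add_sub_cancel_left, diagEntry]
  cases (mask1 a).testBit (pos z) <;> cases (mask2 a).testBit (pos z) <;>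
    simp only [cond_true, cond_false, J3.scal_one, J3.scal_two, J3.scal_three hg, bit_xor hg.two,
      one_mul]
  · linear_combination (-(bit (v.testBit (pos z)) : F) -
      (bit (v.testBit (9 + pos z)) : F) * (ω - 1)) * hone +
      ((bit (v.testBit (pos z)) : F) + (bit (v.testBit (pos z)) : F) * ω) * hg.two
  all_goals
    linear_combination (-(bit (v.testBit (9 + pos z)) : F)) * hone +
      ((bit (v.testBit (9 + pos z)) : F) + (bit (v.testBit (9 + pos z)) : F) * ω) * hg.two

theorem fd_eq {a : ℕ} (ha : a < 81) (v : ℕ) : fd a v = apply (dC a) v := by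
  refine decV_injective ω hg.two hg.eqn (fd_lt a v ha) (apply_lt _ _) ?_
  funext z
  rw [decV_apply ω hg.two hg.eqn (ok_tables.2.2.2.1 a), decV_fd hg ha]
  simp only [Matrix.mulVec, dotProduct, dec_entry, diag_entries a ha]
  rw [Finset.sum_eq_single z (fun w _ hw => by rw [if_neg (Ne.symm hw), J3.scal_zero, zero_mul])
    (fun h => absurd (Finset.mem_univ z) h), if_pos rfl]

/-! ### Lines -/

theorem decV_ne {v : ℕ} (h : v < 2 ^ 18) (h0 : v ≠ 0) : decV ω v ≠ (0 : F9 → F) := fun e =>
  h0 (decV_injective ω hg.two hg.eqn h (by norm_num) (e.trans (decV_zero ω).symm))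

theorem smul_ln {x : ↥(threeJ3 F ω)} {c : ℕ} (hc : ok c = true) (hx : toMat x = dec ω c) (v : ℕ) :
    x • ln ω v = ln ω (apply c v) := by
  rw [ln, smul_span, hx, ← decV_apply ω hg.two hg.eqn hc]
  rfl

theorem testBit_sup_iff (v : ℕ) (z : F9) :
    (sup v).testBit (pos z) = true ↔ decV ω v z ≠ (0 : F) := by
  rw [testBit_sup]
  simp only [pos_lt z, decide_true, Bool.true_and, decV]
  have key := @bit_pair_injective F _ ω hg.two hg.eqn
    (v.testBit (pos z)) (v.testBit (9 + pos z)) false false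
  cases h1 : v.testBit (pos z) <;> cases h2 : v.testBit (9 + pos z) <;>
    rw [h1, h2] at key <;> simp only [Bool.or_self, Bool.or_true, Bool.true_or, Bool.false_or]
  · simp [bit]
  all_goals
    simp only [true_iff]
    intro h
    have := key (by rw [h]; simp [bit])
    simp at this

variable [Fintype F] (hF : Fintype.card F = 4)

include hF

theorem scalar_cases (c : F) : c = 0 ∨ c = 1 ∨ c = ω ∨ c = ω ^ 2 := by
  classical
  obtain ⟨h0, h1⟩ := omega_ne' hg
  have e2 : ω ^ 2 = ω + 1 := by linear_combination hg.eqn - (ω + 1) * hg.two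
  have hne : ω + 1 ≠ 0 := by rw [← e2]; exact pow_ne_zero 2 h0
  have hne1 : (1 : F) ≠ ω + 1 := fun h => h0 (by linear_combination -h)
  have hneω : ω ≠ ω + 1 := fun h => one_ne_zero (α := F) (by linear_combination -h)
  have hu : ({0, 1, ω, ω ^ 2} : Finset F) = Finset.univ := by
    refine Finset.eq_univ_of_card _ ?_
    rw [hF, e2, Finset.card_insert_of_notMem (by simp [zero_ne_one, h0.symm, hne.symm]),
      Finset.card_insert_of_notMem (by simp [h1.symm, hne1]),
      Finset.card_insert_of_notMem (by simp [hneω]), Finset.card_singleton]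
  have := Finset.mem_univ c
  rw [← hu] at this
  simpa using this

omit hF in
theorem ln_omul (v : ℕ) : ln ω (omul v) = ln ω v := by
  rw [ln, decV_omul ω hg.two hg.eqn, Submodule.span_singleton_smul_eq (IsUnit.mk0 _ (omega_ne' hg).1)]
  rfl

theorem ln_eq_iff {x w : ℕ} (hx : x < 2 ^ 18) (hw : w < 2 ^ 18) (hw0 : w ≠ 0) :
    ln ω x = ln ω w ↔ is3 x w = true := by
  simp only [is3, Bool.or_eq_true, Nat.beq_eq]
  constructor
  · intro h
    have hmem : decV ω x ∈ ln ω w := h ▸ Submodule.mem_span_singleton_self _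
    obtain ⟨c, hc⟩ := Submodule.mem_span_singleton.1 hmem
    have hwne := decV_ne hg hw hw0
    rcases scalar_cases hg hF c with e | e | e | e <;> subst c
    · exfalso
      rw [zero_smul] at hc
      have : ln ω w = ⊥ := by rw [← h, ln, ← hc, Submodule.span_singleton_eq_bot]
      rw [ln, Submodule.span_singleton_eq_bot] at this
      exact hwne this
    · left; left
      rw [one_smul] at hc
      exact decV_injective ω hg.two hg.eqn hx hw hc.symm
    · left; right
      refine decV_injective ω hg.two hg.eqn hx (omul_lt w) ?_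
      rw [decV_omul ω hg.two hg.eqn, hc]
    · right
      refine decV_injective ω hg.two hg.eqn hx (omul_lt _) ?_
      rw [decV_omul ω hg.two hg.eqn, decV_omul ω hg.two hg.eqn, smul_smul, ← sq, hc]
  · rintro ((rfl | rfl) | rfl)
    · rfl
    · exact ln_omul hg w
    · rw [ln_omul hg, ln_omul hg]

theorem sup_eq_of_ln {x w : ℕ} (h : ln ω x = ln ω w) : sup x = sup w := by
  apply Nat.eq_of_testBit_eq
  intro j
  by_cases hj : j < 9
  · obtain ⟨z, hz⟩ := pos_surj ⟨j, hj⟩
    simp only at hz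
    subst hz
    rw [Bool.eq_iff_iff, testBit_sup_iff hg, testBit_sup_iff hg]
    obtain ⟨c, hc⟩ := Submodule.mem_span_singleton.1
      (h ▸ Submodule.mem_span_singleton_self _ : decV ω x ∈ ln ω w)
    obtain ⟨d, hd⟩ := Submodule.mem_span_singleton.1
      (h.symm ▸ Submodule.mem_span_singleton_self _ : decV ω w ∈ ln ω x)
    constructor <;> intro hne he
    · exact hne (by rw [← hc, Pi.smul_apply, he, smul_zero])
    · exact hne (by rw [← hd, Pi.smul_apply, he, smul_zero])
  · simp [testBit_sup, hj]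

theorem sup_fd {a : ℕ} (ha : a < 81) (x : ℕ) : sup (fd a x) = sup x := by
  apply Nat.eq_of_testBit_eq
  intro j
  by_cases hj : j < 9
  · obtain ⟨z, hz⟩ := pos_surj ⟨j, hj⟩
    simp only at hz
    subst hz
    rw [Bool.eq_iff_iff, testBit_sup_iff hg, testBit_sup_iff hg, decV_fd hg ha, mul_ne_zero_iff]
    exact ⟨fun h => h.2, fun h => ⟨scal_diagEntry_ne hg _ _, h⟩⟩
  · simp [testBit_sup, hj]

/-! ### The monomial group -/

omit [Fintype F] hF in
theorem mono_le_mgrp : mono F ω ≤ mgrp F ω := by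
  rw [mgrp_eq hg]
  exact Submonoid.closure_mono (Set.subset_insert _ _)

omit hF in
/-- The monomial subgroup. -/
def msub : Subgroup ↥(threeJ3 F ω) where
  carrier := {x | toMat x ∈ mono F ω}
  one_mem' := by
    show toMat (1 : ↥(threeJ3 F ω)) ∈ mono F ω
    rw [map_one]; exact one_mem _
  mul_mem' := fun {x y} hx hy => by
    show toMat (x * y) ∈ mono F ω
    rw [map_mul]; exact mul_mem hx hy
  inv_mem' := fun {x} hx => by
    show toMat x⁻¹ ∈ mono F ω
    obtain ⟨w, hw, -, hw2⟩ := mono_inv hg hx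
    have : w = toMat x⁻¹ := by
      rw [← mul_one w, ← map_one (toMat (F := F) (ω := ω)), ← mul_inv_cancel x, map_mul,
        ← mul_assoc, hw2, one_mul]
    exact this ▸ hw

omit hF in
theorem exists_mono (a : Fin 81) (b : Fin 72) :
    ∃ x : ↥(msub hg), toMat (x : ↥(threeJ3 F ω)) = dec ω (mC (a.1, b.1)) := by
  obtain ⟨x, hx⟩ := exists_toMat hg (mono_le_mgrp hg (mC_mem hg (a.1, b.1)))
  refine ⟨⟨x, ?_⟩, hx⟩
  show toMat x ∈ mono F ω
  rw [hx]; exact mC_mem hg _

omit hF in
/-- The element with given indices. -/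
noncomputable def monoElt (p : Fin 81 × Fin 72) : ↥(msub hg) :=
  Classical.choose (exists_mono hg p.1 p.2)

omit hF in
theorem toMat_monoElt (p : Fin 81 × Fin 72) :
    toMat (monoElt hg p : ↥(threeJ3 F ω)) = dec ω (mC (p.1.1, p.2.1)) :=
  Classical.choose_spec (exists_mono hg p.1 p.2)

omit hg [Fintype F] hF in
theorem pattern_bit (b k l : ℕ) :
    (!(Nat.beq (Nat.land (Nat.shiftRight (lane (pC b) k) l) 1) 0 &&
      Nat.beq (Nat.land (Nat.shiftRight (lane (pC b) k) (9 + l)) 1) 0)) =
      ((lane (pC b) k).testBit l || (lane (pC b) k).testBit (9 + l)) := by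
  have hb : ∀ x i : ℕ, Nat.land (Nat.shiftRight x i) 1 = (x.testBit i).toNat := fun x i => by
    rw [Code9.land_one, Nat.toNat_testBit, ← Nat.shiftRight_eq_div_pow]; rfl
  rw [hb, hb]
  cases (lane (pC b) k).testBit l <;> cases (lane (pC b) k).testBit (9 + l) <;> rfl

theorem monoElt_bijective : Function.Bijective (monoElt hg) := by
  classical
  constructor
  · rintro ⟨a, b⟩ ⟨a', b'⟩ h
    have e := congrArg (fun x : ↥(msub hg) => toMat (x : ↥(threeJ3 F ω))) h
    simp only [toMat_monoElt, dec_mC hg] at e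
    have hent : ∀ (a : Fin 81) (b : ℕ) (w z : F9), (dec ω (dC a.1) * dec ω (pC b)) w z =
        scal ω (diagEntry a.1 (pos w)) * decV ω (lane (pC b) (pos z)) w := by
      intro a b w z
      rw [Matrix.mul_apply, Finset.sum_eq_single w (fun u _ hu => by
        rw [dec_entry, diag_entries a.1 a.2, if_neg (Ne.symm hu), J3.scal_zero, zero_mul])
        (fun h => absurd (Finset.mem_univ w) h), dec_entry, diag_entries a.1 a.2, if_pos rfl]
      rfl
    have hb : b = b' := by
      apply Fin.ext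
      by_contra hne
      have hn := (List.nodup_map_iff_inj_on List.nodup_range).1 pattern_inj
      refine hne (hn _ (List.mem_range.2 b.2) _ (List.mem_range.2 b'.2) ?_)
      simp only [pattern, pattern_bit]
      refine List.flatMap_congr fun k hk => List.map_congr_left fun l hl => ?_
      obtain ⟨z, hz⟩ := pos_surj ⟨k, List.mem_range.1 hk⟩
      obtain ⟨w, hw⟩ := pos_surj ⟨l, List.mem_range.1 hl⟩
      simp only at hz hw
      subst hz hw
      have e' := congrFun (congrFun e w) z
      rw [hent, hent] at e'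
      have hs : ∀ v, ((v.testBit (pos w) || v.testBit (9 + pos w)) = true ↔ decV ω v w ≠ (0 : F)) :=
        fun v => by
          have := testBit_sup_iff hg v w
          rwa [testBit_sup, decide_eq_true (pos_lt w), Bool.true_and] at this
      rw [Bool.eq_iff_iff, hs, hs]
      constructor <;> intro hne he <;> rw [he, mul_zero] at e'
      · exact hne ((mul_eq_zero.1 e').resolve_left (scal_diagEntry_ne hg _ _))
      · exact hne ((mul_eq_zero.1 e'.symm).resolve_left (scal_diagEntry_ne hg _ _))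
    subst hb
    obtain ⟨u, hu, hu1, -⟩ := mono_inv hg (pC_mem hg b.1)
    have e2 := congrArg (· * u) e
    simp only [mul_assoc, hu1, mul_one] at e2
    have hd := dec_injective ω hg.two hg.eqn (ok_tables.2.2.2.1 a.1) (ok_tables.2.2.2.1 a'.1) e2
    have hnd : ∀ l : List ℕ, noDupB l = true → l.Nodup := by
      intro l
      induction l with
      | nil => exact fun _ => List.nodup_nil
      | cons x l ih =>
        intro h
        simp only [noDupB, Bool.and_eq_true, List.all_eq_true, Bool.not_eq_true'] at h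
        refine List.nodup_cons.2 ⟨fun hx => ?_, ih h.2⟩
        have := h.1 x hx
        simp at this
    have hn := (List.nodup_map_iff_inj_on List.nodup_range).1 (hnd _ diag_nodup)
    obtain rfl : a = a' := Fin.ext (hn _ (List.mem_range.2 a.2) _ (List.mem_range.2 a'.2) hd)
    rfl
  · rintro ⟨x, hx⟩
    obtain ⟨a, ha, b, hb, e⟩ := (mem_mono_iff hg).1 hx
    refine ⟨(⟨a, ha⟩, ⟨b, hb⟩), Subtype.ext (toMat_injective ?_)⟩
    rw [toMat_monoElt, dec_mC hg, e]

theorem monoElt_smul (p : Fin 81 × Fin 72) (v : ℕ) :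
    monoElt hg p • ln ω v = ln ω (fd p.1.1 (apply (pC p.2.1) v)) := by
  show (monoElt hg p : ↥(threeJ3 F ω)) • ln ω v = _
  rw [ln, smul_span, toMat_monoElt, dec_mC hg, ← Matrix.mulVec_mulVec,
    ← decV_apply ω hg.two hg.eqn (ok_tables.2.2.2.2.1 _),
    ← decV_apply ω hg.two hg.eqn (ok_tables.2.2.2.1 _), ← fd_eq hg p.1.2]
  rfl

theorem card_msub : Nat.card ↥(msub hg) = 5832 := by
  rw [← Nat.card_eq_of_bijective _ (monoElt_bijective hg hF), Nat.card_prod, Nat.card_fin, Nat.card_fin]

omit hg [Fintype F] hF in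
theorem countA_eq (x w : ℕ) :
    countA x w = ((Finset.univ : Finset (Fin 81)).filter fun a => is3 (fd a.1 x) w = true).card := by
  have h : diagMasks = (List.range 81).map fun a => diagMasks.getD a (0, 0) := by decide +kernel
  rw [countA, h, List.countP_map, List.countP_eq_length_filter,
    ← List.toFinset_card_of_nodup (List.nodup_range.filter _),
    ← Finset.card_map Fin.valEmbedding]
  congr 1
  ext a
  simp only [List.mem_toFinset, List.mem_filter, List.mem_range, Finset.mem_map, Finset.mem_filter,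
    Finset.mem_univ, true_and, Fin.valEmbedding_apply, Function.comp_apply]
  constructor
  · exact fun ⟨ha, h⟩ => ⟨⟨a, ha⟩, h, rfl⟩
  · rintro ⟨b, hb, rfl⟩; exact ⟨b.2, hb⟩

theorem fixCount_spec {v w : ℕ} {imgs : List ℕ}
    (himgs : imgs = (List.range 72).map fun b => apply (pC b) v) (hw : w < 2 ^ 18) (hw0 : w ≠ 0) :
    Nat.card {x : ↥(msub hg) // x • ln ω v = ln ω w} = fixCount imgs w := by
  classical
  rw [← Nat.card_congr ((Equiv.ofBijective _ (monoElt_bijective hg hF)).subtypeEquiv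
      (p := fun p => ln ω (fd p.1.1 (apply (pC p.2.1) v)) = ln ω w) (fun p => by
        rw [Equiv.ofBijective_apply, monoElt_smul hg hF])),
    Nat.card_eq_fintype_card, Fintype.card_subtype, Finset.card_filter, Fintype.sum_prod_type_right,
    fixCount, himgs, List.map_map, ← Finset.sum_range fun b => ∑ a : Fin 81,
      if ln ω (fd a.1 (apply (pC b) v)) = ln ω w then 1 else 0]
  show (Multiset.map _ (Multiset.range 72)).sum = _
  rw [← Multiset.coe_range, Multiset.map_coe, Multiset.sum_coe]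
  refine congrArg List.sum (List.map_congr_left fun b _ => ?_)
  rw [Function.comp_apply, ← Finset.card_filter, countA_eq]
  cases hs : Nat.beq (sup (apply (pC b) v)) (sup w)
  · rw [cond_false, Finset.card_eq_zero, Finset.filter_eq_empty_iff]
    intro a _ h
    have := sup_eq_of_ln hg hF h
    rw [sup_fd hg hF a.2] at this
    simp [this] at hs
  · rw [cond_true]
    congr 1
    refine Finset.filter_congr fun a _ => ?_
    rw [ln_eq_iff hg hF (fd_lt _ _ a.2) hw hw0]

/-! ### Families of monomial orbits -/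

omit hg [Fintype F] hF in
theorem famOK_spec {f : List (ℕ × List ℕ × ℕ × (ℕ × ℕ × ℕ))} (h : famOK f = true)
    {e : ℕ × List ℕ × ℕ × (ℕ × ℕ × ℕ)} (he : e ∈ f) :
    (e.1 < 2 ^ 18 ∧ e.1 ≠ 0) ∧ (e.2.1 = (List.range 72).map fun b => apply (pC b) e.1) ∧
      fixCount e.2.1 e.1 * e.2.2.1 = 5832 := by
  have := List.all_eq_true.1 h e he
  simp only [Bool.and_eq_true, Nat.blt_eq, Bool.not_eq_true', decide_eq_true_eq, Nat.beq_eq] at this
  obtain ⟨⟨⟨h1, h2⟩, h3⟩, h4⟩ := this
  exact ⟨⟨h1, fun e0 => by simp [e0] at h2⟩, h3, h4⟩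

/-- The union of the monomial orbits of a family. -/
def famSet (f : List (ℕ × List ℕ × ℕ × (ℕ × ℕ × ℕ))) : Set (Submodule F (F9 → F)) :=
  {L | ∃ e ∈ f, L ∈ MulAction.orbit ↥(msub hg) (ln ω e.1)}

theorem ncard_famSet : ∀ {f : List (ℕ × List ℕ × ℕ × (ℕ × ℕ × ℕ))}, famOK f = true →
    disjOK f = true → (famSet hg f).ncard = (f.map fun e => e.2.2.1).sum
  | [], _, _ => by simp [famSet]
  | e :: f, h, hd => by
    haveI : Finite (F9 → F) := inferInstance
    haveI : Finite (Submodule F (F9 → F)) :=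
      Finite.of_injective (fun L => (L : Set (F9 → F))) SetLike.coe_injective
    obtain ⟨⟨hl, h0⟩, himg, hsize⟩ := famOK_spec h List.mem_cons_self
    have hf : famOK f = true := by
      simp only [famOK, List.all_cons, Bool.and_eq_true] at h ⊢; exact h.2
    simp only [disjOK, Bool.and_eq_true, List.all_eq_true, Nat.beq_eq] at hd
    have e1 : famSet hg (e :: f) = MulAction.orbit ↥(msub hg) (ln ω e.1) ∪ famSet hg f := by
      ext L; simp [famSet]
    have horb : (MulAction.orbit ↥(msub hg) (ln ω e.1)).ncard = e.2.2.1 := by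
      have h1 := Subgroup.card_mul_index (MulAction.stabilizer ↥(msub hg) (ln ω e.1))
      rw [MulAction.index_stabilizer, card_msub hg hF, ← hsize,
        show Nat.card ↥(MulAction.stabilizer ↥(msub hg) (ln ω e.1)) = fixCount e.2.1 e.1 from
          fixCount_spec hg hF himg hl h0] at h1
      exact Nat.eq_of_mul_eq_mul_left (Nat.pos_of_ne_zero fun h2 => by simp [h2] at hsize) h1
    rw [e1, Set.ncard_union_eq _ (Set.toFinite _) (Set.toFinite _), horb,
      ncard_famSet hf hd.2, List.map_cons, List.sum_cons]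
    rw [Set.disjoint_left]
    rintro L hL ⟨e', he', hL'⟩
    obtain ⟨⟨hl', h0'⟩, -, -⟩ := famOK_spec hf he'
    have hz := hd.1 e' he'
    rw [← fixCount_spec hg hF himg hl' h0'] at hz
    obtain ⟨x, rfl⟩ := hL
    obtain ⟨y, hy⟩ := hL'
    haveI : Nonempty {z : ↥(msub hg) // z • ln ω e.1 = ln ω e'.1} :=
      ⟨⟨y⁻¹ * x, by
        show (y⁻¹ * x) • ln ω e.1 = ln ω e'.1
        rw [mul_smul, inv_smul_eq_iff]
        exact hy.symm⟩⟩
    exact absurd hz Nat.card_pos.ne'

omit hF in
theorem famSet_subset {f : List (ℕ × List ℕ × ℕ × (ℕ × ℕ × ℕ))} {seed : ℕ}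
    (h : ∀ e ∈ f, ln ω e.1 ∈ MulAction.orbit ↥(threeJ3 F ω) (ln ω seed)) :
    famSet hg f ⊆ MulAction.orbit ↥(threeJ3 F ω) (ln ω seed) := by
  rintro L ⟨e, he, ⟨x, rfl⟩⟩
  obtain ⟨g, hg'⟩ := h e he
  exact ⟨(x : ↥(threeJ3 F ω)) * g, by
    show ((x : ↥(threeJ3 F ω)) * g) • ln ω seed = _
    rw [mul_smul, show g • ln ω seed = ln ω e.1 from hg']
    rfl⟩

theorem reach_spec {f : List (ℕ × List ℕ × ℕ × (ℕ × ℕ × ℕ))} {seed : ℕ}
    (h : reachOK seed f = true) (hlt : ∀ e ∈ f, e.2.2.2.2.1 < 81) :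
    famSet hg f ⊆ MulAction.orbit ↥(threeJ3 F ω) (ln ω seed) := by
  refine famSet_subset hg fun e he => ?_
  have hh := Nat.eq_of_beq_eq_true (List.all_eq_true.1 h e he)
  obtain ⟨b', hb, hbe⟩ := pC_norm e.2.2.2.2.2
  obtain ⟨r, hr⟩ := exists_toMat hg (show dec ω (rC e.2.2.2.1) ∈ mgrp F ω by
    rw [mgrp_eq hg]; exact rC_mem hg _)
  refine ⟨r * (monoElt hg (⟨_, hlt e he⟩, ⟨b', hb⟩) : ↥(threeJ3 F ω)), ?_⟩
  show (r * _) • ln ω seed = _
  rw [mul_smul]
  show r • (monoElt hg (⟨_, hlt e he⟩, ⟨b', hb⟩) • ln ω seed) = _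
  rw [monoElt_smul hg hF, smul_ln hg (ok_tables.2.2.2.2.2 _) hr]
  show ln ω (apply (rC _) (fd _ (apply (pC b') seed))) = _
  rw [hbe, ← hh]

/-- The coordinate line has 23256 images. -/
theorem ncard_point_orbit :
    (MulAction.orbit ↥(threeJ3 F ω) (ln ω 1)).ncard = 23256 := by
  have hp := point_perm
  simp only [pointPerm, Bool.and_eq_true, List.all_eq_true, List.any_eq_true, List.mem_range] at hp
  obtain ⟨hp1, hp2⟩ := hp
  have h2k : ∀ k < 9, 2 ^ k < 2 ^ 18 ∧ 2 ^ k ≠ 0 := fun k hk =>
    ⟨Nat.pow_lt_pow_right (by norm_num) (by omega), (Nat.two_pow_pos k).ne'⟩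
  have hM : ∀ x : ↥(msub hg), ∃ k < 9, x • ln ω 1 = ln ω (2 ^ k) := by
    intro x
    obtain ⟨⟨a, b⟩, rfl⟩ := (monoElt_bijective hg hF).2 x
    obtain ⟨k, hk, h⟩ := hp1 b.1 b.2
    refine ⟨k, hk, ?_⟩
    have e1 := (ln_eq_iff hg hF (apply_lt _ _) (h2k k hk).1 (h2k k hk).2).2 h
    have e2 := (ln_eq_iff hg hF (fd_lt a.1 _ a.2) (h2k k hk).1 (h2k k hk).2).2 (hp2 a.1 a.2 k hk)
    rw [monoElt_smul hg hF]
    show ln ω (fd a.1 (apply (pC b.1) 1)) = _
    rw [fd_eq hg a.2, ← smul_ln hg (ok_tables.2.2.2.1 _) (Classical.choose_spec (exists_toMat hg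
      (mono_le_mgrp hg (dC_mem hg a.1)))), e1, smul_ln hg (ok_tables.2.2.2.1 _)
      (Classical.choose_spec (exists_toMat hg (mono_le_mgrp hg (dC_mem hg a.1)))), ← fd_eq hg a.2, e2]
  have hlt : ∀ e ∈ pointReps, e.2.2.2.2.1 < 81 := by decide +kernel
  rw [← point_sizes, ← ncard_famSet hg hF point_fam point_disj]
  congr 1
  refine Set.Subset.antisymm ?_ (reach_spec hg hF point_reach hlt)
  rintro L ⟨g, rfl⟩
  have hgm := toMat_mem hg g
  rw [mgrp_eq hg] at hgm
  obtain ⟨x, hx, i, hi, y, hy, e⟩ := mem_union hg hgm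
  obtain ⟨gx, rfl⟩ := exists_toMat hg (mono_le_mgrp hg hx)
  obtain ⟨gy, rfl⟩ := exists_toMat hg (mono_le_mgrp hg hy)
  obtain ⟨r, hr⟩ := exists_toMat hg (show dec ω (rC i) ∈ mgrp F ω by
    rw [mgrp_eq hg]; exact rC_mem hg _)
  rw [← hr, ← map_mul, ← map_mul] at e
  obtain rfl := toMat_injective e
  obtain ⟨k, hk, hy'⟩ := hM ⟨gy, hy⟩
  have hc := List.all_eq_true.1 (List.all_eq_true.1 point_cover i (List.mem_range.2 hi)) k
    (List.mem_range.2 hk)
  obtain ⟨t, ht⟩ : ∃ t, pointWit.getD (9 * i + k) (0, 0, 0) = t := ⟨_, rfl⟩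
  simp only [ht] at hc
  split at hc
  · exact absurd hc Bool.false_ne_true
  rename_i e' he'
  have hwit : t.2.1 < 81 := by
    have : ∀ i < 180, (pointWit.getD i (0, 0, 0)).2.1 < 81 := by decide +kernel
    rw [← ht]; exact this _ (by omega)
  obtain ⟨b', hb, hbe⟩ := pC_norm t.2.2
  refine ⟨e', List.mem_of_getElem? he',
    ⟨⟨gx, hx⟩ * monoElt hg (⟨t.2.1, hwit⟩, ⟨b', hb⟩), ?_⟩⟩
  show (⟨gx, hx⟩ * monoElt hg (⟨t.2.1, hwit⟩, ⟨b', hb⟩)) • ln ω e'.1 = (gx * r * gy) • ln ω 1
  rw [mul_smul, mul_smul, mul_smul, monoElt_smul hg hF]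
  show gx • ln ω (fd t.2.1 (apply (pC b') e'.1)) = gx • r • gy • ln ω 1
  rw [show gy • ln ω 1 = ln ω (2 ^ k) from hy', smul_ln hg (ok_tables.2.2.2.2.2 _) hr]
  congr 1
  obtain ⟨⟨hl, h0⟩, -, -⟩ := famOK_spec point_fam (List.mem_of_getElem? he')
  have hne : fd t.2.1 (apply (pC b') e'.1) ≠ 0 := fun h0' => by
    obtain ⟨u, hu⟩ := exists_mono hg ⟨t.2.1, hwit⟩ ⟨b', hb⟩
    have h3 := monoElt_smul hg hF (⟨t.2.1, hwit⟩, ⟨b', hb⟩) e'.1
    rw [show (fd t.2.1 (apply (pC b') e'.1)) = 0 from h0', show ln ω 0 = (⊥ : Submodule F (F9 → F)) by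
      rw [ln, decV_zero, Submodule.span_zero_singleton], ← eq_inv_smul_iff] at h3
    have h4 : ln ω e'.1 = ⊥ := by
      rw [h3]
      show Submodule.map _ ⊥ = ⊥
      exact Submodule.map_bot _
    rw [ln, Submodule.span_singleton_eq_bot] at h4
    exact decV_ne hg hl h0 h4
  exact ((ln_eq_iff hg hF (apply_lt _ _) (fd_lt _ _ hwit) hne).2 (by rw [hbe]; exact hc)).symm

/-! ### Isotropic lines -/

omit [Fintype F] hF in
theorem iso_toMat [Finite F] (g : ↥(threeJ3 F ω)) (v : F9 → F) :
    ∑ z, (toMat g *ᵥ v) z ^ 3 = ∑ z, v z ^ 3 := by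
  haveI := charP_two hg
  have h := isUnitary_toMat hg g
  have hsq : (fun z => (toMat g *ᵥ v) z ^ 2) = (toMat g).map (· ^ 2) *ᵥ fun z => v z ^ 2 := by
    funext z
    simp [Matrix.mulVec, dotProduct, CharTwo.sum_sq, mul_pow]
  have hd : ∀ u : F9 → F, ∑ z, u z ^ 3 = (fun z => u z ^ 2) ⬝ᵥ u := fun u =>
    Finset.sum_congr rfl fun z _ => by ring
  rw [hd, hd, hsq, Matrix.dotProduct_mulVec, ← Matrix.vecMul_transpose, ← Matrix.transpose_map,
    Matrix.vecMul_vecMul, h, Matrix.vecMul_one]

theorem cube [DecidableEq F] (x : F) : x ^ 3 = if x = 0 then 0 else 1 := by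
  split_ifs with h
  · subst h; norm_num
  · have := FiniteField.pow_card_sub_one_eq_one x h
    rwa [hF] at this

/-- The isotropic nonzero vectors number 130815. -/
theorem card_iso_vectors [DecidableEq F] :
    ((Finset.univ : Finset (F9 → F)).filter fun v => v ≠ 0 ∧ ∑ z, v z ^ 3 = 0).card = 130815 := by
  classical
  haveI := charP_two hg
  have hpar : ∀ v : F9 → F, (∑ z, v z ^ 3 = 0 ↔
      Even ((Finset.univ.filter fun z => v z ≠ 0).card)) := fun v => by
    rw [Finset.sum_congr rfl fun z _ => cube hg hF (v z), Finset.sum_ite, Finset.sum_const_zero,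
      zero_add, Finset.sum_const, nsmul_eq_mul, mul_one, CharP.cast_eq_zero_iff F 2, even_iff_two_dvd]
  let χ : F → ℤ := fun x => if x = 0 then 1 else -1
  have hsign : ∀ v : F9 → F, (∏ z, χ (v z)) = if ∑ z, v z ^ 3 = 0 then 1 else -1 := fun v => by
    rw [Finset.prod_ite, Finset.prod_const_one, one_mul, Finset.prod_const]
    split_ifs with h
    · exact Even.neg_one_pow ((hpar v).1 h)
    · exact Odd.neg_one_pow (Nat.not_even_iff_odd.1 fun he => h ((hpar v).2 he))
  have htot : ∑ v : F9 → F, ∏ z, χ (v z) = -512 := by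
    rw [← Fintype.prod_sum fun (_ : F9) x => χ x, Finset.prod_const, Finset.card_univ,
      show Fintype.card F9 = 9 from rfl]
    have : ∑ x : F, χ x = -2 := by
      rw [Finset.sum_ite, Finset.sum_const, Finset.sum_const, Finset.filter_eq',
        if_pos (Finset.mem_univ _), Finset.filter_not, Finset.filter_eq', if_pos (Finset.mem_univ _),
        Finset.card_sdiff_of_subset (Finset.subset_univ _), Finset.card_univ, hF, Finset.card_singleton]
      norm_num
    rw [this]; norm_num
  simp only [hsign, Finset.sum_ite, Finset.sum_const, nsmul_eq_mul] at htot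
  have hadd := Finset.card_filter_add_card_filter_not (s := (Finset.univ : Finset (F9 → F)))
    (fun v => ∑ z, v z ^ 3 = 0)
  rw [Finset.card_univ, Fintype.card_fun, hF, show Fintype.card F9 = 9 from rfl] at hadd
  have hins : ((Finset.univ : Finset (F9 → F)).filter fun v => ∑ z, v z ^ 3 = 0) =
      insert 0 ((Finset.univ : Finset (F9 → F)).filter fun v => v ≠ 0 ∧ ∑ z, v z ^ 3 = 0) := by
    ext v
    by_cases h : v = 0
    · subst h; simp
    · simp [h]
  rw [hins, Finset.card_insert_of_notMem (by simp)] at hadd htot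
  omega

/-- All isotropic lines form one orbit. -/
theorem iso_line_mem {v : F9 → F} (hv : v ≠ 0) (hiso : ∑ z, v z ^ 3 = 0) :
    F ∙ v ∈ MulAction.orbit ↥(threeJ3 F ω) (ln ω 72) := by
  classical
  set T := ((Finset.univ : Finset (F9 → F)).filter fun v => v ≠ 0 ∧ ∑ z, v z ^ 3 = 0).image
    fun v => F ∙ v with hT
  have hle : 3 * T.card ≤ 130815 := by
    rw [← card_iso_vectors hg hF, hT]
    refine Finset.mul_card_image_le_card _ 3 fun L hL => ?_
    obtain ⟨u, hu, rfl⟩ := Finset.mem_image.1 hL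
    simp only [Finset.mem_filter, Finset.mem_univ, true_and] at hu
    obtain ⟨h0, h1⟩ := omega_ne' hg
    have h2 : ω ^ 2 ≠ 1 := fun e => h0 (by linear_combination hg.eqn - e - hg.two)
    have h21 : ω ^ 2 ≠ ω := fun e => h1 (mul_left_cancel₀ h0 (by rw [← sq, e, mul_one]))
    have hsub : ({1, ω, ω ^ 2} : Finset F).image (fun c => c • u) ⊆
        ((Finset.univ : Finset (F9 → F)).filter fun v => v ≠ 0 ∧ ∑ z, v z ^ 3 = 0).filter
          fun v => F ∙ v = F ∙ u := by
      intro x hx
      obtain ⟨c, hc, rfl⟩ := Finset.mem_image.1 hx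
      have hc0 : c ≠ 0 := by
        simp only [Finset.mem_insert, Finset.mem_singleton] at hc
        rcases hc with rfl | rfl | rfl
        · exact one_ne_zero
        · exact h0
        · exact pow_ne_zero 2 h0
      simp only [Finset.mem_filter, Finset.mem_univ, true_and]
      refine ⟨⟨smul_ne_zero hc0 hu.1, ?_⟩, Submodule.span_singleton_smul_eq (IsUnit.mk0 c hc0) u⟩
      simp only [Pi.smul_apply, smul_eq_mul, mul_pow, ← Finset.mul_sum, hu.2, mul_zero]
    refine le_trans (le_of_eq ?_) (Finset.card_le_card hsub)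
    rw [Finset.card_image_of_injective _ fun c d h => by
      by_contra hne
      obtain ⟨z, hz⟩ := Function.ne_iff.1 hu.1
      exact hne (mul_right_cancel₀ hz (congrFun h z)),
      Finset.card_insert_of_notMem (by simp [h1.symm, h2.symm]),
      Finset.card_insert_of_notMem (by simp [h21.symm]), Finset.card_singleton]
  have hlt : ∀ e ∈ isoReps, e.2.2.2.2.1 < 81 := by decide +kernel
  have hsubT : MulAction.orbit ↥(threeJ3 F ω) (ln ω 72) ⊆ ↑T := by
    rintro L ⟨g, rfl⟩
    rw [Finset.mem_coe, hT, Finset.mem_image]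
    refine ⟨toMat g *ᵥ decV ω 72, ?_, (smul_span g _).symm⟩
    simp only [Finset.mem_filter, Finset.mem_univ, true_and]
    refine ⟨fun h => decV_ne hg (v := 72) (by norm_num) (by norm_num) ?_, ?_⟩
    · calc decV ω 72 = (toMat g⁻¹ * toMat g) *ᵥ decV ω 72 := by
            rw [← map_mul, inv_mul_cancel, map_one, Matrix.one_mulVec]
        _ = 0 := by rw [← Matrix.mulVec_mulVec, h, Matrix.mulVec_zero]
    · rw [iso_toMat hg]
      have hbits : ∀ z : F9, (72 : ℕ).testBit (9 + pos z) = false ∧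
          ((72 : ℕ).testBit (pos z) = true ↔ z = (1, 0) ∨ z = (2, 0)) := by decide +kernel
      have hz : ∀ z, (decV ω 72 z : F) ^ 3 = if z = (1, 0) ∨ z = (2, 0) then 1 else 0 := fun z => by
        by_cases h : z = (1, 0) ∨ z = (2, 0)
        · rw [if_pos h, decV, (hbits z).1, (hbits z).2.2 h]; simp [bit]
        · rw [if_neg h, decV, (hbits z).1, Bool.eq_false_iff.2 fun h' => h ((hbits z).2.1 h')]
          simp [bit]
      rw [Finset.sum_congr rfl fun z _ => hz z, Finset.sum_boole,
        show (Finset.univ.filter fun z : F9 => z = (1, 0) ∨ z = (2, 0)).card = 2 from by decide]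
      exact_mod_cast hg.two
  have hge : 43605 ≤ (MulAction.orbit ↥(threeJ3 F ω) (ln ω 72)).ncard := by
    rw [← iso_sizes, ← ncard_famSet hg hF iso_fam iso_disj]
    exact Set.ncard_le_ncard (reach_spec hg hF iso_reach hlt) (T.finite_toSet.subset hsubT)
  rw [Set.eq_of_subset_of_ncard_le hsubT (by rw [Set.ncard_coe_finset]; omega) T.finite_toSet,
    Finset.mem_coe, hT]
  exact Finset.mem_image_of_mem _ (Finset.mem_filter.2 ⟨Finset.mem_univ _, hv, hiso⟩)

end

end Cfsg.Agent.Lib.SporMatrix.J3Lines
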