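import Cfsg.Agent.Lib.SporMatrix.J3Data

/-!
Generated data for the automorphism group of J₃: generators x, t₂, y, words for the standard generators, relations, conjugators.
-/

set_option autoImplicit false

namespace Cfsg.Agent.Lib.SporMatrix.J3OutData

open J3Data

/-- Index in H of an element of order 5. -/
def xIdx : ℕ := 3

/-- Index in H of an element inverting it. -/
def nIdx : ℕ := 46

/-- Orbit representatives among the non-central involutions of Q. -/
def involReps : List ℕ := [6, 8]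

/-- Conjugators from B₋₁ onto the representatives, with inverses. -/
def uConj : List (El × El) :=
  [(⟨26, 60, 9, 69, 50⟩, ⟨74, 50, 17, 48, 44⟩),
   (⟨1, 36, 4, 62, 35⟩, ⟨59, 5, 4, 30, 0⟩)]

/-- The third generator inside the conjugate centraliser: indices in Q and H. -/
def yA : ℕ := 25

def yB : ℕ := 44

/-- Words for the five standard generators. -/
def genWords : List (List ℕ) :=
  [[1, 0, 0, 1, 0, 0, 0, 1],
   [1, 0, 0, 0, 0, 1, 0, 0, 0, 2, 0, 1, 0, 0, 0, 0, 2, 0, 0, 0, 1, 0, 0, 0, 0, 1, 0],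
   [1, 0, 0, 1, 0, 0, 0, 2, 0, 2, 1, 0, 0, 0, 0, 2, 0, 2],
   [1, 0, 0, 0, 2, 0, 2, 1, 0, 2, 0, 1, 0, 0, 1, 0, 0, 0, 2, 1, 0, 0, 0],
   [0, 0, 0, 2, 0, 0, 0, 0, 2, 1, 0, 2, 0, 0, 0, 0, 2, 1, 0, 2, 1, 0, 0]]

/-- Relations: a word and an exponent. -/
def rels : List (List ℕ × ℕ) := [([0, 2, 0, 2], 3), ([0, 0, 1, 0, 2], 6)]

end Cfsg.Agent.Lib.SporMatrix.J3OutData
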