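import Cfsg.Agent.Lib.SporMatrix.J3InvCheck
import Cfsg.Agent.Lib.SporMatrix.J3OutData

/-!
Kernel checks for the automorphism group of J₃: automorphisms fixing t and x are inner.
-/

set_option autoImplicit false

namespace Cfsg.Agent.Lib.SporMatrix.J3OutCheck

open Code9 J3Data J3Check J3CentData J3CentCheck J3InvData J3InvCheck J3OutData

def xC : ℕ := elAt hElems xIdx
def rep (l : ℕ) : ℕ := involReps.getD l 0
def qRep (l : ℕ) : ℕ := elAt qElems (rep l)
def uEl (l : ℕ) : El := (uConj.getD l (⟨0, 0, 0, 0, 0⟩, ⟨0, 0, 0, 0, 0⟩)).1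
def vEl (l : ℕ) : El := (uConj.getD l (⟨0, 0, 0, 0, 0⟩, ⟨0, 0, 0, 0, 0⟩)).2
def candC (l a b : ℕ) : ℕ := mul (mul (elC (uEl l)) (mul (elAt qElems a) (elAt hElems b))) (elC (vEl l))
def yC : ℕ := candC 0 yA yB

/-- The code of a word in three coded elements. -/
def wordThree (p q r : ℕ) : List ℕ → ℕ
  | [] => one
  | i :: w => mul (match i with | 0 => p | 1 => q | _ => r) (wordThree p q r w)

def target (k : ℕ) : ℕ := match k with | 0 => codeT | j + 1 => gC j

def relC (p q r : ℕ) (wn : List ℕ × ℕ) : ℕ := powC (wordThree p q r wn.1) wn.2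

theorem x_ok : xIdx < 60 ∧ nIdx < 60 ∧ powC xC 5 = one ∧ Nat.beq xC one = false ∧
    mul (mul xC (elAt hElems nIdx)) xC = elAt hElems nIdx := by decide +kernel

theorem y_ok : yA < 32 ∧ yB < 60 ∧ mul yC yC = one := by decide +kernel

def checkConj : Bool :=
  (List.range 2).all fun l => qInvs.contains (rep l) && Nat.beq (mul (elC (uEl l)) (elC (vEl l))) one &&
    Nat.beq (mul (mul (elC (uEl l)) tC) (elC (vEl l))) (qRep l)

theorem uConj_ok : checkConj = true := by decide +kernel

def checkOrbit : Bool :=
  qInvs.all fun j => (List.range 5).any fun k => (List.range 2).any fun l =>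
    Nat.beq (mul (powC xC k) (elAt qElems j)) (mul (qRep l) (powC xC k))

theorem orbit_ok : checkOrbit = true := by decide +kernel

def checkWords : Bool :=
  (List.range 5).all fun k => (List.range 3).any fun s =>
    Nat.beq (wordThree xC (qRep 0) yC (genWords.getD k [])) (mul (target k) (scC s))

theorem words_ok : checkWords = true := by decide +kernel

def checkRels : Bool := rels.all fun wn => isScalar (relC xC (qRep 0) yC wn)

theorem rels_ok : checkRels = true := by decide +kernel

def checkCands : Bool :=
  (List.range 2).all fun l => (List.range 60).all fun b =>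
    !Nat.beq (mul (elAt hElems b) (elAt hElems b)) one || (List.range 32).all fun a =>
      !Nat.beq (mul (mul (elAt qElems a) (elAt hElems b)) (mul (elAt qElems a) (elAt hElems b))) one ||
      (Nat.beq l 0 &&
        (isScalar (mul (candC l a b) yC) || isScalar (mul (candC l a b) (mul (mul tC yC) tC)))) ||
      rels.any fun wn => !isScalar (relC xC (qRep l) (candC l a b) wn)

theorem cands_ok : checkCands = true := by decide +kernel

end Cfsg.Agent.Lib.SporMatrix.J3OutCheck
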