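import Cfsg.Agent.Lib.SporMatrix.J3
import Cfsg.Prelude.Def_KGroupFacts

/-!
The outer automorphism of J₃: squaring the entries and conjugating the indices; it inverts the centre of 3·J₃.
-/

set_option autoImplicit false

namespace Cfsg.Agent.Lib.SporMatrix.J3

open Cfsg.Spor Code9 J3Data J3Check
open scoped commutatorElement

/-- Conjugation of the field with nine elements, on indices. -/
def conjIdx : F9 ≃ F9 where
  toFun z := (z.1, -z.2)
  invFun z := (z.1, -z.2)
  left_inv z := by simp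
  right_inv z := by simp

/-- The effect of squaring on coefficient codes. -/
def sqCode : ℕ → ℕ
  | 2 => 3
  | 3 => 2
  | n => n

theorem sqA : ∀ Z w z : F9,
    sqCode (if conjIdx w = conjIdx z then om (Z.1 * (conjIdx w).1 + Z.2 * (conjIdx w).2) else 0) =
      if w = z then om ((-Z.1) * w.1 + Z.2 * w.2) else 0 := by decide +kernel

theorem sqE : ∀ Z w z : F9,
    sqCode (if conjIdx w = conjIdx z then om ((Z.1 - (conjIdx w).1) ^ 2 + (Z.2 - (conjIdx w).2) ^ 2) else 0) =
      if w = z then om (2 * ((Z.1 - w.1) ^ 2 + ((-Z.2) - w.2) ^ 2)) else 0 := by decide +kernel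

theorem sqD : ∀ Z w z : F9, sqCode (if conjIdx w = conjIdx z + Z then lamC Z (conjIdx z) else 0) =
    if w = z + conjIdx Z then lamC (conjIdx Z) z else 0 := by decide +kernel

theorem sqB : ∀ Z w z : F9, sqCode (if conjIdx w = F9.mul Z (conjIdx z) then 1 else 0) =
    if w = F9.mul (conjIdx Z) z then 1 else 0 := by decide +kernel

theorem sqC : ∀ Z w z : F9, sqCode (if conjIdx z = 0 then (if conjIdx w = 0 then 1 else 0)
    else if conjIdx w = -F9.div Z (conjIdx z) ∨ conjIdx w = F9.mul F9.I (F9.div Z (conjIdx z)) ∨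
      conjIdx w = -F9.mul F9.I (F9.div Z (conjIdx z)) then 1 else 0) =
    if z = 0 then (if w = 0 then 1 else 0)
    else if w = -F9.div (conjIdx Z) z ∨ w = F9.mul F9.I (F9.div (conjIdx Z) z) ∨
      w = -F9.mul F9.I (F9.div (conjIdx Z) z) then 1 else 0 := by decide +kernel

theorem conjIdx_ne : ∀ Z : F9, Z ≠ 0 → conjIdx Z ≠ 0 := by decide +kernel

theorem commutator_scalar_code : Code9.mul (gC 0) (gC 2) = Code9.mul (Code9.mul (scC 1) (gC 2)) (gC 0) ∨
    Code9.mul (gC 0) (gC 2) = Code9.mul (Code9.mul (scC 2) (gC 2)) (gC 0) := by decide +kernel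

variable {F : Type*} [Field F] {ω : F} (hg : Good F ω)

include hg

/-- Squaring, a ring endomorphism in characteristic two. -/
def sqHom : F →+* F where
  toFun x := x * x
  map_one' := mul_one 1
  map_mul' x y := mul_mul_mul_comm x y x y
  map_zero' := mul_zero 0
  map_add' x y := by
    have := hg.two
    linear_combination (x * y) * this

theorem sqHom_scal {k : ℕ} (hk : k < 4) : sqHom hg (scal ω k) = scal ω (sqCode k) := by
  have h3 : ω ^ 3 = 1 := by linear_combination (ω - 1) * hg.eqn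
  show scal ω k * scal ω k = _
  interval_cases k
  · simp [sqCode, scal_zero]
  · simp [sqCode, scal_one]
  · rw [sqCode, scal_two, scal_three hg, sq]
  · rw [sqCode, scal_two, scal_three hg, ← pow_add]
    linear_combination ω * h3

omit hg in
theorem om_lt : ∀ n : ZMod 3, om n < 4 := by decide

omit hg in
theorem lamC_lt (Z z : F9) : lamC Z z < 4 := by unfold lamC; split_ifs <;> omega

theorem sq_entry {k k' : ℕ} (hk : k < 4) (h : sqCode k = k') : sqHom hg (scal ω k) = scal ω k' := by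
  rw [sqHom_scal hg hk, h]

/-- The semilinear map on matrices. -/
def sigma : Matrix F9 F9 F →* Matrix F9 F9 F where
  toFun m := (m.map (sqHom hg)).submatrix conjIdx conjIdx
  map_one' := by
    rw [Matrix.map_one _ (map_zero _) (map_one _), Matrix.submatrix_one_equiv]
  map_mul' a b := by
    rw [Matrix.map_mul, Matrix.submatrix_mul_equiv]

theorem sigma_apply (m : Matrix F9 F9 F) (w z : F9) : sigma hg m w z = sqHom hg (m (conjIdx w) (conjIdx z)) := rfl

omit hg in
theorem scal_if (p : Prop) [Decidable p] (a b : ℕ) :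
    scal ω (if p then a else b) = if p then scal ω a else scal ω b := apply_ite _ p a b

theorem sigma_j3A (Z : F9) : sigma hg (j3A F ω Z) = j3A F ω (-Z.1, Z.2) := by
  ext w z
  rw [sigma_apply, j3A, Matrix.diagonal_apply, j3A, Matrix.diagonal_apply, ← scal_om hg, ← scal_om hg,
    ← scal_zero (F := F) (ω := ω), ← scal_if, ← scal_if]
  refine sq_entry hg ?_ (sqA Z w z)
  split
  · exact om_lt _
  · omega

theorem omegaPow_add' (a b : ZMod 3) : omegaPow F ω a * omegaPow F ω b = omegaPow F ω (a + b) := by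
  have h3 : ω ^ 3 = 1 := by linear_combination (ω - 1) * hg.eqn
  rw [omegaPow, omegaPow, omegaPow, ← pow_add, ZMod.val_add, ← pow_eq_pow_mod _ h3]

theorem sigma_j3E (Z : F9) : sigma hg (j3E F ω Z) = j3E F ω (conjIdx Z) * j3E F ω (conjIdx Z) := by
  ext w z
  rw [sigma_apply, j3E, Matrix.diagonal_apply, j3E, Matrix.diagonal_mul_diagonal, Matrix.diagonal_apply,
    omegaPow_add' hg, ← scal_om hg, ← scal_om hg, ← scal_zero (F := F) (ω := ω), ← scal_if, ← scal_if]
  refine sq_entry hg ?_ ?_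
  · split
    · exact om_lt _
    · omega
  · rw [sqE Z w z, two_mul]
    rfl

theorem sigma_j3D (Z : F9) : sigma hg (j3D F ω Z) = j3D F ω (conjIdx Z) := by
  ext w z
  rw [sigma_apply, j3D, Matrix.of_apply, j3D, Matrix.of_apply, ← scal_lam hg, ← scal_lam hg,
    ← scal_zero (F := F) (ω := ω), ← scal_if, ← scal_if]
  refine sq_entry hg ?_ (sqD Z w z)
  split
  · exact lamC_lt _ _
  · omega

theorem sigma_j3B (Z : F9) : sigma hg (j3B F Z) = j3B F (conjIdx Z) := by
  ext w z
  rw [sigma_apply, j3B, Matrix.of_apply, j3B, Matrix.of_apply, ← scal_ite (ω := ω), ← scal_ite (ω := ω)]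
  exact sq_entry hg (by split <;> omega) (sqB Z w z)

theorem sigma_j3C (Z : F9) : sigma hg (j3C F Z) = j3C F (conjIdx Z) := by
  ext w z
  have e : ∀ (Z w z : F9), j3C F Z w z = scal ω (if z = 0 then (if w = 0 then 1 else 0)
      else if w = -F9.div Z z ∨ w = F9.mul F9.I (F9.div Z z) ∨ w = -F9.mul F9.I (F9.div Z z) then 1 else 0) := by
    intro Z w z
    rw [j3C, Matrix.of_apply]
    split <;> exact (scal_ite _).symm
  rw [sigma_apply, e, e]
  exact sq_entry hg (by split_ifs <;> omega) (sqC Z w z)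

theorem sigma_injective : Function.Injective (sigma hg) := by
  intro a b h
  ext w z
  have := congrFun (congrFun h (conjIdx.symm w)) (conjIdx.symm z)
  rw [sigma_apply, sigma_apply, Equiv.apply_symm_apply, Equiv.apply_symm_apply] at this
  exact (sqHom hg).injective this

variable [Finite F]

omit [Finite F] in
theorem sigma_mem {m : Matrix F9 F9 F} (hm : m ∈ mgrp F ω) : sigma hg m ∈ mgrp F ω := by
  induction hm using Submonoid.closure_induction with
  | mem x hx =>
    rcases hx with (((⟨Z, rfl⟩ | ⟨Z, rfl⟩) | ⟨Z, rfl⟩) | ⟨Z, hZ, rfl⟩) | ⟨Z, hZ, rfl⟩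
    · rw [sigma_j3A hg]
      exact Submonoid.subset_closure (Or.inl (Or.inl (Or.inl (Or.inl ⟨_, rfl⟩))))
    · rw [sigma_j3E hg]
      exact mul_mem (Submonoid.subset_closure (Or.inl (Or.inl (Or.inl (Or.inr ⟨_, rfl⟩)))))
        (Submonoid.subset_closure (Or.inl (Or.inl (Or.inl (Or.inr ⟨_, rfl⟩)))))
    · rw [sigma_j3D hg]
      exact Submonoid.subset_closure (Or.inl (Or.inl (Or.inr ⟨_, rfl⟩)))
    · rw [sigma_j3B hg]
      exact Submonoid.subset_closure (Or.inl (Or.inr ⟨_, conjIdx_ne Z hZ, rfl⟩))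
    · rw [sigma_j3C hg]
      exact Submonoid.subset_closure (Or.inr ⟨_, conjIdx_ne Z hZ, rfl⟩)
  | one => rw [map_one]; exact one_mem _
  | mul a b _ _ ha hb => rw [map_mul]; exact mul_mem ha hb

/-- The automorphism of the triple cover. -/
noncomputable def psiThree : ↥(threeJ3 F ω) ≃* ↥(threeJ3 F ω) := by
  have h : ∀ x : ↥(threeJ3 F ω), ∃ y : ↥(threeJ3 F ω), toMat y = sigma hg (toMat x) :=
    fun x => exists_toMat hg (sigma_mem hg (toMat_mem hg x))
  let f : ↥(threeJ3 F ω) →* ↥(threeJ3 F ω) :=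
    { toFun := fun x => (h x).choose
      map_one' := toMat_injective (by rw [(h 1).choose_spec, map_one, map_one])
      map_mul' := fun a b => toMat_injective (by
        rw [(h (a * b)).choose_spec, map_mul, map_mul, map_mul, (h a).choose_spec, (h b).choose_spec]) }
  refine MulEquiv.ofBijective f (Finite.injective_iff_bijective.1 fun a b hab => toMat_injective ?_)
  apply sigma_injective hg
  rw [← (h a).choose_spec, ← (h b).choose_spec]
  exact congrArg toMat hab

theorem toMat_psiThree (x : ↥(threeJ3 F ω)) : toMat (psiThree hg x) = sigma hg (toMat x) :=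
  (exists_toMat hg (sigma_mem hg (toMat_mem hg x))).choose_spec

/-- The outer automorphism of J₃. -/
noncomputable def psi : MulAut (Cfsg.Spor.J3 F ω) :=
  QuotientGroup.congr _ _ (psiThree hg) (Subgroup.characteristic_iff_map_eq.1 inferInstance _)

theorem psi_mk (a : ↥(threeJ3 F ω)) :
    psi hg (QuotientGroup.mk a) = QuotientGroup.mk (psiThree hg a) := rfl

theorem psi_not_inner : psi hg ∉ Cfsg.Inn (Cfsg.Spor.J3 F ω) := by
  rintro ⟨g, hgψ⟩
  obtain ⟨g, rfl⟩ := QuotientGroup.mk_surjective g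
  obtain ⟨a, ha⟩ := exists_toMat hg (Submonoid.subset_closure (g_mem_gens hg (j := 0) (by norm_num)))
  obtain ⟨b, hb⟩ := exists_toMat hg (Submonoid.subset_closure (g_mem_gens hg (j := 2) (by norm_num)))
  have hac : HasCode a (gC 0) := ⟨ok_tables.2.1 0, ha⟩
  have hbc : HasCode b (gC 2) := ⟨ok_tables.2.1 2, hb⟩
  obtain ⟨k, hk, hkne, hcode⟩ : ∃ k, k < 3 ∧ sqCode (k + 1) ≠ k + 1 ∧
      Code9.mul (gC 0) (gC 2) = Code9.mul (Code9.mul (scC k) (gC 2)) (gC 0) := by
    rcases commutator_scalar_code with h | h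
    · exact ⟨1, by norm_num, by decide, h⟩
    · exact ⟨2, by norm_num, by decide, h⟩
  obtain ⟨z, hz⟩ : ∃ z : ↥(threeJ3 F ω), HasCode z (scC k) := exists_el hg _
  have hzc := mem_center_of_scC hg hk hz
  have hcomm : ⁅a, b⁆ = z := by
    have e : a * b = z * b * a :=
      HasCode.ext (hac.mul' hg hbc) (hcode ▸ (hz.mul' hg hbc).mul' hg hac)
    rw [commutatorElement_def, e]; group
  have hψ : ∀ x, ∃ c ∈ Subgroup.center ↥(threeJ3 F ω), psiThree hg x = g * x * g⁻¹ * c := by
    intro x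
    refine ⟨(g * x * g⁻¹)⁻¹ * psiThree hg x, ?_, (mul_inv_cancel_left _ _).symm⟩
    rw [← QuotientGroup.eq, ← psi_mk hg]
    exact (DFunLike.congr_fun hgψ (QuotientGroup.mk x)).symm.symm
  obtain ⟨c, hc, hca⟩ := hψ a
  obtain ⟨d, hd, hdb⟩ := hψ b
  have key : psiThree hg z = z := by
    rw [← hcomm, map_commutatorElement, hca, hdb]
    calc ⁅g * a * g⁻¹ * c, g * b * g⁻¹ * d⁆ = ⁅g * a * g⁻¹, g * b * g⁻¹⁆ := by
          have hc' := Subgroup.mem_center_iff.1 hc
          have hd' := Subgroup.mem_center_iff.1 hd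
          simp only [commutatorElement_def, mul_inv_rev]
          calc g * a * g⁻¹ * c * (g * b * g⁻¹ * d) * (c⁻¹ * (g⁻¹⁻¹ * (a⁻¹ * g⁻¹))) * (d⁻¹ * (g⁻¹⁻¹ * (b⁻¹ * g⁻¹)))
              = g * a * g⁻¹ * (c * (g * b * g⁻¹ * d)) * (c⁻¹ * (g⁻¹⁻¹ * (a⁻¹ * g⁻¹))) *
                (d⁻¹ * (g⁻¹⁻¹ * (b⁻¹ * g⁻¹))) := by group
            _ = g * a * g⁻¹ * (g * b * g⁻¹ * (d * (g⁻¹⁻¹ * (a⁻¹ * g⁻¹)))) *
                (d⁻¹ * (g⁻¹⁻¹ * (b⁻¹ * g⁻¹))) := by rw [← hc']; group
            _ = _ := by rw [← hd']; group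
      _ = g * ⁅a, b⁆ * g⁻¹ := by rw [commutatorElement_def, commutatorElement_def]; group
      _ = ⁅a, b⁆ := by rw [hcomm, Subgroup.mem_center_iff.1 hzc g, mul_inv_cancel_right]
  have h := congrArg (fun y => toMat y 0 0) key
  rw [toMat_psiThree hg, sigma_apply, hz.2, dec_scC hg ⟨k, hk⟩] at h
  simp only [show conjIdx (0 : F9) = 0 from by decide, Matrix.smul_apply, Matrix.one_apply_eq, smul_eq_mul,
    mul_one] at h
  rw [sqHom_scal hg (by omega)] at h
  have hlt : sqCode (k + 1) < 4 := by interval_cases k <;> decide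
  obtain ⟨h0, h1⟩ := bit_pair_injective ω hg.two hg.eqn h
  have key4 : ∀ p < 4, ∀ q < 4, (p : ℕ).testBit 0 = q.testBit 0 → p.testBit 1 = q.testBit 1 → p = q := by decide
  exact hkne (key4 _ hlt _ (by omega) h0 h1)

end Cfsg.Agent.Lib.SporMatrix.J3
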