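import Cfsg.Agent.Lib.SporMatrix.J3Centralizer
import Cfsg.Agent.Lib.SporMatrix.J3OuterAut
import Cfsg.Agent.Lib.SporMatrix.J3OutCheck
import Cfsg.Agent.Lib.OutTrivial.Basic

/-!
The outer automorphism group of J₃ has order two: an automorphism may be assumed to fix the involution t and to
send x of order 5 in its centraliser to x or x²; one fixing both is inner.
-/

set_option autoImplicit false
set_option linter.style.haveILetI false

namespace Cfsg.Agent.Lib.SporMatrix.J3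

open Cfsg.Spor Code9 J3Data J3Check J3CentData J3CentCheck J3InvData J3InvCheck J3OutData J3OutCheck

attribute [local irreducible] Code9.mul J3Check.elC

/-- The value of a word in three elements. -/
def wordValThree {M : Type*} [Monoid M] (p q r : M) : List ℕ → M
  | [] => 1
  | i :: w => (match i with | 0 => p | 1 => q | _ => r) * wordValThree p q r w

theorem map_wordValThree {M N : Type*} [Monoid M] [Monoid N] (f : M →* N) (p q r : M) :
    ∀ w, f (wordValThree p q r w) = wordValThree (f p) (f q) (f r) w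
  | [] => map_one f
  | 0 :: w => by simp [wordValThree, map_wordValThree f p q r w]
  | 1 :: w => by simp [wordValThree, map_wordValThree f p q r w]
  | (_ + 2) :: w => by simp [wordValThree, map_wordValThree f p q r w]

theorem wordValThree_mem {M : Type*} [Group M] {K : Subgroup M} {p q r : M} (hp : p ∈ K) (hq : q ∈ K)
    (hr : r ∈ K) : ∀ w, wordValThree p q r w ∈ K
  | [] => one_mem K
  | 0 :: w => mul_mem hp (wordValThree_mem hp hq hr w)
  | 1 :: w => mul_mem hq (wordValThree_mem hp hq hr w)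
  | (_ + 2) :: w => mul_mem hr (wordValThree_mem hp hq hr w)

variable {F : Type*} [Field F] [Finite F] {ω : F} (hg : Good F ω)

include hg

theorem hasCode_wordValThree {p q r : ↥(threeJ3 F ω)} {a b c : ℕ} (hp : HasCode p a) (hq : HasCode q b)
    (hr : HasCode r c) : ∀ w, HasCode (wordValThree p q r w) (wordThree a b c w)
  | [] => hasCode_one hg
  | 0 :: w => hp.mul' hg (hasCode_wordValThree hp hq hr w)
  | 1 :: w => hq.mul' hg (hasCode_wordValThree hp hq hr w)
  | (_ + 2) :: w => hr.mul' hg (hasCode_wordValThree hp hq hr w)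

theorem isScalar_iff_proj {x : ↥(threeJ3 F ω)} {c : ℕ} (hx : HasCode x c) : isScalar c = true ↔ proj x = 1 :=
  (scC_mem_center_iff hg hx).trans proj_eq_one.symm

/-- The element x of order five in the complement. -/
noncomputable def gx : ↥(threeJ3 F ω) := tabEl hg hElems xIdx

/-- The representatives of the orbits on non-central involutions of Q. -/
noncomputable def gq (l : ℕ) : ↥(threeJ3 F ω) := tabEl hg qElems (rep l)

/-- A candidate for the image of the third generator. -/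
noncomputable def gcand (l a b : ℕ) : ↥(threeJ3 F ω) :=
  ev hg (uEl l) * (tabEl hg qElems a * tabEl hg hElems b) * ev hg (vEl l)

/-- The third generator. -/
noncomputable def gy : ↥(threeJ3 F ω) := gcand hg 0 yA yB

theorem gx_code : HasCode (gx hg) xC := tabEl_code hg _ _

theorem gq_code (l : ℕ) : HasCode (gq hg l) (qRep l) := tabEl_code hg _ _

theorem gcand_code (l a b : ℕ) : HasCode (gcand hg l a b) (candC l a b) :=
  ((ev_code hg _).mul' hg ((tabEl_code hg _ _).mul' hg (tabEl_code hg _ _))).mul' hg (ev_code hg _)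

theorem gy_code : HasCode (gy hg) yC := gcand_code hg _ _ _

theorem conj_spec_rep {l : ℕ} (hl : l < 2) :
    rep l ∈ qInvs ∧ ev hg (vEl l) = (ev hg (uEl l))⁻¹ ∧
      ev hg (uEl l) * tt hg * (ev hg (uEl l))⁻¹ = gq hg l := by
  have h := List.all_eq_true.1 uConj_ok l (List.mem_range.2 hl)
  simp only [Bool.and_eq_true, List.contains_iff_mem] at h
  have hi : ev hg (vEl l) = (ev hg (uEl l))⁻¹ := by
    refine eq_inv_of_mul_eq_one_right (HasCode.ext ((ev_code hg _).mul' hg (ev_code hg _)) ?_)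
    rw [Nat.eq_of_beq_eq_true h.1.2]
    exact hasCode_one hg
  refine ⟨h.1.1, hi, ?_⟩
  rw [← hi]
  refine HasCode.ext (((ev_code hg _).mul' hg (tt_code hg)).mul' hg (ev_code hg _)) ?_
  rw [Nat.eq_of_beq_eq_true h.2]
  exact gq_code hg l

theorem closure_gens :
    Subgroup.closure ({proj (gx hg), proj (gq hg 0), proj (gy hg)} : Set (Cfsg.Spor.J3 F ω)) = ⊤ := by
  set K := Subgroup.closure ({proj (gx hg), proj (gq hg 0), proj (gy hg)} : Set (Cfsg.Spor.J3 F ω)) with hK
  have hgen : ∀ k < 5, ∃ y : ↥(threeJ3 F ω), proj y ∈ K ∧ toMat y = dec ω (target k) := by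
    intro k hk
    have h := List.all_eq_true.1 words_ok k (List.mem_range.2 hk)
    simp only [List.any_eq_true, List.mem_range] at h
    obtain ⟨s, hs, h⟩ := h
    obtain ⟨z, hz⟩ : ∃ z : ↥(threeJ3 F ω), HasCode z (scC s) := exists_el hg _
    have hzc := mem_center_of_scC hg hs hz
    set w := wordValThree (gx hg) (gq hg 0) (gy hg) (genWords.getD k [])
    refine ⟨w * z⁻¹, ?_, ?_⟩
    · rw [map_mul, proj_eq_one.2 (inv_mem hzc), mul_one, map_wordValThree]
      exact wordValThree_mem (Subgroup.subset_closure (by simp)) (Subgroup.subset_closure (by simp))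
        (Subgroup.subset_closure (by simp)) _
    · have hw := hasCode_wordValThree hg (gx_code hg) (gq_code hg 0) (gy_code hg) (genWords.getD k [])
      have hok : ok (target k) = true := by
        rcases k with _ | j
        · exact ok_tables.1
        · exact ok_tables.2.1 j
      have e : toMat w = dec ω (target k) * toMat z := by
        rw [hw.2, Nat.eq_of_beq_eq_true h, dmul hg hok, hz.2]
      rw [map_mul, e, mul_assoc, ← map_mul, mul_inv_cancel, map_one, mul_one]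
  rw [eq_top_iff]
  rintro g -
  obtain ⟨g, rfl⟩ := proj_surjective g
  have hmem : toMat g ∈ Submonoid.closure (insert (dec ω codeT) {m | ∃ j < 4, m = dec ω (gC j)}) :=
    mgrp_eq hg ▸ toMat_mem hg g
  suffices ∀ m ∈ Submonoid.closure (insert (dec ω codeT) {m | ∃ j < 4, m = dec ω (gC j)}),
      ∃ y : ↥(threeJ3 F ω), proj y ∈ K ∧ toMat y = m by
    obtain ⟨y, hy, hyg⟩ := this _ hmem
    rwa [← toMat_injective hyg]
  intro m hm
  induction hm using Submonoid.closure_induction with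
  | mem y hy =>
    rcases hy with rfl | ⟨j, hj, rfl⟩
    · exact hgen 0 (by norm_num)
    · exact hgen (j + 1) (by omega)
  | one => exact ⟨1, by rw [map_one]; exact one_mem K, map_one _⟩
  | mul a b _ _ ha hb =>
    obtain ⟨x, hx, rfl⟩ := ha
    obtain ⟨y, hy, rfl⟩ := hb
    exact ⟨x * y, by rw [map_mul]; exact mul_mem hx hy, map_mul _ _ _⟩

theorem qInvs_of {q : ↥(threeJ3 F ω)} (hq : q ∈ qSub hg) (h2 : q * q = 1) (h1 : q ≠ 1) (ht : q ≠ tt hg) :
    ∃ i ∈ qInvs, q = tabEl hg qElems i := by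
  obtain ⟨i, hi, rfl⟩ := (mem_qSub hg).1 hq
  refine ⟨i, List.mem_filter.2 ⟨List.mem_range.2 hi, ?_⟩, rfl⟩
  simp only [Bool.and_eq_true, Bool.not_eq_true']
  refine ⟨⟨?_, ?_⟩, ?_⟩
  · rcases h : Nat.beq i 0 with _ | _
    · rfl
    · exact absurd (by rw [Nat.eq_of_beq_eq_true h, tabEl_zero_q hg]) h1
  · rcases h : Nat.beq i tIdx with _ | _
    · rfl
    · exact absurd (by rw [Nat.eq_of_beq_eq_true h, tabEl_tIdx hg]) ht
  · rw [HasCode.code_eq hg ((tabEl_code hg qElems i).mul' hg (tabEl_code hg qElems i))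
      (by rw [h2]; exact hasCode_one hg), Nat.beq_refl]

theorem qInvs_spec {i : ℕ} (hi : i ∈ qInvs) :
    tabEl hg qElems i ∈ qSub hg ∧ tabEl hg qElems i * tabEl hg qElems i = 1 ∧
      tabEl hg qElems i ≠ 1 ∧ tabEl hg qElems i ≠ tt hg := by
  simp only [qInvs, List.mem_filter, List.mem_range, Bool.and_eq_true, Bool.not_eq_true'] at hi
  obtain ⟨hlt, ⟨h0, ht⟩, h2⟩ := hi
  have hnd : ∀ a < 32, ∀ b < 32, tabEl hg qElems a = tabEl hg qElems b → a = b := by
    intro a ha b hb hab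
    let f : Fin 32 → qSub hg := fun i => ⟨tabEl hg qElems i, (mem_qSub hg).2 ⟨i, i.2, rfl⟩⟩
    have hs : Function.Surjective f := fun x => by
      obtain ⟨i, hi, he⟩ := (mem_qSub hg).1 x.2
      exact ⟨⟨i, hi⟩, Subtype.ext he.symm⟩
    have hb' := (Nat.bijective_iff_surjective_and_card f).2 ⟨hs, by rw [card_qSub hg, Nat.card_fin]⟩
    exact congrArg Fin.val (hb'.1 (a₁ := ⟨a, ha⟩) (a₂ := ⟨b, hb⟩) (Subtype.ext hab))
  refine ⟨(mem_qSub hg).2 ⟨i, hlt, rfl⟩,
    HasCode.ext ((tabEl_code hg _ _).mul' hg (tabEl_code hg _ _))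
      (by rw [Nat.eq_of_beq_eq_true h2]; exact hasCode_one hg), fun h => ?_, fun h => ?_⟩
  · rw [hnd i hlt 0 (by norm_num) (h.trans (tabEl_zero_q hg).symm), Nat.beq_refl] at h0
    exact absurd h0 (by simp)
  · rw [hnd i hlt tIdx tIdx_ok.1 (h.trans (tabEl_tIdx hg).symm), Nat.beq_refl] at ht
    exact absurd ht (by simp)

theorem gx_mem : gx hg ∈ hSub hg := (mem_hSub hg).2 ⟨_, x_ok.1, rfl⟩

theorem proj_eq_of_mem {a b : ↥(threeJ3 F ω)} (ha : a ∈ cSub hg) (hb : b ∈ cSub hg) (h : proj a = proj b) :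
    a = b :=
  inv_mul_eq_one.1 (center_inf_cSub hg (proj_eq_one.1 (by rw [map_mul, map_inv, h, inv_mul_cancel]))
    (mul_mem (inv_mem ha) hb))

/-- An automorphism fixing t maps the image of Q into itself. -/
theorem map_qSub_le (φ : MulAut (Cfsg.Spor.J3 F ω)) (hT : φ (tBar hg) = tBar hg) {q : ↥(threeJ3 F ω)}
    (hq : q ∈ qSub hg) : ∃ q' ∈ qSub hg, φ (proj q) = proj q' := by
  set C := Subgroup.centralizer ({tBar hg} : Set (Cfsg.Spor.J3 F ω)) with hC
  have hmap : C.map φ.toMonoidHom = C := by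
    ext y
    rw [Subgroup.mem_map_equiv, hC, Subgroup.mem_centralizer_singleton_iff, Subgroup.mem_centralizer_singleton_iff,
      ← φ.injective.eq_iff, map_mul, map_mul, MulEquiv.apply_symm_apply, hT]
  let φC : ↥C ≃* ↥C := (φ.subgroupMap C).trans (MulEquiv.subgroupCongr hmap)
  haveI := qBar_normal hg
  haveI : Fact (Nat.Prime 2) := ⟨Nat.prime_two⟩
  have hRn : ((qBar hg).map φC.toMonoidHom).Normal := (qBar_normal hg).map _ φC.surjective
  set π := QuotientGroup.mk' (qBar hg)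
  have hIn : (((qBar hg).map φC.toMonoidHom).map π).Normal := hRn.map _ (QuotientGroup.mk'_surjective _)
  obtain ⟨e⟩ := hSub_equiv hg
  let eq' : (↥C ⧸ qBar hg) ≃* ↥(alternatingGroup (Fin 5)) :=
    ((qBar_complement hg).symm.QuotientMulEquiv.trans (hBarEquiv hg)).trans e
  haveI := alternatingGroup.isSimpleGroup (α := Fin 5) (Nat.card_fin 5).ge
  haveI : IsSimpleGroup (↥C ⧸ qBar hg) := eq'.isSimpleGroup
  have hbot : ((qBar hg).map φC.toMonoidHom).map π = ⊥ := by
    refine hIn.eq_bot_or_eq_top.resolve_right fun htop => ?_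
    have h1 := (Subgroup.card_map_dvd ((qBar hg).map φC.toMonoidHom) π).trans
      (Subgroup.card_map_dvd (qBar hg) φC.toMonoidHom)
    rw [htop, Subgroup.card_top, card_qBar hg, Nat.card_congr ((qBar_complement hg).symm.QuotientMulEquiv.trans
      (hBarEquiv hg)).toEquiv, card_hSub hg] at h1
    norm_num at h1
  rw [Subgroup.map_eq_bot_iff, QuotientGroup.ker_mk'] at hbot
  let qC : ↥C := cHom hg ⟨q, qSub_le_cSub hg hq⟩
  have hmem : φC qC ∈ qBar hg := hbot ⟨qC, ⟨_, hq, rfl⟩, rfl⟩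
  obtain ⟨c, hc, hce⟩ := hmem
  exact ⟨c, hc, (congrArg Subtype.val hce).symm⟩

/-- An automorphism fixing t and x is inner. -/
theorem inner_of_fix (φ : MulAut (Cfsg.Spor.J3 F ω)) (hT : φ (tBar hg) = tBar hg)
    (hx : φ (proj (gx hg)) = proj (gx hg)) : φ ∈ Cfsg.Inn (Cfsg.Spor.J3 F ω) := by
  have h02 : (0 : ℕ) < 2 := by norm_num
  obtain ⟨hq0, hq0s, hq01, hq0t⟩ := qInvs_spec hg (conj_spec_rep hg h02).1
  obtain ⟨q', hq', hq'e⟩ := map_qSub_le hg φ hT hq0
  have hq'2 : q' * q' = 1 := by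
    refine proj_eq_of_mem hg (qSub_le_cSub hg (mul_mem hq' hq')) (one_mem _) ?_
    rw [map_mul, ← hq'e, ← map_mul φ, ← map_mul proj, hq0s, map_one, map_one]
  have hq'1 : q' ≠ 1 := fun h => hq01 (proj_eq_of_mem hg (qSub_le_cSub hg hq0) (one_mem _)
    (φ.injective (by rw [hq'e, h, map_one, map_one])))
  have hq't : q' ≠ tt hg := fun h => hq0t (proj_eq_of_mem hg (qSub_le_cSub hg hq0)
    (qSub_le_cSub hg (tt_mem_qSub hg)) (φ.injective (by rw [hq'e, h, ← tBar, hT])))
  obtain ⟨j, hj, rfl⟩ := qInvs_of hg hq' hq'2 hq'1 hq't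
  have ho := List.all_eq_true.1 orbit_ok j hj
  simp only [List.any_eq_true, List.mem_range] at ho
  obtain ⟨k, -, l, hl, ho⟩ := ho
  have horb : gx hg ^ k * tabEl hg qElems j = gq hg l * gx hg ^ k :=
    HasCode.ext (((gx_code hg).pow' hg k).mul' hg (tabEl_code hg _ _))
      (by rw [Nat.eq_of_beq_eq_true ho]; exact (gq_code hg l).mul' hg ((gx_code hg).pow' hg k))
  set φ₁ : MulAut (Cfsg.Spor.J3 F ω) := MulAut.conj (proj (gx hg) ^ k) * φ with hφ₁
  suffices φ₁ ∈ Cfsg.Inn (Cfsg.Spor.J3 F ω) by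
    have h := mul_mem (inv_mem ((⟨_, rfl⟩ : MulAut.conj (proj (gx hg) ^ k) ∈ Cfsg.Inn (Cfsg.Spor.J3 F ω)))) this
    rwa [hφ₁, inv_mul_cancel_left] at h
  have hφ₁v : ∀ a, φ₁ a = proj (gx hg) ^ k * φ a * (proj (gx hg) ^ k)⁻¹ := fun a => rfl
  have hxt : Commute (proj (gx hg)) (tBar hg) := by
    show _ = _
    rw [tBar, ← map_mul, ← map_mul, cSub_comm hg (hSub_le_cSub hg (gx_mem hg))]
  have h1T : φ₁ (tBar hg) = tBar hg := by rw [hφ₁v, hT, (hxt.pow_left k).eq, mul_inv_cancel_right]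
  have h1x : φ₁ (proj (gx hg)) = proj (gx hg) := by
    rw [hφ₁v, hx, ← (Commute.self_pow (proj (gx hg)) k).eq, mul_inv_cancel_right]
  have h1q : φ₁ (proj (gq hg 0)) = proj (gq hg l) := by
    rw [hφ₁v, show φ (proj (gq hg 0)) = _ from hq'e, ← map_pow, ← map_mul, horb, map_mul, mul_inv_cancel_right]
  clear hT hx hq'e hφ₁v horb hφ₁
  -- the image of the third generator
  obtain ⟨-, hv0, hu0⟩ := conj_spec_rep hg h02
  obtain ⟨-, hvl, hul⟩ := conj_spec_rep hg hl
  have hy2 : gy hg * gy hg = 1 :=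
    HasCode.ext ((gy_code hg).mul' hg (gy_code hg)) (by rw [y_ok.2.2]; exact hasCode_one hg)
  have hyq : gy hg * gq hg 0 = gq hg 0 * gy hg := by
    have hc : tabEl hg qElems yA * tabEl hg hElems yB ∈ cSub hg :=
      mul_mem (qSub_le_cSub hg ((mem_qSub hg).2 ⟨_, y_ok.1, rfl⟩))
        (hSub_le_cSub hg ((mem_hSub hg).2 ⟨_, y_ok.2.1, rfl⟩))
    rw [← hu0, gy, gcand, hv0]
    calc _ = ev hg (uEl 0) * (tabEl hg qElems yA * tabEl hg hElems yB * tt hg) * (ev hg (uEl 0))⁻¹ := by group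
      _ = ev hg (uEl 0) * (tt hg * (tabEl hg qElems yA * tabEl hg hElems yB)) * (ev hg (uEl 0))⁻¹ := by
        rw [cSub_comm hg hc]
      _ = _ := by group
  set u := proj (ev hg (uEl l))
  set Y := φ₁ (proj (gy hg))
  have hYq : Y * proj (gq hg l) = proj (gq hg l) * Y := by
    rw [← h1q, ← map_mul φ₁, ← map_mul φ₁, ← map_mul proj, ← map_mul proj, hyq]
  have hqu : proj (gq hg l) = u * tBar hg * u⁻¹ := by rw [← hul, map_mul, map_mul, map_inv]; rfl
  have hYc : u⁻¹ * Y * u ∈ Subgroup.centralizer ({tBar hg} : Set (Cfsg.Spor.J3 F ω)) := by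
    rw [Subgroup.mem_centralizer_singleton_iff]
    rw [hqu] at hYq
    calc u⁻¹ * Y * u * tBar hg = u⁻¹ * (Y * (u * tBar hg * u⁻¹)) * u := by group
      _ = u⁻¹ * (u * tBar hg * u⁻¹ * Y) * u := by rw [hYq]
      _ = _ := by group
  obtain ⟨c, hc, hce⟩ := (mem_centralizer_iff hg).1 hYc
  have hc2 : c * c = 1 := by
    refine proj_eq_of_mem hg (mul_mem hc hc) (one_mem _) ?_
    rw [map_mul, hce, map_one]
    calc u⁻¹ * Y * u * (u⁻¹ * Y * u) = u⁻¹ * (Y * Y) * u := by group
      _ = 1 := by rw [← map_mul φ₁, ← map_mul proj, hy2, map_one, map_one, mul_one, inv_mul_cancel]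
  obtain ⟨q, hq, h, hh, rfl⟩ := hc
  obtain ⟨a, ha, rfl⟩ := (mem_qSub hg).1 hq
  obtain ⟨b, hb, rfl⟩ := (mem_hSub hg).1 hh
  have hYe : Y = proj (gcand hg l a b) := by
    rw [gcand, hvl, map_mul, map_mul (proj (F := F) (ω := ω)), map_inv, hce]
    show Y = u * (u⁻¹ * Y * u) * u⁻¹
    group
  have hb2 : tabEl hg hElems b * tabEl hg hElems b = 1 := by
    set h := tabEl hg hElems b
    set q := tabEl hg qElems a
    refine q_inf_h hg ?_ (mul_mem hh hh)
    have e : h * h = h * q⁻¹ * h⁻¹ * q⁻¹ := by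
      calc h * h = h * q⁻¹ * h⁻¹ * q⁻¹ * ((q * h * (q * h))⁻¹)⁻¹ * 1 := by group
        _ = _ := by rw [hc2]; group
    rw [e]
    exact mul_mem (hSub_normalizes hg hh _ (inv_mem hq)) (inv_mem hq)
  have hck := List.all_eq_true.1 (List.all_eq_true.1 cands_ok l (List.mem_range.2 hl)) b (List.mem_range.2 hb)
  simp only [Bool.or_eq_true, Bool.not_eq_true', List.all_eq_true, List.mem_range, Bool.and_eq_true,
    List.any_eq_true] at hck
  rw [HasCode.code_eq hg ((tabEl_code hg hElems b).mul' hg (tabEl_code hg hElems b))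
    (by rw [hb2]; exact hasCode_one hg), Nat.beq_refl] at hck
  have hck' := (hck.resolve_left (by simp)) a ha
  rw [HasCode.code_eq hg (((tabEl_code hg qElems a).mul' hg (tabEl_code hg hElems b)).mul' hg
    ((tabEl_code hg qElems a).mul' hg (tabEl_code hg hElems b))) (by rw [hc2]; exact hasCode_one hg),
    Nat.beq_refl] at hck'
  have hgy2 : proj (gy hg) * proj (gy hg) = 1 := by rw [← map_mul, hy2, map_one]
  rcases hck' with (hbad | ⟨hl0, hacc⟩) | ⟨wn, hwn, hrej⟩
  · simp at hbad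
  · -- accepted: φ₁ is conjugation by 1 or t
    have hl0' : l = 0 := Nat.eq_of_beq_eq_true hl0
    subst hl0'
    have fin : ∀ g : Cfsg.Spor.J3 F ω, g * proj (gx hg) * g⁻¹ = proj (gx hg) →
        g * proj (gq hg 0) * g⁻¹ = proj (gq hg 0) → g * proj (gy hg) * g⁻¹ = Y → φ₁ ∈ Cfsg.Inn _ := by
      intro g e1 e2 e3
      refine ⟨g, MulEquiv.ext fun z => DFunLike.congr_fun
        (MonoidHom.eq_of_eqOn_dense (closure_gens hg) (f := (MulAut.conj g).toMonoidHom)
          (g := φ₁.toMonoidHom) ?_) z⟩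
      rintro z (rfl | rfl | rfl)
      · show g * proj (gx hg) * g⁻¹ = φ₁ _
        rw [e1, h1x]
      · show g * proj (gq hg 0) * g⁻¹ = φ₁ _
        rw [e2, h1q]
      · exact e3
    rcases hacc with hacc | hacc
    · have h := (isScalar_iff_proj hg ((gcand_code hg 0 a b).mul' hg (gy_code hg))).1 hacc
      rw [map_mul, ← hYe] at h
      refine fin 1 (by simp) (by simp) ?_
      rw [one_mul, inv_one, mul_one, eq_inv_of_mul_eq_one_left h]
      exact eq_inv_of_mul_eq_one_left hgy2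
    · have h := (isScalar_iff_proj hg ((gcand_code hg 0 a b).mul' hg
        (((tt_code hg).mul' hg (gy_code hg)).mul' hg (tt_code hg)))).1 hacc
      rw [map_mul, ← hYe, map_mul, map_mul, ← tBar] at h
      have hT2 : tBar hg * tBar hg = 1 := by rw [tBar, ← map_mul, tt_mul_self hg, map_one]
      have hTi : (tBar hg)⁻¹ = tBar hg := inv_eq_of_mul_eq_one_right hT2
      refine fin (tBar hg) ?_ ?_ ?_
      · rw [← hxt.eq, mul_inv_cancel_right]
      · rw [tBar, ← map_inv, ← map_mul, ← map_mul, show tt hg * gq hg 0 = gq hg 0 * tt hg from (cSub_comm hg (qSub_le_cSub hg hq0)).symm, mul_inv_cancel_right]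
      · rw [eq_inv_of_mul_eq_one_left h, hTi, mul_inv_rev, mul_inv_rev, hTi,
          inv_eq_of_mul_eq_one_right hgy2, mul_assoc]
  · -- rejected: a relation fails
    exfalso
    have ho := (isScalar_iff_proj hg ((hasCode_wordValThree hg (gx_code hg) (gq_code hg 0) (gy_code hg) wn.1).pow'
      hg wn.2)).1 (List.all_eq_true.1 rels_ok wn hwn)
    have h' : proj (wordValThree (gx hg) (gq hg l) (gcand hg l a b) wn.1 ^ wn.2) = 1 := by
      rw [map_pow, map_wordValThree, ← hYe, ← h1q]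
      have h2 := congrArg φ₁ ho
      rw [map_pow, map_wordValThree, map_pow, map_one,
        show φ₁ (wordValThree _ _ _ wn.1) = _ from map_wordValThree φ₁.toMonoidHom _ _ _ wn.1] at h2
      simpa [MulEquiv.coe_toMonoidHom, h1x] using h2
    have := (isScalar_iff_proj hg ((hasCode_wordValThree hg (gx_code hg) (gq_code hg l) (gcand_code hg l a b)
      wn.1).pow' hg wn.2)).2 h'
    rw [relC, this] at hrej
    exact absurd hrej (by simp)

theorem orderOf_proj_gx : orderOf (proj (gx hg)) = 5 := by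
  haveI : Fact (Nat.Prime 5) := ⟨by norm_num⟩
  have h5 : gx hg ^ 5 = 1 := HasCode.ext ((gx_code hg).pow' hg 5) (by rw [x_ok.2.2.1]; exact hasCode_one hg)
  refine orderOf_eq_prime (by rw [← map_pow, h5, map_one]) fun h => ?_
  have h1 : gx hg = 1 := proj_eq_of_mem hg (hSub_le_cSub hg (gx_mem hg)) (one_mem _) (by rw [h, map_one])
  have h2 := x_ok.2.2.2.1
  rw [HasCode.code_eq hg (gx_code hg) (h1 ▸ hasCode_one hg), Nat.beq_refl] at h2
  exact absurd h2 (by simp)

/-- Normal form of an automorphism. -/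
theorem normal_form (φ : MulAut (Cfsg.Spor.J3 F ω)) : ∃ g : Cfsg.Spor.J3 F ω,
    (MulAut.conj g * φ) (tBar hg) = tBar hg ∧
      ((MulAut.conj g * φ) (proj (gx hg)) = proj (gx hg) ∨
        (MulAut.conj g * φ) (proj (gx hg)) = proj (gx hg) ^ 2) := by
  haveI : Fact (Nat.Prime 5) := ⟨by norm_num⟩
  obtain ⟨g₁, hg₁⟩ := isConj_iff.1 (isConj_of_involutions hg
    (show orderOf (φ (tBar hg)) = 2 by rw [MulEquiv.orderOf_eq, orderOf_tBar hg]) (orderOf_tBar hg))
  set C := Subgroup.centralizer ({tBar hg} : Set (Cfsg.Spor.J3 F ω))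
  set px := proj (gx hg)
  have hxC : px ∈ C := (mem_centralizer_iff hg).2 ⟨_, hSub_le_cSub hg (gx_mem hg), rfl⟩
  have hyC : g₁ * φ px * g₁⁻¹ ∈ C := by
    rw [Subgroup.mem_centralizer_singleton_iff]
    have := congrArg φ (Subgroup.mem_centralizer_singleton_iff.1 hxC)
    rw [map_mul, map_mul] at this
    conv_lhs => rw [← hg₁]
    conv_rhs => rw [← hg₁]
    calc _ = g₁ * (φ px * φ (tBar hg)) * g₁⁻¹ := by group
      _ = g₁ * (φ (tBar hg) * φ px) * g₁⁻¹ := by rw [this]
      _ = _ := by group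
  have hox : orderOf (⟨px, hxC⟩ : C) = 5 := by rw [Subgroup.orderOf_mk, orderOf_proj_gx hg]
  have hidx : ¬ 5 ∣ (Subgroup.zpowers (⟨px, hxC⟩ : C)).index := by
    intro h
    have h2 : 5 * 5 ∣ Nat.card C := by
      rw [← (Subgroup.zpowers (⟨px, hxC⟩ : C)).card_mul_index, Nat.card_zpowers, hox]
      exact Nat.mul_dvd_mul_left 5 h
    rw [card_centralizer hg] at h2
    norm_num at h2
  have hoy : orderOf (⟨g₁ * φ px * g₁⁻¹, hyC⟩ : C) = 5 := by
    rw [Subgroup.orderOf_mk]
    rw [← orderOf_proj_gx hg, ← MulEquiv.orderOf_eq φ px]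
    exact MulEquiv.orderOf_eq (MulAut.conj g₁) _
  obtain ⟨g₂, hg₂⟩ := OutTrivial.exists_conj_mem _ hidx hoy
  obtain ⟨m, hm⟩ := (Submonoid.mem_powers_iff _ _).1 (mem_powers_iff_mem_zpowers.2 hg₂)
  have hm' : px ^ (m % 5) = (g₂ : Cfsg.Spor.J3 F ω)⁻¹ * (g₁ * φ px * g₁⁻¹) * g₂ := by
    have := congrArg Subtype.val hm
    rw [← orderOf_proj_gx hg, pow_mod_orderOf]
    simpa using this
  have hg₂T : (g₂ : Cfsg.Spor.J3 F ω)⁻¹ * tBar hg * g₂ = tBar hg := by
    rw [mul_assoc, ← Subgroup.mem_centralizer_singleton_iff.1 g₂.2, inv_mul_cancel_left]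
  -- n inverts x
  set n := proj (tabEl hg hElems nIdx)
  have hn : px * n * px = n := by
    rw [← map_mul, ← map_mul]
    congr 1
    exact HasCode.ext (((gx_code hg).mul' hg (tabEl_code hg _ _)).mul' hg (gx_code hg))
      (by rw [x_ok.2.2.2.2]; exact tabEl_code hg _ _)
  have hnT : n * tBar hg * n⁻¹ = tBar hg := by
    have : n ∈ C := (mem_centralizer_iff hg).2 ⟨_, hSub_le_cSub hg ((mem_hSub hg).2 ⟨_, x_ok.2.1, rfl⟩), rfl⟩
    rw [Subgroup.mem_centralizer_singleton_iff.1 this, mul_inv_cancel_right]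
  have hninv : n * px * n⁻¹ = px⁻¹ := by
    refine eq_inv_of_mul_eq_one_right ?_
    calc px * (n * px * n⁻¹) = px * n * px * n⁻¹ := by group
      _ = 1 := by rw [hn, mul_inv_cancel]
  have hval : ∀ h a, (MulAut.conj h * φ) a = h * φ a * h⁻¹ := fun _ _ => rfl
  have h5 : px ^ 5 = 1 := by
    have := pow_orderOf_eq_one px
    rwa [orderOf_proj_gx hg] at this
  have e1 : (MulAut.conj ((g₂ : Cfsg.Spor.J3 F ω)⁻¹ * g₁) * φ) (tBar hg) = tBar hg := by
    rw [hval]
    calc _ = (g₂ : Cfsg.Spor.J3 F ω)⁻¹ * (g₁ * φ (tBar hg) * g₁⁻¹) * g₂ := by group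
      _ = _ := by rw [hg₁, hg₂T]
  have e2 : (MulAut.conj ((g₂ : Cfsg.Spor.J3 F ω)⁻¹ * g₁) * φ) px = px ^ (m % 5) := by
    rw [hval, hm']; group
  have f1 : (MulAut.conj (n * ((g₂ : Cfsg.Spor.J3 F ω)⁻¹ * g₁)) * φ) (tBar hg) = tBar hg := by
    rw [map_mul, mul_assoc, MulAut.mul_apply, e1]
    exact hnT
  have f2 : (MulAut.conj (n * ((g₂ : Cfsg.Spor.J3 F ω)⁻¹ * g₁)) * φ) px = (px ^ (m % 5))⁻¹ := by
    rw [map_mul, mul_assoc, MulAut.mul_apply, e2, map_pow, MulAut.conj_apply, hninv, inv_pow]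
  have hm0 : m % 5 ≠ 0 := by
    intro h0
    rw [h0, pow_zero] at e2
    have : px = 1 := (MulEquiv.injective _) (e2.trans (map_one _).symm)
    have ho := orderOf_proj_gx hg
    rw [show proj (gx hg) = 1 from this, orderOf_one] at ho
    norm_num at ho
  have hlt : m % 5 < 5 := Nat.mod_lt _ (by norm_num)
  interval_cases hh : m % 5
  · exact absurd rfl hm0
  · exact ⟨_, e1, Or.inl (e2.trans (pow_one px))⟩
  · exact ⟨_, e1, Or.inr e2⟩
  · refine ⟨_, f1, Or.inr (f2.trans (inv_eq_of_mul_eq_one_right ?_))⟩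
    rw [← pow_add]; exact h5
  · refine ⟨_, f1, Or.inl (f2.trans (inv_eq_of_mul_eq_one_right ?_))⟩
    rw [← pow_succ]; exact h5

/-- The outer automorphism group of J₃ has order two. -/
theorem card_out : Nat.card (Cfsg.Out (Cfsg.Spor.J3 F ω)) = 2 := by
  set N := Cfsg.Inn (Cfsg.Spor.J3 F ω)
  obtain ⟨g₀, hT₀, hx₀⟩ := normal_form hg (psi hg)
  set ψ := MulAut.conj g₀ * psi hg
  have hψ : ψ ∉ N := fun h => psi_not_inner hg (by
    have h2 := mul_mem (inv_mem ((⟨g₀, rfl⟩ : MulAut.conj g₀ ∈ N))) h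
    rwa [inv_mul_cancel_left] at h2)
  have hx₂ : ψ (proj (gx hg)) = proj (gx hg) ^ 2 :=
    hx₀.resolve_left fun h => hψ (inner_of_fix hg ψ hT₀ h)
  rw [Nat.card_eq_two_iff]
  refine ⟨QuotientGroup.mk 1, QuotientGroup.mk ψ, fun h => hψ ?_, ?_⟩
  · rw [QuotientGroup.eq, inv_one, one_mul] at h
    exact h
  · refine Set.eq_univ_of_forall fun a => ?_
    obtain ⟨φ, rfl⟩ := QuotientGroup.mk_surjective a
    obtain ⟨g, hT, hx⟩ := normal_form hg φ
    have hcl : (QuotientGroup.mk φ : Cfsg.Out (Cfsg.Spor.J3 F ω)) = QuotientGroup.mk (MulAut.conj g * φ) := by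
      rw [QuotientGroup.eq]
      have := Cfsg.innNormal (Cfsg.Spor.J3 F ω) |>.conj_mem _ (⟨g, rfl⟩ : MulAut.conj g ∈ N) φ⁻¹
      rwa [inv_inv, mul_assoc] at this
    rcases hx with hx | hx
    · refine Or.inl ?_
      rw [hcl, QuotientGroup.eq, mul_one]
      exact inv_mem (inner_of_fix hg _ hT hx)
    · refine Or.inr ?_
      show _ = _
      rw [hcl, QuotientGroup.eq]
      have hinv : ∀ a b, ψ a = b → ψ⁻¹ b = a := fun a b h => by
        rw [← h]; exact ψ.symm_apply_apply a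
      have hi := inner_of_fix hg (ψ⁻¹ * (MulAut.conj g * φ))
        (by rw [MulAut.mul_apply, hT]; exact hinv _ _ hT₀)
        (by rw [MulAut.mul_apply, hx]; exact hinv _ _ hx₂)
      have := inv_mem hi
      rwa [mul_inv_rev, inv_inv] at this

end Cfsg.Agent.Lib.SporMatrix.J3
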