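import Cfsg.Agent.Lib.SporMatrix.J3

/-!
3·J₃ preserves the standard Hermitian form and has determinant one.
-/

set_option autoImplicit false

namespace Cfsg.Agent.Lib.SporMatrix.J3

open Cfsg.Spor Code9 J3Data J3Check Matrix

/-- Conjugation on coefficient pairs. -/
def conjC (e : ℕ) : ℕ := if e = 2 then 3 else if e = 3 then 2 else e

theorem herm_T : ∀ w z : F9, entry codeT w z = conjC (entry codeT z w) := by decide +kernel

theorem herm_gens : ∀ j < 4, ∀ w z : F9, entry (powC (gC j) 71) w z = conjC (entry (gC j) z w) := by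
  decide +kernel

theorem entry_lt (c : ℕ) (w z : F9) : entry c w z < 4 := by
  have : ∀ a b : ℕ, a < 2 → b < 2 → a + 2 * b < 4 := fun a b _ _ => by omega
  rw [entry]
  refine this _ _ ?_ ?_ <;>
    · rw [Code9.land_one]; exact Nat.mod_lt _ (by norm_num)

variable {F : Type*} [Field F] {ω : F}

section

variable (hg : Good F ω)

include hg

theorem charP_two : CharP F 2 := CharTwo.of_one_ne_zero_of_two_eq_zero one_ne_zero hg.two

theorem scal_conjC {e : ℕ} (he : e < 4) : scal ω (conjC e) = (scal ω e : F) ^ 2 := by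
  interval_cases e
  · simp [conjC, scal_zero]
  · simp [conjC, scal_one]
  · simp [conjC, scal_three hg, scal_two]
  · rw [show conjC 3 = 2 from rfl, scal_two, scal_three hg]
    linear_combination (-ω * (ω - 1)) * hg.eqn

/-- The unitary condition. -/
def IsUnitary (m : Matrix F9 F9 F) : Prop := mᵀ.map (· ^ 2) * m = 1

theorem isUnitary_of_code {c c' : ℕ} (hc' : ok c' = true) (h : mul c' c = Code9.one)
    (hh : ∀ w z : F9, entry c' w z = conjC (entry c z w)) : IsUnitary (dec ω c) := by
  have hd : (dec ω c)ᵀ.map (· ^ 2) = dec ω c' := by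
    ext w z
    rw [Matrix.map_apply, Matrix.transpose_apply, dec_entry, dec_entry, hh, scal_conjC hg (entry_lt _ _ _)]
  rw [IsUnitary, hd, ← dmul hg hc', h, dec_one]

theorem isUnitary_one : IsUnitary (1 : Matrix F9 F9 F) := by
  rw [IsUnitary, transpose_one, Matrix.map_one (f := fun z : F => z ^ 2) (zero_pow (by norm_num)) (one_pow _), one_mul]

theorem IsUnitary.mul' {a b : Matrix F9 F9 F} (ha : IsUnitary a) (hb : IsUnitary b) : IsUnitary (a * b) := by
  haveI := charP_two hg
  have hm : (a * b)ᵀ.map (· ^ 2) = bᵀ.map (· ^ 2) * aᵀ.map (· ^ 2) := by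
    rw [transpose_mul]
    ext i j
    simp [Matrix.mul_apply, CharTwo.sum_sq, mul_pow]
  rw [IsUnitary, hm, Matrix.mul_assoc, ← Matrix.mul_assoc (aᵀ.map _), ha, one_mul, hb]

theorem isUnitary_toMat [Finite F] (x : ↥(threeJ3 F ω)) : IsUnitary (toMat x) := by
  have h := toMat_mem hg x
  rw [mgrp_eq hg] at h
  suffices ∀ m ∈ Submonoid.closure (insert (dec ω codeT) {m | ∃ j < 4, m = dec ω (gC j)}), IsUnitary m from
    this _ h
  intro m hm
  induction hm using Submonoid.closure_induction with
  | mem y hy =>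
    rcases hy with rfl | ⟨j, hj, rfl⟩
    · exact isUnitary_of_code hg ok_tables.1 starts.2.2.2.2 herm_T
    · refine isUnitary_of_code hg (ok_powC hg (ok_tables.2.1 j) _) ?_ (herm_gens j hj)
      refine dec_injective ω hg.two hg.eqn (okMul hg (ok_powC hg (ok_tables.2.1 j) _) (ok_tables.2.1 j))
        ok_one ?_
      rw [dmul hg (ok_powC hg (ok_tables.2.1 j) _), dec_powC hg (ok_tables.2.1 j), ← pow_succ,
        ← dec_powC hg (ok_tables.2.1 j), gens_pow j hj]
  | one => exact isUnitary_one hg
  | mul a b _ _ ha hb => exact IsUnitary.mul' hg ha hb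

/-- The determinant, as a homomorphism. -/
theorem det_toMat [Finite F] (x : ↥(threeJ3 F ω)) : (toMat x).det = 1 := by
  let K : Subgroup ↥(threeJ3 F ω) :=
    { carrier := {y | (toMat y).det = 1}
      one_mem' := by simp only [Set.mem_setOf_eq, map_one, det_one]
      mul_mem' := fun {a b} ha hb => by
        simp only [Set.mem_setOf_eq] at ha hb ⊢
        rw [map_mul, det_mul, ha, hb, one_mul]
      inv_mem' := fun {a} ha => by
        simp only [Set.mem_setOf_eq] at ha ⊢
        have h := congrArg (fun z => (toMat z).det) (mul_inv_cancel a)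
        simp only [map_mul, map_one, det_mul, det_one, ha, one_mul] at h
        exact h }
  have hK' : ∀ y, y ∈ K ↔ (toMat y).det = 1 := fun y => Iff.rfl
  haveI : K.Normal := ⟨fun a ha g => by
    rw [hK'] at ha ⊢
    rw [map_mul, map_mul, det_mul, det_mul, ha, mul_one, ← det_mul, ← map_mul, mul_inv_cancel, map_one,
      det_one]⟩
  have hle : Subgroup.center ↥(threeJ3 F ω) ≤ K := by
    intro y hy
    obtain ⟨k, hk, hyk⟩ := scalar_of_comm hg hy
    rw [hK']
    rw [hyk.2, dec_scC hg ⟨k, hk⟩, det_smul, det_one, mul_one,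
      show Fintype.card F9 = 9 by simp]
    obtain ⟨h0, -⟩ := omega_ne ω hg.two hg.eqn
    have h3 : ω ^ 3 = 1 := by linear_combination (ω - 1) * hg.eqn
    interval_cases k
    · simp [scal_one]
    · rw [scal_two, show (9 : ℕ) = 3 * 3 from rfl, pow_mul, h3, one_pow]
    · rw [scal_three hg, ← pow_mul, show (2 * 9 : ℕ) = 3 * 6 from rfl, pow_mul, h3, one_pow]
  by_cases hK : K ≤ Subgroup.center ↥(threeJ3 F ω)
  · exfalso
    obtain ⟨a, b, hab⟩ := not_comm_J3 hg
    induction a using QuotientGroup.induction_on with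
    | H a =>
    induction b using QuotientGroup.induction_on with
    | H b =>
    apply hab
    rw [← QuotientGroup.mk_mul, ← QuotientGroup.mk_mul, QuotientGroup.eq]
    apply hK
    rw [hK', map_mul, det_mul, map_mul toMat b, det_mul, mul_comm (toMat b).det, ← det_mul, ← map_mul,
      ← det_mul, ← map_mul, inv_mul_cancel, map_one, det_one]
  · exact (hK' x).1 (normal_eq_top hg K hle hK ▸ Subgroup.mem_top x)

end

end Cfsg.Agent.Lib.SporMatrix.J3
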